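import Cfsg.Agent.LocalThree.SymEightLocal.Split
import Cfsg.Agent.InvolCalc.ZStarApps
import Mathlib.GroupTheory.FixedPointFree
import Mathlib.GroupTheory.Transfer

/-!
Centralisers of involutions inside the subgroup of index four.
-/

set_option autoImplicit false
set_option synthInstance.maxSize 4096
set_option maxRecDepth 100000
set_option maxHeartbeats 1000000

namespace Cfsg.Lib.SymEightLocal

open Equiv Subgroup Cfsg.Lib.AltEightLocal

universe u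

/-- The moved three-cycle. -/
abbrev omA : Perm (Fin 5) := d5 * c5 * d5⁻¹
/-- The moved involution. -/
abbrev qA : Perm (Fin 5) := Equiv.swap 0 3 * Equiv.swap 1 4

theorem diag_facts : (∀ a : Pr, a * zP = zP * a → a * ((1 : Perm (Fin 3)), p1) = (1, p1) * a → a ^ 45 = 1 →
      ∃ i ∈ Finset.range 3, a = zP ^ i) ∧
    (∀ a ∈ cdP, a * P0 = P0 * a → a = 1 ∨ a = tP) ∧
    Perm.sign omA = 1 ∧ omA * omA * omA = 1 ∧ d5⁻¹ * omA * d5 = c5 ∧
    (omA⁻¹ * bB * omA = bB ∨ omA⁻¹ * bB * omA = qA ∨ omA⁻¹ * bB * omA = bB * qA) ∧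
    (omA⁻¹ * qA * omA = bB ∨ omA⁻¹ * qA * omA = qA ∨ omA⁻¹ * qA * omA = bB * qA) ∧
    tP * ((1 : Perm (Fin 3)), omA) * tP⁻¹ = (1, omA⁻¹ * qA) ∧
    (∃ s : Perm (Fin 5), Perm.sign s = 1 ∧ s * bB * s⁻¹ = qA) := by decide +kernel

theorem fix_p1 : ∀ i ∈ Finset.range 3, c5 ^ i * p1 * (c5 ^ i)⁻¹ = p1 → c5 ^ i = 1 := by decide +kernel

theorem reach_v : ∀ v ∈ vset, v ≠ 1 → ∃ i ∈ Finset.range 3, c5 ^ i * p1 * (c5 ^ i)⁻¹ = v := by decide +kernel

/-- An involution acting without fixed points inverts. -/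
theorem invert_of_fpf {G : Type u} [Group G] [Finite G] (O : Subgroup G) (s : G) (hs : s * s = 1)
    (hinv : ∀ o ∈ O, s * o * s⁻¹ ∈ O) (hfpf : ∀ o ∈ O, Commute s o → o = 1) :
    ∀ o ∈ O, s * o * s⁻¹ = o⁻¹ := by
  let ψ : O →* O := ((MulAut.conj s).toMonoidHom.comp O.subtype).codRestrict O fun o => hinv o o.2
  have h : MonoidHom.FixedPointFree ψ := fun o ho =>
    Subtype.ext (hfpf o o.2 (mul_inv_eq_iff_eq_mul.1 (congrArg Subtype.val ho)))
  have h2 : Function.Involutive ψ := fun o => Subtype.ext (by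
    show s * (s * o * s⁻¹) * s⁻¹ = o
    rw [show s * (s * (o : G) * s⁻¹) * s⁻¹ = (s * s) * o * (s * s)⁻¹ by group, hs]
    group)
  intro o ho
  exact congrArg Subtype.val (congrFun (h.coe_eq_inv_of_involutive h2) ⟨o, ho⟩)

theorem orderOf_conj_eq {G : Type u} [Group G] (g x : G) : orderOf (g * x * g⁻¹) = orderOf x :=
  (MulAut.conj g).orderOf_eq x

theorem eq_one_of_sq_odd {G : Type u} [Group G] {x : G} (h : x * x = 1) (ho : Odd (orderOf x)) : x = 1 :=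
  orderOf_eq_one_iff.1 (Nat.Coprime.eq_one_of_dvd ho.coprime_two_right
    (orderOf_dvd_of_pow_eq_one ((pow_two x).trans h)))

namespace Crossed

variable {G : Type u} [Group G] [Finite G] (B : Crossed G)

/-- The properties of the subgroup of index four. -/
structure Quarter (B : Crossed G) (K : Subgroup G) : Prop where
  normal : K.Normal
  le : B.φ.range ≤ K
  not32 : ¬ 32 ∣ Nat.card K
  inM : ∀ x ∈ K, x ∈ B.M → x ∈ B.D

theorem swap_range : B.swap.φ.range = B.φ.range := by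
  ext x
  exact ⟨fun ⟨⟨a, b⟩, h⟩ => ⟨(b, a), by rw [← h, swap_φ]⟩, fun ⟨⟨a, b⟩, h⟩ => ⟨(b, a), by rw [swap_φ, h]⟩⟩

theorem quarter_swap {K : Subgroup G} (hK : B.Quarter K) : B.swap.Quarter K where
  normal := hK.normal
  le := B.swap_range.le.trans hK.le
  not32 := hK.not32
  inM x hx hM := hK.inM x hx ⟨by rw [← B.swap_A]; exact hM.1, hM.2⟩

variable {B} {K : Subgroup G} (hK : B.Quarter K)

include hK

theorem A_le : B.A ≤ K := B.A_le_range.trans hK.le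

/-- Two-groups in a subgroup containing the group of order sixteen. -/
theorem sylow16 {C : Subgroup G} (hC : C ≤ K) (hA : B.A ≤ C) {P : Subgroup G} (hP : IsPGroup 2 P) (hPC : P ≤ C) :
    ∃ c ∈ C, ∀ x ∈ P, c * x * c⁻¹ ∈ B.A := by
  haveI : Fact (Nat.Prime 2) := ⟨Nat.prime_two⟩
  have hA2 : IsPGroup 2 (B.A.subgroupOf C) := IsPGroup.iff_card.2 ⟨4, by
    rw [Nat.card_congr (subgroupOfEquivOfLe hA).toEquiv, B.card_A]; rfl⟩
  obtain ⟨S, hS⟩ := hA2.exists_le_sylow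
  have hSA : B.A.subgroupOf C = S := eq_of_le_of_card_ge hS (by
    obtain ⟨k, hk⟩ := IsPGroup.iff_card.1 S.isPGroup'
    rw [Nat.card_congr (subgroupOfEquivOfLe hA).toEquiv, B.card_A, hk, show (16 : ℕ) = 2 ^ 4 from rfl]
    refine Nat.pow_le_pow_right (by norm_num) ?_
    by_contra h
    exact hK.not32 (((pow_dvd_pow 2 (show 5 ≤ k by omega)).trans hk.symm.dvd).trans
      ((card_subgroup_dvd_card _).trans (card_dvd_of_le hC))))
  obtain ⟨T, hT⟩ := (hP.comap_of_injective C.subtype C.subtype_injective).exists_le_sylow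
  obtain ⟨c, hc⟩ := MulAction.exists_smul_eq C T S
  refine ⟨c, c.2, fun x hx => ?_⟩
  have h : c * ⟨x, hPC hx⟩ * c⁻¹ ∈ (S : Subgroup C) := by
    rw [← hc]; exact ⟨_, hT (mem_comap.2 hx), rfl⟩
  rw [← hSA] at h
  exact h

/-- An involution moves into the group of order sixteen. -/
theorem toA {C : Subgroup G} (hC : C ≤ K) (hA : B.A ≤ C) {x : G} (hx : x ∈ C) (h2 : x * x = 1) :
    ∃ s ∈ C, s * x * s⁻¹ ∈ B.A := by
  have hp : IsPGroup 2 (zpowers x) := fun y => by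
    obtain ⟨k, hk⟩ := mem_zpowers_iff.1 y.2
    refine ⟨1, Subtype.ext ?_⟩
    push_cast
    rw [pow_two, ← hk, ← (Commute.refl x).mul_zpow, h2, one_zpow]
  obtain ⟨c, hc, h⟩ := sylow16 hK hC hA hp (zpowers_le.2 hx)
  exact ⟨c, hc, h x (mem_zpowers x)⟩

/-- Fusion inside a subgroup containing the group of order sixteen. -/
theorem fusionS {C : Subgroup G} (hC : C ≤ K) (hA : B.A ≤ C) {g a : G} (hg : g ∈ C) (ha : a ∈ B.A)
    (hga : g * a * g⁻¹ ∈ B.A) : ∃ d ∈ B.D, d ∈ C ∧ d * a * d⁻¹ = g * a * g⁻¹ := by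
  set b := g * a * g⁻¹ with hb
  set C' := C ⊓ centralizer ({b} : Set G)
  have hA' : B.A ≤ C' := fun x hx => ⟨hA hx, mem_centralizer_singleton_iff.2 (B.A_comm hx hga).eq⟩
  have hP : IsPGroup 2 (B.A.map (MulAut.conj g).toMonoidHom) := IsPGroup.iff_card.2 ⟨4, by
    rw [card_map_of_injective (MulAut.conj g).injective, B.card_A]; rfl⟩
  obtain ⟨c, hc, h⟩ := sylow16 hK (C := C') (inf_le_left.trans hC) hA' hP (by
    rintro _ ⟨x, hx, rfl⟩
    refine mem_inf.2 ⟨(mul_mem (mul_mem hg (hA hx)) (inv_mem hg) : g * x * g⁻¹ ∈ C), mem_centralizer_singleton_iff.2 ?_⟩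
    show g * x * g⁻¹ * b = b * (g * x * g⁻¹)
    rw [hb, conj_mul, conj_mul, (B.A_comm hx ha).eq])
  have hN : c * g ∈ normalizer (B.A : Set G) := mem_normalizer_fintype fun x hx => by
    have := h _ ⟨x, hx, rfl⟩
    show c * g * x * (c * g)⁻¹ ∈ B.A
    convert this using 1
    show _ = c * (g * x * g⁻¹) * c⁻¹
    group
  obtain ⟨a0, ha0, hM⟩ := B.NA_decomp hN
  have hmC : a0 * (c * g) ∈ C := mul_mem (hA ha0) (mul_mem hc.1 hg)
  refine ⟨_, hK.inM _ (hC hmC) hM, hmC, ?_⟩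
  have hcb : c * b * c⁻¹ = b := mul_inv_eq_iff_eq_mul.2 (mem_centralizer_singleton_iff.1 hc.2)
  calc a0 * (c * g) * a * (a0 * (c * g))⁻¹ = a0 * (c * (g * a * g⁻¹) * c⁻¹) * a0⁻¹ := by group
    _ = a0 * b * a0⁻¹ := by rw [← hb, hcb]
    _ = b := by rw [(B.A_comm ha0 hga).eq, mul_inv_cancel_right]

/-- Odd elements of the centraliser of the diagonal involution. -/
def OddFix (K : Subgroup G) (p : G) (x : G) : Prop := x ∈ K ∧ Commute x p ∧ Odd (orderOf x)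

omit hK in
theorem oddFix_conj (hn : K.Normal) {p g x : G} (hg : g * p * g⁻¹ = p) (hx : OddFix K p x) :
    OddFix K p (g * x * g⁻¹) :=
  ⟨hn.conj_mem x hx.1 g, by
    rw [← hg]; show _ * _ = _ * _; rw [conj_mul, conj_mul, hx.2.1.eq],
    by rw [orderOf_conj_eq]; exact hx.2.2⟩

/-- The diagonal element inside. -/
def pd (B : Crossed G) : G := B.φ (⟨p1, p1_mem⟩, ⟨p1, p1_mem⟩)

omit hK in
theorem pd_mem : pd B ∈ B.A := B.mem_A.2 ⟨_, v_facts.2.2.2.2.1, _, v_facts.2.2.2.2.1, rfl⟩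

omit hK in
theorem D_left_fix {d : G} (hd : d ∈ B.D) (h : Commute d (B.φ (⟨p1, p1_mem⟩, 1))) :
    ∃ i : ℕ, d = B.toLoc.z ^ i := by
  obtain ⟨t, ht, rfl⟩ := B.toLoc.of_mem_D hd
  obtain ⟨p, hp, rfl⟩ := Finset.mem_image.1 ht
  obtain ⟨i, j⟩ := p
  rw [Finset.mem_product] at hp
  set c : A5 := ⟨c5, c5_mem⟩
  have e : B.f (zP ^ i * wP ^ j) = B.φ (c ^ j, c ^ i) := by
    rw [map_mul, map_pow, map_pow, show B.f zP = B.toLoc.z from rfl, show B.f wP = B.toLoc.w from rfl, B.z_eq, B.w_eq,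
      ← map_pow, ← map_pow, ← map_mul]
    exact congrArg B.φ (Prod.ext (by simp [c]) (by simp [c]))
  have h' : c ^ j * ⟨p1, p1_mem⟩ * (c ^ j)⁻¹ = ⟨p1, p1_mem⟩ := by
    rw [e] at h
    have h1 := congrArg Prod.fst (B.φ_inj ((map_mul B.φ _ _).trans (h.eq.trans (map_mul B.φ _ _).symm)))
    exact mul_inv_eq_iff_eq_mul.2 h1
  have h'' : c5 ^ j * p1 * (c5 ^ j)⁻¹ = p1 := by
    have := congrArg Subtype.val h'
    simpa [c] using this
  have hj : c ^ j = 1 := Subtype.ext (by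
    rw [SubmonoidClass.coe_pow]; exact fix_p1 j hp.2 h'')
  refine ⟨i, ?_⟩
  rw [e, hj, B.z_eq, ← map_pow]
  exact congrArg B.φ (Prod.ext (one_pow i).symm rfl)

omit hK in
theorem D_fix {d : G} (hd : d ∈ B.D) (h : Commute d (pd B)) : d = 1 := by
  obtain ⟨t, ht, rfl⟩ := B.toLoc.of_mem_D hd
  obtain ⟨p, hp, rfl⟩ := Finset.mem_image.1 ht
  obtain ⟨i, j⟩ := p
  rw [Finset.mem_product] at hp
  set c : A5 := ⟨c5, c5_mem⟩
  have e : B.f (zP ^ i * wP ^ j) = B.φ (c ^ j, c ^ i) := by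
    rw [map_mul, map_pow, map_pow, show B.f zP = B.toLoc.z from rfl, show B.f wP = B.toLoc.w from rfl, B.z_eq, B.w_eq,
      ← map_pow, ← map_pow, ← map_mul]
    exact congrArg B.φ (Prod.ext (by simp [c]) (by simp [c]))
  rw [e] at h ⊢
  have h1 := B.φ_inj ((map_mul B.φ _ _).trans (h.eq.trans (map_mul B.φ _ _).symm))
  have key : ∀ k ∈ Finset.range 3, c ^ k * ⟨p1, p1_mem⟩ = ⟨p1, p1_mem⟩ * c ^ k → c ^ k = 1 := fun k hk hck =>
    Subtype.ext (by
      rw [SubmonoidClass.coe_pow]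
      refine fix_p1 k hk (mul_inv_eq_iff_eq_mul.2 ?_)
      simpa [c] using congrArg Subtype.val hck)
  rw [key j hp.2 (congrArg Prod.fst h1), key i hp.1 (congrArg Prod.snd h1)]
  exact map_one _

/-- The odd elements form a complement. -/
theorem exists_core : ∃ O : Subgroup G, (∀ x, x ∈ O ↔ OddFix K (pd B) x) ∧
    ∀ x ∈ K, Commute x (pd B) → ∃ o ∈ O, o⁻¹ * x ∈ B.A := by
  haveI : Fact (Nat.Prime 2) := ⟨Nat.prime_two⟩
  set C := K ⊓ centralizer ({pd B} : Set G)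
  have hAC : B.A ≤ C := fun x hx => ⟨A_le hK hx, mem_centralizer_singleton_iff.2 (B.A_comm hx pd_mem).eq⟩
  have hA2 : IsPGroup 2 (B.A.subgroupOf C) := IsPGroup.iff_card.2 ⟨4, by
    rw [Nat.card_congr (subgroupOfEquivOfLe hAC).toEquiv, B.card_A]; rfl⟩
  obtain ⟨S, hS⟩ := hA2.exists_le_sylow
  have hSA : B.A.subgroupOf C = S := eq_of_le_of_card_ge hS (by
    obtain ⟨k, hk⟩ := IsPGroup.iff_card.1 S.isPGroup'
    rw [Nat.card_congr (subgroupOfEquivOfLe hAC).toEquiv, B.card_A, hk, show (16 : ℕ) = 2 ^ 4 from rfl]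
    refine Nat.pow_le_pow_right (by norm_num) ?_
    by_contra h
    exact hK.not32 (((pow_dvd_pow 2 (show 5 ≤ k by omega)).trans hk.symm.dvd).trans
      ((card_subgroup_dvd_card _).trans (card_dvd_of_le inf_le_left))))
  have hNC : normalizer ((S : Subgroup C) : Set C) ≤ centralizer ((S : Subgroup C) : Set C) := by
    intro x hx
    rw [← hSA] at hx ⊢
    have hxN : (x : G) ∈ normalizer (B.A : Set G) := mem_normalizer_fintype fun a ha => by
      exact (mem_normalizer_iff.1 hx ⟨a, hAC ha⟩).1 ha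
    obtain ⟨a, ha, hM⟩ := B.NA_decomp hxN
    have hxa : (x : G) ∈ B.A := by
      have h1 := D_fix (hK.inM _ (mul_mem (A_le hK ha) x.2.1) hM)
        ((B.A_comm ha pd_mem).mul_left (mem_centralizer_singleton_iff.1 x.2.2))
      rw [eq_inv_of_mul_eq_one_right h1]; exact inv_mem ha
    exact mem_centralizer_iff.2 fun y hy => Subtype.ext (B.A_comm hy hxa).eq
  set T := MonoidHom.transferSylow S hNC
  have hcompl := MonoidHom.ker_transferSylow_isComplement' S hNC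
  have hnd : ¬ 2 ∣ Nat.card T.ker := MonoidHom.not_dvd_card_ker_transferSylow S hNC
  refine ⟨T.ker.map C.subtype, fun x => ⟨?_, fun hx => ?_⟩, fun x hx hc => ?_⟩
  · rintro ⟨y, hy, rfl⟩
    refine ⟨y.2.1, mem_centralizer_singleton_iff.1 y.2.2, ?_⟩
    rw [C.subtype_apply, orderOf_coe, ← orderOf_mk y hy, ← Nat.not_even_iff_odd, even_iff_two_dvd]
    exact fun h => hnd (h.trans (orderOf_dvd_natCard _))
  · have hxC : x ∈ C := ⟨hx.1, mem_centralizer_singleton_iff.2 hx.2.1.eq⟩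
    refine ⟨⟨x, hxC⟩, orderOf_eq_one_iff.1 ?_, rfl⟩
    obtain ⟨k, hk⟩ := IsPGroup.iff_card.1 S.isPGroup'
    have h1 := orderOf_dvd_natCard (T ⟨x, hxC⟩)
    rw [hk] at h1
    refine Nat.Coprime.eq_one_of_dvd ?_ h1
    refine Nat.Coprime.coprime_dvd_left (orderOf_map_dvd T _) ?_
    rw [orderOf_mk]
    exact hx.2.2.coprime_two_right.pow_right k
  · have hxC : x ∈ C := ⟨hx, mem_centralizer_singleton_iff.2 hc.eq⟩
    obtain ⟨⟨o, s⟩, hos⟩ := hcompl.2 ⟨x, hxC⟩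
    refine ⟨_, mem_map_of_mem C.subtype o.2, ?_⟩
    have hsA : (s : C) ∈ B.A.subgroupOf C := hSA.ge s.2
    have e : ((o : C) : G) * ((s : C) : G) = x := congrArg Subtype.val hos
    rw [C.subtype_apply, ← e, inv_mul_cancel_left]
    exact hsA

omit hK in
theorem p0_g : B.p0 = B.toLoc.g P0 := by
  rw [show P0 = eP * (1, bB) from rfl, map_mul, (B.toLoc.gB B.hB).1, (B.toLoc.gB B.hB).2,
    (show Commute B.toLoc.u B.toLoc.r from B.toLoc.comm_f (by decide +kernel)).eq]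
  exact map_mul B.f _ _

omit hK in
theorem r_φ : B.toLoc.r = B.φ (1, ⟨bB, bB_mem⟩) := by rw [φ_right, Loc.e2_apply, (B.toLoc.gB B.hB).2]

omit hK in
theorem u_φ : B.toLoc.u = B.φ (⟨bB, bB_mem⟩, 1) := by rw [φ_left, Loc.e1_apply]

omit hK in
theorem qA_mem : qA ∈ A5 := by rw [Perm.mem_alternatingGroup]; decide +kernel

section Moved

variable (O : Subgroup G) (hO : ∀ x, x ∈ O ↔ OddFix K B.p0 x)

include hO

omit hK in
theorem O_cent_t {o : G} (ho : o ∈ O) (h : Commute B.toLoc.t o) : o = 1 := by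
  obtain ⟨-, hp, hodd⟩ := (hO o).1 ho
  have hN := B.toLoc.centT_le B.hB (mem_centralizer_singleton_iff.2 h.symm.eq)
  have hC : o ∈ centralizer (B.D : Set G) := by
    refine (B.toLoc.aut_ker ⟨o, hN⟩).1 (orderOf_eq_one_iff.1 ?_)
    refine Nat.Coprime.eq_one_of_dvd (k := orderOf (B.toLoc.aut ⟨o, hN⟩)) ?_
      (show _ ∣ 2 ^ 3 by rw [show (2 : ℕ) ^ 3 = Nat.card (DihedralGroup 4) by rw [DihedralGroup.nat_card]; rfl]; exact orderOf_dvd_natCard _)
    refine Nat.Coprime.coprime_dvd_left (orderOf_map_dvd B.toLoc.aut _) ?_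
    rw [orderOf_mk]
    exact hodd.coprime_two_right.pow_right 3
  obtain ⟨a, ha, rfl⟩ := B.toLoc.cenD (B.toLoc.mem_centD.1 hC).1 (B.toLoc.mem_centD.1 hC).2
  rcases diag_facts.2.1 a ha (B.toLoc.comm_f_iff.1 hp) with rfl | rfl
  · exact map_one _
  · exact absurd (eq_one_of_sq_odd B.toLoc.t_sq hodd) B.toLoc.t_ne

theorem O_conj {g : G} (hg : g * B.p0 * g⁻¹ = B.p0) {o : G} (ho : o ∈ O) : g * o * g⁻¹ ∈ O :=
  (hO _).2 (oddFix_conj hK.normal hg ((hO o).1 ho))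

omit hK hO in
theorem moved {Q x y : G} (h : Q * x * Q⁻¹ = y) {o : G} (hc : Commute y o) : Commute x (Q⁻¹ * o * Q) := by
  show _ * _ = _ * _
  calc x * (Q⁻¹ * o * Q) = Q⁻¹ * ((Q * x * Q⁻¹) * o) * Q := by group
    _ = _ := by rw [h, hc.eq, ← h]; group

/-- The two involutions centralise the odd part. -/
theorem O_ru : ∀ o ∈ O, Commute B.toLoc.r o ∧ Commute B.toLoc.u o := by
  have ht : B.toLoc.t * B.p0 * B.toLoc.t⁻¹ = B.p0 := conj_hom B.f (by decide +kernel)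
  have hr : B.toLoc.r * B.p0 * B.toLoc.r⁻¹ = B.p0 := conj_hom B.f (by decide +kernel)
  have hu : B.toLoc.u * B.p0 * B.toLoc.u⁻¹ = B.p0 := conj_hom B.f (by decide +kernel)
  have hi := invert_of_fpf O _ B.toLoc.t_sq (fun o ho => O_conj hK O hO ht ho) (fun o ho => O_cent_t O hO ho)
  have gen : ∀ (s Q : G), s * B.p0 * s⁻¹ = B.p0 → Commute s B.toLoc.t → s * s = 1 →
      Q * B.toLoc.t * Q⁻¹ = s * B.toLoc.t → Q * B.p0 * Q⁻¹ = B.p0 → ∀ o ∈ O, Commute s o := by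
    intro s Q hs hst hs2 hQt hQp o ho
    have hst' : s * B.toLoc.t * B.p0 * (s * B.toLoc.t)⁻¹ = B.p0 := by
      rw [show s * B.toLoc.t * B.p0 * (s * B.toLoc.t)⁻¹ = s * (B.toLoc.t * B.p0 * B.toLoc.t⁻¹) * s⁻¹ by group, ht, hs]
    have hi' := invert_of_fpf O (s * B.toLoc.t) (by rw [hst.symm.mul_mul_mul_comm, hs2, B.toLoc.t_sq, one_mul])
      (fun o ho => O_conj hK O hO hst' ho) (fun o ho hc => by
        have h1 : Q⁻¹ * o * Q ∈ O := by
          have := O_conj hK O hO (g := Q⁻¹) (by nth_rw 1 [← hQp]; group) ho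
          rwa [inv_inv] at this
        have h2 := O_cent_t O hO h1 (moved hQt hc)
        calc o = Q * (Q⁻¹ * o * Q) * Q⁻¹ := by group
          _ = 1 := by rw [h2]; group)
    have h3 := hi' _ (inv_mem ho)
    rw [inv_inv, show s * B.toLoc.t * o⁻¹ * (s * B.toLoc.t)⁻¹ = s * (B.toLoc.t * o⁻¹ * B.toLoc.t⁻¹) * s⁻¹ by group,
      hi _ (inv_mem ho), inv_inv] at h3
    exact mul_inv_eq_iff_eq_mul.1 h3
  refine fun o ho => ⟨gen B.toLoc.r (B.toLoc.g qP) hr (B.toLoc.comm_f (by decide +kernel)) ?_ ?_ ?_ o ho,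
    gen B.toLoc.u (B.f qP) hu (B.toLoc.comm_f (by decide +kernel)) ?_ ?_ ?_ o ho⟩
  · exact B.toLoc.sq_of_isU (B.toLoc.isU_r B.hB)
  · rw [← B.toLoc.gt, ← (B.toLoc.gB B.hB).2, ← map_mul B.toLoc.g (1, bB) tP]
    exact conj_hom B.toLoc.g (by decide +kernel)
  · rw [p0_g]; exact conj_hom B.toLoc.g (by decide +kernel)
  · exact B.toLoc.sq_of_isU B.toLoc.isU_u
  · show _ = B.f (1, bB) * B.f tP
    rw [← map_mul B.f (1, bB) tP]; exact conj_hom B.f (by decide +kernel)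
  · exact conj_hom B.f (by decide +kernel)

/-- The second moved involution inverts the odd part. -/
theorem O_q : ∀ o ∈ O, B.toLoc.g qP * o * (B.toLoc.g qP)⁻¹ = o⁻¹ := by
  have hqp : B.toLoc.g qP * B.p0 * (B.toLoc.g qP)⁻¹ = B.p0 := by rw [p0_g]; exact conj_hom B.toLoc.g (by decide +kernel)
  refine invert_of_fpf O _ (by rw [← map_mul, show qP * qP = 1 by decide +kernel, map_one])
    (fun o ho => O_conj hK O hO hqp ho) ?_
  -- the common fixed points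
  set om : G := B.toLoc.g (1, omA) with hom
  have hq : B.toLoc.g qP = B.toLoc.g (1, qA) := rfl
  have hOX : ∀ v : Perm (Fin 5), (v = bB ∨ v = qA ∨ v = bB * qA) → ∀ o ∈ O, Commute (B.toLoc.g qP) o →
      Commute (B.toLoc.g (1, v)) o := by
    intro v hv o ho hc
    have hr := (O_ru hK O hO o ho).1
    rw [show B.toLoc.r = B.toLoc.g (1, bB) from (B.toLoc.gB B.hB).2.symm] at hr
    rcases hv with rfl | rfl | rfl
    · exact hr
    · exact hc
    · rw [show ((1 : Perm (Fin 3)), bB * qA) = (1, bB) * (1, qA) by simp, map_mul]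
      exact hr.mul_left hc
  have hback : ∀ {x o : G}, Commute (om⁻¹ * x * om) o → Commute x (om * o * om⁻¹) := fun {x o} h => by
    show _ * _ = _ * _
    calc x * (om * o * om⁻¹) = om * (om⁻¹ * x * om * o) * om⁻¹ := by group
      _ = _ := by rw [h.eq]; group
  have hommem : ∀ o ∈ O, Commute (B.toLoc.g qP) o → om * o * om⁻¹ ∈ O ∧ Commute (B.toLoc.g qP) (om * o * om⁻¹) := by
    intro o ho hc
    obtain ⟨ho1, -, ho3⟩ := (hO o).1 ho
    refine ⟨(hO _).2 ⟨hK.normal.conj_mem o ho1 om, (hback ?_).symm, by rw [orderOf_conj_eq]; exact ho3⟩, hback ?_⟩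
    · rw [hom, p0_g, ← map_inv, ← map_mul, ← map_mul,
        show ((1 : Perm (Fin 3)), omA)⁻¹ * P0 * (1, omA) = eP * (1, omA⁻¹ * bB * omA) from
          Prod.ext (by decide +kernel) (by decide +kernel), map_mul, (B.toLoc.gB B.hB).1]
      exact (O_ru hK O hO o ho).2.mul_left (hOX _ diag_facts.2.2.2.2.2.1 o ho hc)
    · rw [hom, hq, ← map_inv, ← map_mul, ← map_mul,
        show ((1 : Perm (Fin 3)), omA)⁻¹ * (1, qA) * (1, omA) = (1, omA⁻¹ * qA * omA) from Prod.ext (by simp) rfl]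
      exact hOX _ diag_facts.2.2.2.2.2.2.1 o ho hc
  intro o ho hc
  have ht := invert_of_fpf O _ B.toLoc.t_sq
    (fun o ho => O_conj hK O hO (conj_hom B.f (by decide +kernel)) ho) (fun o ho => O_cent_t O hO ho)
  obtain ⟨hoo, hoc⟩ := hommem o ho hc
  have htom : B.toLoc.t * om * B.toLoc.t⁻¹ = om⁻¹ * B.toLoc.g qP := by
    rw [hom, ← B.toLoc.gt, hq, conj_hom B.toLoc.g diag_facts.2.2.2.2.2.2.2.1, ← map_inv, ← map_mul]
    exact congrArg B.toLoc.g (Prod.ext (by simp) rfl)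
  -- conjugation commutes with inversion
  have key : om * o⁻¹ * om⁻¹ = om⁻¹ * o⁻¹ * om := by
    have h1 := ht _ hoo
    rw [show B.toLoc.t * (om * o * om⁻¹) * B.toLoc.t⁻¹ = (B.toLoc.t * om * B.toLoc.t⁻¹) *
      (B.toLoc.t * o * B.toLoc.t⁻¹) * (B.toLoc.t * om * B.toLoc.t⁻¹)⁻¹ by group, htom, ht o ho, show (om * o * om⁻¹)⁻¹ = om * o⁻¹ * om⁻¹ by group] at h1
    rw [← h1]
    calc om⁻¹ * B.toLoc.g qP * o⁻¹ * (om⁻¹ * B.toLoc.g qP)⁻¹
        = om⁻¹ * (B.toLoc.g qP * o⁻¹) * (B.toLoc.g qP)⁻¹ * om := by group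
      _ = _ := by rw [hc.inv_right.eq]; group
  have hom3 : om * om * om = 1 := by
    rw [hom, ← map_mul, ← map_mul, show ((1 : Perm (Fin 3)), omA) * (1, omA) * (1, omA) = 1 from
      Prod.ext (by simp) diag_facts.2.2.2.1, map_one]
  have hcom : Commute om o := by
    have h2 : Commute (om * om) o⁻¹ := by
      show _ * _ = _ * _
      calc om * om * o⁻¹ = om * (om * o⁻¹ * om⁻¹) * om := by group
        _ = _ := by rw [key]; group
    have h3 : Commute (om * om)⁻¹ o := by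
      have := Commute.inv_inv_iff.2 h2
      rwa [inv_inv] at this
    rwa [← eq_inv_of_mul_eq_one_left (show om * (om * om) = 1 by rw [← mul_assoc, hom3])] at h3
  -- back in the frame
  obtain ⟨-, -, hodd⟩ := (hO o).1 ho
  obtain ⟨hr, hu⟩ := O_ru hK O hO o ho
  set y := B.hh⁻¹ * o * B.hh with hy
  have hconj : ∀ {x : G}, Commute x o → Commute (B.hh⁻¹ * x * B.hh) y := fun {x} h => by
    show _ * _ = _ * _
    rw [hy, show B.hh⁻¹ * x * B.hh * (B.hh⁻¹ * o * B.hh) = B.hh⁻¹ * (x * o) * B.hh by group, h.eq]; group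
  have hmove : ∀ a b : A5, B.hh⁻¹ * B.φ (a, b) * B.hh =
      B.φ ((⟨d5, d5_mem⟩ : A5)⁻¹ * a * ⟨d5, d5_mem⟩, (⟨d5, d5_mem⟩ : A5)⁻¹ * b * ⟨d5, d5_mem⟩) := fun a b => by
    rw [B.hh_eq, ← map_inv, ← map_mul, ← map_mul]; rfl
  have hone : (⟨d5, d5_mem⟩ : A5)⁻¹ * 1 * ⟨d5, d5_mem⟩ = 1 := by group
  have hbb : (⟨d5, d5_mem⟩ : A5)⁻¹ * ⟨bB, bB_mem⟩ * ⟨d5, d5_mem⟩ = ⟨p1, p1_mem⟩ := Subtype.ext (by
    show d5⁻¹ * bB * d5 = p1; decide +kernel)
  have y1 : Commute (B.toLoc.e1 ⟨p1, p1_mem⟩) y := by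
    have := hconj hu
    rwa [u_φ, hmove, hone, hbb, φ_left] at this
  have y2 : Commute (B.toLoc.e2 ⟨p1, p1_mem⟩) y := by
    have := hconj hr
    rwa [r_φ, hmove, hone, hbb, φ_right] at this
  have y3 : Commute B.toLoc.z y := by
    have h := hconj hcom
    rw [hom, show B.toLoc.g (1, omA) = B.φ (1, ⟨omA, Perm.mem_alternatingGroup.2 diag_facts.2.2.1⟩) from
      (B.φ_right ⟨omA, Perm.mem_alternatingGroup.2 diag_facts.2.2.1⟩).symm, hmove, hone] at h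
    rwa [B.z_eq, show (⟨c5, c5_mem⟩ : A5) = (⟨d5, d5_mem⟩ : A5)⁻¹ * ⟨omA, Perm.mem_alternatingGroup.2 diag_facts.2.2.1⟩ *
      ⟨d5, d5_mem⟩ from Subtype.ext diag_facts.2.2.2.2.1.symm]
  obtain ⟨a, hae, haz⟩ := B.toLoc.cent_z y3.symm
  have hyo : orderOf y = orderOf o := by
    rw [hy, show B.hh⁻¹ * o * B.hh = B.hh⁻¹ * o * B.hh⁻¹⁻¹ by group, orderOf_conj_eq]
  have h45 : a ^ 45 = 1 := by
    refine orderOf_dvd_iff_pow_eq_one.1 ?_
    have h1 : orderOf a ∣ 45 * 2 ^ 4 := by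
      refine orderOf_dvd_natCard a |>.trans ?_
      rw [Nat.card_prod, Nat.card_perm, Nat.card_perm, Nat.card_fin, Nat.card_fin]
      rfl
    refine Nat.Coprime.dvd_of_dvd_mul_right ?_ h1
    rw [← orderOf_injective _ B.f_inj a, show B.f a = y from hae, hyo]
    exact hodd.coprime_two_right.pow_right 4
  obtain ⟨i, hi, rfl⟩ := diag_facts.1 a haz (B.toLoc.comm_f_iff.1 (hae.symm ▸ y1).symm) h45
  have hgy : B.toLoc.g (wP ^ i) = y := by rw [map_pow, B.toLoc.gz, ← map_pow]; exact hae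
  rw [← hgy, Loc.e2_apply] at y2
  obtain rfl := v_facts.1 i hi (B.toLoc.comm_g_iff.1 y2.symm)
  rw [pow_zero, map_one] at hgy
  calc o = B.hh * (B.hh⁻¹ * o * B.hh) * B.hh⁻¹ := by group
    _ = 1 := by rw [← hy, ← hgy]; group

end Moved

omit hK in
theorem swap_p0 : B.swap.p0 = B.p0 := (p0_g).symm

omit hK in
theorem swap_gq : B.swap.toLoc.g qP = B.f qP := B.toLoc.swap_g qP

/-- The odd part is trivial. -/
theorem O_trivial {x : G} (hx : OddFix K B.p0 x) : x = 1 := by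
  obtain ⟨O0, hO0, -⟩ := exists_core hK
  set O := O0.map (MulAut.conj B.hh).toMonoidHom with hOdef
  have hhp : B.hh * pd B * B.hh⁻¹ = B.p0 := by rw [pd, ← B.p0_back]; group
  have hO : ∀ y, y ∈ O ↔ OddFix K B.p0 y := by
    intro y
    rw [← hhp]
    constructor
    · rintro ⟨o, ho, rfl⟩
      obtain ⟨h1, h2, h3⟩ := (hO0 o).1 ho
      exact ⟨hK.normal.conj_mem o h1 _, by
        show _ * _ = _ * _; show B.hh * o * B.hh⁻¹ * _ = _ * (B.hh * o * B.hh⁻¹); rw [conj_mul, conj_mul, h2.eq],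
        by show Odd (orderOf (B.hh * o * B.hh⁻¹)); rw [orderOf_conj_eq]; exact h3⟩
    · rintro ⟨h1, h2, h3⟩
      refine ⟨B.hh⁻¹ * y * B.hh⁻¹⁻¹, (hO0 _).2 ⟨hK.normal.conj_mem y h1 _, ?_, by rw [orderOf_conj_eq]; exact h3⟩,
        by show B.hh * (B.hh⁻¹ * y * B.hh⁻¹⁻¹) * B.hh⁻¹ = y; group⟩
      show _ * _ = _ * _
      calc B.hh⁻¹ * y * B.hh⁻¹⁻¹ * pd B = B.hh⁻¹ * (y * (B.hh * pd B * B.hh⁻¹)) * B.hh := by group
        _ = _ := by rw [h2.eq]; group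
  have hxO := (hO x).2 hx
  have hq := O_q hK O hO
  have hs := O_q (B.quarter_swap hK) O (fun y => by rw [hO y, swap_p0]) 
  simp only [swap_gq] at hs
  set dd : A5 := ⟨qA, qA_mem⟩
  have hqs : B.toLoc.g qP * B.f qP = B.φ (dd, dd) := by
    rw [φ_apply, (B.toLoc.comm_e B.hB dd dd).eq]; rfl
  have hcent : ∀ o ∈ O, Commute o (B.φ (dd, dd)) := fun o ho => by
    refine (mul_inv_eq_iff_eq_mul.1 ?_ : Commute (B.φ (dd, dd)) o).symm
    rw [← hqs, show B.toLoc.g qP * B.f qP * o * (B.toLoc.g qP * B.f qP)⁻¹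
      = B.toLoc.g qP * (B.f qP * o * (B.f qP)⁻¹) * (B.toLoc.g qP)⁻¹ by group, hs o ho, hq _ (inv_mem ho), inv_inv]
  obtain ⟨s, hs1, hsq⟩ := diag_facts.2.2.2.2.2.2.2.2
  set s' : A5 := ⟨s, Perm.mem_alternatingGroup.2 hs1⟩
  set d := B.φ (s', s') with hd
  have hsb : s' * ⟨bB, bB_mem⟩ * s'⁻¹ = dd := Subtype.ext hsq
  have hd0 : d * B.p0 * d⁻¹ = B.φ (dd, dd) := by
    rw [hd, B.p0_eq, ← map_inv, ← map_mul, ← map_mul]; exact congrArg B.φ (Prod.ext hsb hsb)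
  have hdr : d * B.toLoc.r * d⁻¹ = B.toLoc.g qP := by
    rw [hd, r_φ, ← map_inv, ← map_mul, ← map_mul, show B.toLoc.g qP = B.φ (1, dd) from (B.φ_right dd).symm]
    exact congrArg B.φ (Prod.ext (by simp) hsb)
  have hmem : d⁻¹ * x * d ∈ O := (hO _).2 ⟨by
      have := hK.normal.conj_mem x hx.1 d⁻¹; rwa [inv_inv] at this,
    (moved hd0 (hcent x hxO).symm).symm, by
      rw [show d⁻¹ * x * d = d⁻¹ * x * d⁻¹⁻¹ by group, orderOf_conj_eq]; exact hx.2.2⟩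
  have hcq : Commute (B.toLoc.g qP) x := by
    have h := (O_ru hK O hO _ hmem).1
    rw [← hdr]
    show _ * _ = _ * _
    calc d * B.toLoc.r * d⁻¹ * x = d * (B.toLoc.r * (d⁻¹ * x * d)) * d⁻¹ := by group
      _ = _ := by rw [h.eq]; group
  have h := hq x hxO
  rw [hcq.eq, mul_inv_cancel_right] at h
  exact eq_one_of_sq_odd (by nth_rw 2 [h]; exact mul_inv_cancel x) hx.2.2

/-- The centraliser of a diagonal involution. -/
theorem cent_diag {a b : A5} (ha : a ∈ V) (hb : b ∈ V) (ha1 : a ≠ 1) (hb1 : b ≠ 1) {x : G} (hx : x ∈ K)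
    (hc : Commute x (B.φ (a, b))) : x ∈ B.A := by
  have hhp : B.hh * pd B * B.hh⁻¹ = B.p0 := by rw [pd, ← B.p0_back]; group
  have h0 : ∀ y ∈ K, Commute y (pd B) → y ∈ B.A := fun y hy hyc => by
    obtain ⟨O, hO, hsplit⟩ := exists_core hK
    obtain ⟨o, ho, hoA⟩ := hsplit y hy hyc
    obtain ⟨h1, h2, h3⟩ := (hO o).1 ho
    have h4 : B.hh * o * B.hh⁻¹ = 1 := O_trivial hK ⟨hK.normal.conj_mem o h1 _, by
      rw [← hhp]; show _ * _ = _ * _; rw [conj_mul, conj_mul, h2.eq], by rw [orderOf_conj_eq]; exact h3⟩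
    rwa [conj_eq_one_iff.1 h4, inv_one, one_mul] at hoA
  obtain ⟨c, hcr, hce⟩ := B.diag_conj ha hb ha1 hb1
  set e := c * B.hh with he
  have hep : e * pd B * e⁻¹ = B.φ (a, b) := by
    rw [← hce, ← hhp, he]; group
  have hback : ∀ y ∈ K, Commute y (B.φ (a, b)) → y ∈ B.A.map (MulAut.conj e).toMonoidHom := fun y hy hyc =>
    ⟨e⁻¹ * y * e⁻¹⁻¹, h0 _ (hK.normal.conj_mem y hy _) (by
      show _ * _ = _ * _
      calc e⁻¹ * y * e⁻¹⁻¹ * pd B = e⁻¹ * (y * (e * pd B * e⁻¹)) * e := by group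
        _ = _ := by rw [hep, hyc.eq, ← hep]; group), by show e * (e⁻¹ * y * e⁻¹⁻¹) * e⁻¹ = y; group⟩
  have heq : B.A = B.A.map (MulAut.conj e).toMonoidHom :=
    eq_of_le_of_card_ge (fun y hy => hback y (A_le hK hy) (B.A_comm hy (B.mem_A.2 ⟨a, ha, b, hb, rfl⟩)))
      (by rw [card_map_of_injective (MulAut.conj e).injective])
  rw [heq]
  exact hback x hx hc

/-- An involution of the first factor is centralised only with the whole four-group. -/
theorem cent_left_base {x : G} (hx : x ∈ K) (hc : Commute x (B.φ (⟨p1, p1_mem⟩, 1))) {v : A5} (hv : v ∈ V) :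
    Commute x (B.φ (v, 1)) := by
  set P1 : A5 := ⟨p1, p1_mem⟩
  have hP2 : p2 ∈ vset := by decide +kernel
  set P2 : A5 := ⟨p2, Perm.mem_alternatingGroup.2 (vset_grp.2.2.1 _ hP2)⟩
  have hP1V : P1 ∈ V := v_facts.2.2.2.2.1
  set C := K ⊓ centralizer ({B.φ (P1, 1)} : Set G)
  have hA : ∀ {a b : A5}, a ∈ V → b ∈ V → B.φ (a, b) ∈ B.A := fun ha hb => B.mem_A.2 ⟨_, ha, _, hb, rfl⟩
  have hAC : B.A ≤ C := fun y hy =>
    ⟨A_le hK hy, mem_centralizer_singleton_iff.2 (B.A_comm hy (hA hP1V (one_mem V))).eq⟩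
  set σ : C := ⟨B.φ (P2, 1), hAC (hA hP2 (one_mem V))⟩
  have hσ1 : B.φ (P2, 1) ≠ 1 := fun e => by
    have := congrArg (fun p : A5 × A5 => (p.1 : Perm (Fin 5))) (B.φ_inj (e.trans (map_one B.φ).symm))
    exact absurd this (by show p2 ≠ 1; decide +kernel)
  have hiso : Cfsg.IsIsolatedInvolution σ := by
    refine ⟨orderOf_eq_prime (by rw [pow_two]; exact Subtype.ext (B.A_sq (hA hP2 (one_mem V))))
      (fun e => hσ1 (congrArg Subtype.val e)), fun g hg => Subtype.ext ?_⟩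
    set y : G := (g : G) * B.φ (P2, 1) * (g : G)⁻¹ with hy
    show y = B.φ (P2, 1)
    have hyc : Commute (B.φ (P2, 1)) y := congrArg Subtype.val hg
    have hyC : y ∈ C := (g * σ * g⁻¹).2
    set S := C ⊓ centralizer ({B.φ (P2, 1)} : Set G)
    have hAS : B.A ≤ S := fun a ha => ⟨hAC ha, mem_centralizer_singleton_iff.2 (B.A_comm ha (hA hP2 (one_mem V))).eq⟩
    obtain ⟨s, hs, hsA⟩ := toA hK (C := S) (inf_le_left.trans inf_le_left) hAS
      ⟨hyC, mem_centralizer_singleton_iff.2 hyc.symm.eq⟩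
      (by rw [hy, conj_mul, B.A_sq (hA hP2 (one_mem V))]; group)
    obtain ⟨d, hd, hdC, hde⟩ := fusionS hK (C := C) inf_le_left hAC (g := s * (g : G)) (a := B.φ (P2, 1)) (mul_mem hs.1 g.2) (hA hP2 (one_mem V))
      (by convert hsA using 1; rw [hy]; group)
    obtain ⟨i, rfl⟩ := D_left_fix hd (mem_centralizer_singleton_iff.1 hdC.2)
    have hfix : B.toLoc.z ^ i * B.φ (P2, 1) * (B.toLoc.z ^ i)⁻¹ = B.φ (P2, 1) := by
      rw [B.z_eq, ← map_pow, ← map_inv, ← map_mul, ← map_mul]; exact congrArg B.φ (Prod.ext (by simp) (by simp))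
    rw [hfix] at hde
    have hsc : Commute s (B.φ (P2, 1)) := mem_centralizer_singleton_iff.1 hs.2
    calc y = s⁻¹ * (s * (g : G) * B.φ (P2, 1) * (s * (g : G))⁻¹) * s := by rw [hy]; group
      _ = s⁻¹ * B.φ (P2, 1) * s := by rw [← hde]
      _ = _ := by rw [mul_assoc, ← hsc.eq, inv_mul_cancel_left]
  set O := (Cfsg.pPrimeCore 2 C).map C.subtype
  have hOodd : ∀ o ∈ O, Odd (orderOf o) := by
    rintro _ ⟨o, ho, rfl⟩
    rw [C.subtype_apply, orderOf_coe, ← orderOf_mk o ho]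
    exact Cfsg.Lib.ZStarApps.odd_card_pPrimeCore.of_dvd_nat (orderOf_dvd_natCard _)
  have hinv : ∀ w ∈ V, w ≠ 1 → ∀ o ∈ O, B.φ (1, w) * o * (B.φ (1, w))⁻¹ = o⁻¹ := by
    intro w hw hw1
    refine invert_of_fpf O _ (B.A_sq (hA (one_mem V) hw)) ?_ ?_
    · rintro _ ⟨o, ho, rfl⟩
      exact ⟨⟨_, hAC (hA (one_mem V) hw)⟩ * o * ⟨_, hAC (hA (one_mem V) hw)⟩⁻¹,
        Subgroup.Normal.conj_mem inferInstance o ho _, rfl⟩
    · intro o ho hco
      have hoC : o ∈ C := map_subtype_le _ ho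
      have hd : Commute o (B.φ (P1, w)) := by
        rw [show ((P1, w) : A5 × A5) = (P1, 1) * (1, w) by simp, map_mul]
        exact Commute.mul_right (mem_centralizer_singleton_iff.1 hoC.2) hco.symm
      exact eq_one_of_sq_odd (B.A_sq (cent_diag hK hP1V hw (fun e => fixed_facts.2.2 (congrArg Subtype.val e)) hw1
        hoC.1 hd)) (hOodd o ho)
  have hbot : ∀ o ∈ O, o = 1 := fun o ho => by
    have hP1ne : P1 ≠ 1 := fun e => fixed_facts.2.2 (congrArg Subtype.val e)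
    have hP2ne : P2 ≠ 1 := fun e => absurd (congrArg Subtype.val e) (by show p2 ≠ 1; decide +kernel)
    have hP12 : P1 * P2 ≠ 1 := fun e => absurd (congrArg Subtype.val e) (by show p1 * p2 ≠ 1; decide +kernel)
    have h3 := hinv (P1 * P2) (mul_mem hP1V hP2) hP12 o ho
    rw [show ((1, P1 * P2) : A5 × A5) = (1, P1) * (1, P2) by simp, map_mul,
      show B.φ (1, P1) * B.φ (1, P2) * o * (B.φ (1, P1) * B.φ (1, P2))⁻¹
        = B.φ (1, P1) * (B.φ (1, P2) * o * (B.φ (1, P2))⁻¹) * (B.φ (1, P1))⁻¹ by group,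
      hinv P2 hP2 hP2ne o ho, hinv P1 hP1V hP1ne _ (inv_mem ho), inv_inv] at h3
    exact eq_one_of_sq_odd (by nth_rw 2 [h3]; exact mul_inv_cancel o) (hOodd o ho)
  have hxC : x ∈ C := ⟨hx, mem_centralizer_singleton_iff.2 hc.eq⟩
  have hz := hbot _ (mem_map_of_mem C.subtype (Cfsg.Lib.ZStarApps.zstarProp hiso ⟨x, hxC⟩))
  have h2 : Commute x (B.φ (P2, 1)) :=
    (mul_inv_eq_iff_eq_mul.1 (mul_inv_eq_one.1 hz) : Commute (B.φ (P2, 1)) x).symm
  have hcases : v = 1 ∨ v = P1 ∨ v = P2 ∨ v = P1 * P2 := by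
    have : (v : Perm (Fin 5)) = 1 ∨ (v : Perm (Fin 5)) = p1 ∨ (v : Perm (Fin 5)) = p2 ∨ (v : Perm (Fin 5)) = p1 * p2 := by
      simpa [vset] using mem_V.1 hv
    rcases this with e | e | e | e
    exacts [Or.inl (Subtype.ext e), Or.inr (Or.inl (Subtype.ext e)), Or.inr (Or.inr (Or.inl (Subtype.ext e))),
      Or.inr (Or.inr (Or.inr (Subtype.ext e)))]
  rcases hcases with rfl | rfl | rfl | rfl
  · rw [show ((1 : A5), (1 : A5)) = 1 from rfl, map_one]; exact Commute.one_right x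
  · exact hc
  · exact h2
  · rw [show ((P1 * P2, 1) : A5 × A5) = (P1, 1) * (P2, 1) by simp, map_mul]
    exact hc.mul_right h2

theorem cent_left {v : A5} (hv : v ∈ V) (hv1 : v ≠ 1) {x : G} (hx : x ∈ K) (hc : Commute x (B.φ (v, 1))) {v' : A5}
    (hv' : v' ∈ V) : Commute x (B.φ (v', 1)) := by
  obtain ⟨i, -, hi⟩ := reach_v v hv fun e => hv1 (Subtype.ext e)
  set c : A5 := ⟨c5, c5_mem⟩ ^ i
  have hcv : c * ⟨p1, p1_mem⟩ * c⁻¹ = v := Subtype.ext (by simpa [c] using hi)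
  set e := B.φ (c, 1) with he
  have hstep : ∀ a : A5, e⁻¹ * B.φ (a, 1) * e = B.φ (c⁻¹ * a * c, 1) := fun a => by
    rw [he, ← map_inv, ← map_mul, ← map_mul]; exact congrArg B.φ (Prod.ext rfl (by simp))
  have hcm : ∀ a : A5, Commute x (B.φ (a, 1)) ↔ Commute (e⁻¹ * x * e⁻¹⁻¹) (B.φ (c⁻¹ * a * c, 1)) := fun a => by
    rw [← hstep, inv_inv]
    constructor
    · intro h
      show _ * _ = _ * _
      rw [show e⁻¹ * x * e * (e⁻¹ * B.φ (a, 1) * e) = e⁻¹ * (x * B.φ (a, 1)) * e by group, h.eq]; group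
    · intro h
      show _ * _ = _ * _
      calc x * B.φ (a, 1) = e * (e⁻¹ * x * e * (e⁻¹ * B.φ (a, 1) * e)) * e⁻¹ := by group
        _ = _ := by rw [h.eq]; group
  have hpow : ∀ n : ℕ, ∀ a ∈ V, (⟨c5, c5_mem⟩ : A5) ^ n * a * ((⟨c5, c5_mem⟩ : A5) ^ n)⁻¹ ∈ V := by
    intro n
    induction n with
    | zero => intro a ha; simpa using ha
    | succ n ih =>
      intro a ha
      rw [pow_succ, show ∀ s : A5, (⟨c5, c5_mem⟩ : A5) ^ n * ⟨c5, c5_mem⟩ * s * ((⟨c5, c5_mem⟩ : A5) ^ n * ⟨c5, c5_mem⟩)⁻¹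
        = (⟨c5, c5_mem⟩ : A5) ^ n * (⟨c5, c5_mem⟩ * s * (⟨c5, c5_mem⟩ : A5)⁻¹) * ((⟨c5, c5_mem⟩ : A5) ^ n)⁻¹ from
        fun s => by group]
      exact ih _ (V_conj ha)
  have hinvV : c⁻¹ * v' * c ∈ V := by
    have h3 : c⁻¹ = (⟨c5, c5_mem⟩ : A5) ^ (2 * i) := by
      refine (eq_inv_of_mul_eq_one_right ?_).symm
      rw [← pow_add, show i + 2 * i = 3 * i by ring, pow_mul,
        show (⟨c5, c5_mem⟩ : A5) ^ 3 = 1 from Subtype.ext (by rw [SubmonoidClass.coe_pow]; decide +kernel), one_pow]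
    have := hpow (2 * i) v' hv'
    rwa [← h3, inv_inv] at this
  rw [hcm]
  refine cent_left_base hK (hK.normal.conj_mem x hx _) ?_ hinvV
  have := (hcm v).1 hc
  rwa [← hcv, show c⁻¹ * (c * ⟨p1, p1_mem⟩ * c⁻¹) * c = ⟨p1, p1_mem⟩ by group] at this

theorem cent_right {v : A5} (hv : v ∈ V) (hv1 : v ≠ 1) {x : G} (hx : x ∈ K) (hc : Commute x (B.φ (1, v))) {v' : A5}
    (hv' : v' ∈ V) : Commute x (B.φ (1, v')) := by
  rw [← swap_φ] at hc ⊢
  exact cent_left (B.quarter_swap hK) hv hv1 hx hc hv'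

end Crossed

end Cfsg.Lib.SymEightLocal
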