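import Cfsg.Agent.LocalThree.SymEightLocal.Centres
import Cfsg.Agent.Components.GenFitting
import Mathlib.GroupTheory.SpecificGroups.Alternating

/-!
The subgroup of index four is the product of the two alternating groups.
-/

set_option autoImplicit false
set_option synthInstance.maxSize 4096
set_option maxRecDepth 100000
set_option maxHeartbeats 1000000

namespace Cfsg.Lib.SymEightLocal

open Equiv Subgroup Cfsg.Lib.AltEightLocal

universe u

theorem p1_products : (∃ s : Perm (Fin 5), Perm.sign s = 1 ∧ ∃ s' : Perm (Fin 5), Perm.sign s' = 1 ∧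
      s * p1 * s⁻¹ * (s' * p1 * s'⁻¹) = c5) ∧
    (∃ s : Perm (Fin 5), Perm.sign s = 1 ∧ ∃ s' : Perm (Fin 5), Perm.sign s' = 1 ∧
      s * p1 * s⁻¹ * (s' * p1 * s'⁻¹) = d5) := by decide +kernel

/-- The alternating group is generated by the conjugates of one involution. -/
theorem gen_p1 (K : Subgroup A5) (h : ∀ s : A5, ∀ hp : p1 ∈ A5, s * ⟨p1, hp⟩ * s⁻¹ ∈ K) : K = ⊤ := by
  obtain ⟨⟨s, hs, s', hs', e⟩, t, ht, t', ht', e'⟩ := p1_products
  refine gen5 K (fun m => ?_) fun m => ?_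
  · have := mul_mem (h ⟨s, Perm.mem_alternatingGroup.2 hs⟩ Crossed.p1_mem) (h ⟨s', Perm.mem_alternatingGroup.2 hs'⟩ Crossed.p1_mem)
    convert this using 1
    exact Subtype.ext e.symm
  · have := mul_mem (h ⟨t, Perm.mem_alternatingGroup.2 ht⟩ Crossed.p1_mem) (h ⟨t', Perm.mem_alternatingGroup.2 ht'⟩ Crossed.p1_mem)
    convert this using 1
    exact Subtype.ext e'.symm

namespace Crossed

variable {G : Type u} [Group G] [Finite G] {B : Crossed G} {K : Subgroup G} (hK : B.Quarter K)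

include hK

/-- Conjugates of the involution of the second factor. -/
theorem conj_comm {g : G} (hg : g ∈ K) {v : A5} (hv : v ∈ V) :
    Commute (g * B.φ (1, ⟨p1, p1_mem⟩) * g⁻¹) (B.φ (v, 1)) := by
  set P1 : A5 := ⟨p1, p1_mem⟩
  have hP1 : P1 ∈ V := v_facts.2.2.2.2.1
  have hP1ne : P1 ≠ 1 := fun e => fixed_facts.2.2 (congrArg Subtype.val e)
  have hA : ∀ {a b : A5}, a ∈ V → b ∈ V → B.φ (a, b) ∈ B.A := fun ha hb => B.mem_A.2 ⟨_, ha, _, hb, rfl⟩
  set r1 := B.φ (1, P1) with hr1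
  set r' := g * r1 * g⁻¹ with hr'
  have hrK : r' ∈ K := mul_mem (mul_mem hg (A_le hK (hA (one_mem V) hP1))) (inv_mem hg)
  have hax : B.Axial r1 := ⟨P1, hP1, Or.inr rfl⟩
  -- a conjugate inside the group of order sixteen is axial of the second kind
  have hsecond : ∀ (s : G), s ∈ K → s * r' * s⁻¹ ∈ B.A → ∃ b ∈ V, s * r' * s⁻¹ = B.φ (1, b) := by
    intro s hs h
    obtain ⟨d, hd, -, e⟩ := fusionS hK le_rfl (A_le hK) (g := s * g) (a := r1) (mul_mem hs hg) (hA (one_mem V) hP1)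
      (by convert h using 1; rw [hr']; group)
    obtain ⟨c, c', hc, rfl⟩ := B.D_φ hd
    refine ⟨c' * P1 * c'⁻¹, (hc _ hP1).2, ?_⟩
    rw [show s * r' * s⁻¹ = s * g * r1 * (s * g)⁻¹ by rw [hr']; group, ← e, hr1, ← map_inv, ← map_mul, ← map_mul]
    exact congrArg B.φ (Prod.ext (by simp) rfl)
  have h2o : ∀ {y : G}, y * y = 1 → y ≠ 1 → orderOf y = 2 := fun h h1 => Cfsg.Lib.InvolCalc.order_two_of_mul_self h h1
  have hpd : orderOf (pd B) = 2 := h2o (B.A_sq pd_mem) fun e => hP1ne (congrArg Prod.fst (B.φ_inj (e.trans (map_one B.φ).symm)))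
  have hr2 : orderOf r' = 2 := by
    rw [hr', orderOf_conj_eq]
    exact h2o (B.A_sq (hA (one_mem V) hP1)) fun e => hP1ne (congrArg Prod.snd (B.φ_inj (e.trans (map_one B.φ).symm)))
  have heven : Even (orderOf (r' * pd B)) := by
    rw [← Nat.not_odd_iff_even]
    intro hodd
    obtain ⟨d, -, hd⟩ := Cfsg.Lib.InvolCalc.conj_of_odd hr2 hpd hodd
    have e : d * g * r1 * (d * g)⁻¹ = pd B := by rw [← hd, hr']; group
    have := B.axial_conj hax (g := d * g) (e.symm ▸ pd_mem)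
    rw [e] at this
    exact B.diag_not_axial hP1ne hP1ne this
  obtain ⟨hx2, hxr, hxp⟩ := Cfsg.Lib.InvolCalc.central_spec hr2 hpd heven
  set x := (r' * pd B) ^ (orderOf (r' * pd B) / 2)
  have hxK : x ∈ K := pow_mem (mul_mem hrK (A_le hK pd_mem)) _
  have hxA : x ∈ B.A := cent_diag hK hP1 hP1 hP1ne hP1ne hxK hxp
  obtain ⟨a, ha, b, hb, hab⟩ := B.mem_A.1 hxA
  by_cases ha1 : a = 1
  · have hb1 : b ≠ 1 := fun e => Cfsg.Lib.InvolCalc.ne_one_of_order_two hx2 (by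
      rw [← hab, ha1, e]; exact map_one B.φ)
    have hall : ∀ v' ∈ V, Commute r' (B.φ (1, v')) := fun v' hv' =>
      cent_right hK hb hb1 hrK (by rw [← ha1, hab]; exact hxr.symm) hv'
    set S := K ⊓ centralizer ((fun q => B.φ (1, q)) '' (V : Set A5))
    have hAS : B.A ≤ S := fun y hy => mem_inf.2 ⟨A_le hK hy, mem_centralizer_iff.2 (by
      rintro _ ⟨q, hq, rfl⟩
      exact (B.A_comm (hA (one_mem V) hq) hy).eq)⟩
    obtain ⟨s, hs, hsA⟩ := toA hK (C := S) inf_le_left hAS (x := r') (mem_inf.2 ⟨hrK, mem_centralizer_iff.2 (by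
      rintro _ ⟨q, hq, rfl⟩
      exact (hall q hq).eq.symm)⟩) (Cfsg.Lib.InvolCalc.sq_of_order_two hr2)
    obtain ⟨b', hb', e⟩ := hsecond s (mem_inf.1 hs).1 hsA
    have hsc : Commute (B.φ (1, b')) s := mem_centralizer_iff.1 (mem_inf.1 hs).2 _ ⟨b', hb', rfl⟩
    rw [show r' = B.φ (1, b') by
      calc r' = s⁻¹ * (s * r' * s⁻¹) * s := by group
        _ = _ := by rw [e, mul_assoc, hsc.eq, inv_mul_cancel_left]]
    exact ((B.φ_left v).symm ▸ (B.φ_right b').symm ▸ B.toLoc.comm_e B.hB v b').symm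
  by_cases hb1 : b = 1
  · exact cent_left hK ha ha1 hrK (by rw [← hb1, hab]; exact hxr.symm) hv
  have hrA : r' ∈ B.A := cent_diag hK ha hb ha1 hb1 hrK (by rw [hab]; exact hxr.symm)
  obtain ⟨b', hb', e⟩ := hsecond 1 (one_mem K) (by simpa using hrA)
  rw [show r' = B.φ (1, b') by rw [← e]; group]
  exact ((B.φ_left v).symm ▸ (B.φ_right b').symm ▸ B.toLoc.comm_e B.hB v b').symm

theorem e2_normal {g : G} (hg : g ∈ K) (a : A5) : g * B.toLoc.e2 a * g⁻¹ ∈ B.toLoc.e2.range := by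
  have hbase : ∀ g ∈ K, g * B.φ (1, ⟨p1, p1_mem⟩) * g⁻¹ ∈ B.toLoc.e2.range := by
    intro g hg
    refine B.toLoc.cent_E1 B.hB fun a => ?_
    have htop := gen_p1 ((centralizer ({g * B.φ (1, ⟨p1, p1_mem⟩) * g⁻¹} : Set G)).comap B.toLoc.e1) fun s hp => by
      refine mem_comap.2 (mem_centralizer_singleton_iff.2 ?_)
      have hsK : B.toLoc.e1 s ∈ K := hK.le ⟨(s, 1), B.φ_left s⟩
      have h := conj_comm hK (g := (B.toLoc.e1 s)⁻¹ * g) (mul_mem (inv_mem hsK) hg) (v := ⟨p1, hp⟩) v_facts.2.2.2.2.1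
      rw [B.φ_left] at h
      rw [map_mul, map_mul, map_inv]
      set S := B.toLoc.e1 s
      set W := B.toLoc.e1 ⟨p1, hp⟩
      set R := B.φ (1, ⟨p1, p1_mem⟩)
      calc S * W * S⁻¹ * (g * R * g⁻¹) = S * (W * (S⁻¹ * g * R * (S⁻¹ * g)⁻¹)) * S⁻¹ := by group
        _ = _ := by rw [← h.eq]; group
    exact (mem_centralizer_singleton_iff.1 (mem_comap.1 (htop.ge (mem_top a)))).symm
  have htop := gen_p1 ((B.toLoc.e2.range.comap (MulAut.conj g).toMonoidHom).comap B.toLoc.e2) fun s hp => by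
    show g * B.toLoc.e2 (s * ⟨p1, hp⟩ * s⁻¹) * g⁻¹ ∈ B.toLoc.e2.range
    have hsK : B.toLoc.e2 s ∈ K := hK.le ⟨(1, s), B.φ_right s⟩
    have h := hbase _ (mul_mem hg hsK)
    rw [B.φ_right] at h
    convert h using 1
    rw [map_mul, map_mul, map_inv]
    group
  exact htop.ge (mem_top a)

theorem e1_normal {g : G} (hg : g ∈ K) (a : A5) : g * B.toLoc.e1 a * g⁻¹ ∈ B.toLoc.e1.range := by
  have h := e2_normal (B.quarter_swap hK) hg a
  have e : B.swap.toLoc.e2 = B.toLoc.e1 := B.toLoc.swap_e2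
  rwa [e] at h

/-- The subgroup of index four is the product. -/
theorem eq_range : K = B.φ.range := by
  refine le_antisymm (fun g hg => ?_) hK.le
  have hP : IsPGroup 2 (B.A.map (MulAut.conj g).toMonoidHom) := IsPGroup.iff_card.2 ⟨4, by
    rw [card_map_of_injective (MulAut.conj g).injective, B.card_A]; rfl⟩
  obtain ⟨c, hc, h⟩ := sylow16 hK hK.le B.A_le_range hP (by
    rintro _ ⟨y, hy, rfl⟩
    obtain ⟨a, -, b, -, rfl⟩ := B.mem_A.1 hy
    show g * B.φ (a, b) * g⁻¹ ∈ B.φ.range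
    rw [φ_apply, ← conj_mul]
    obtain ⟨a', ea⟩ := e1_normal hK hg a
    obtain ⟨b', eb⟩ := e2_normal hK hg b
    exact ⟨(a', b'), by rw [φ_apply, ea, eb]⟩)
  have hN : c * g ∈ normalizer (B.A : Set G) := mem_normalizer_fintype fun x hx => by
    have := h _ ⟨x, hx, rfl⟩
    show c * g * x * (c * g)⁻¹ ∈ B.A
    convert this using 1
    show _ = c * (g * x * g⁻¹) * c⁻¹
    group
  obtain ⟨a0, ha0, hM⟩ := B.NA_decomp hN
  have hd := B.D_le_range (hK.inM _ (mul_mem (A_le hK ha0) (mul_mem (hK.le hc) hg)) hM)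
  exact (mul_mem_cancel_left hc).1 ((mul_mem_cancel_left (B.A_le_range ha0)).1 hd)

omit hK in
theorem cent_range {x : G} (hx : ∀ y ∈ B.φ.range, Commute x y) : x = 1 := by
  obtain ⟨b, rfl⟩ := B.toLoc.cent_E1 B.hB fun a => hx _ ⟨(a, 1), B.φ_left a⟩
  obtain ⟨a, ha⟩ := B.toLoc.cent_E2 B.hB (x := B.toLoc.e2 b) fun c => hx _ ⟨(1, c), B.φ_right c⟩
  obtain ⟨-, rfl⟩ := B.toLoc.meet_trivial B.hB ha
  exact map_one _

omit [Finite G] hK in
theorem a5_noncentral {a : A5} (ha : a ≠ 1) : ∃ c : A5, a * c * a⁻¹ * c⁻¹ ≠ 1 := by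
  by_contra hcon
  push Not at hcon
  have key : ∀ c : A5, (a : Perm (Fin 5)) * c = c * a := fun c =>
    congrArg Subtype.val (mul_inv_eq_iff_eq_mul.1 (mul_inv_eq_one.1 (hcon c)))
  exact ha (Subtype.ext (no_centre a (key ⟨c5, c5_mem⟩) (key ⟨d5, d5_mem⟩)))

omit hK in
theorem range_minimal (N : Subgroup G) (hN : N.Normal) (hle : N ≤ B.φ.range) : N = ⊥ ∨ N = B.φ.range := by
  by_cases hb : N = ⊥
  · exact Or.inl hb
  refine Or.inr (le_antisymm hle ?_)
  haveI : IsSimpleGroup A5 := alternatingGroup.isSimpleGroup_five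
  set N1 := (N.comap B.φ).comap (MonoidHom.inl A5 A5)
  set N2 := (N.comap B.φ).comap (MonoidHom.inr A5 A5)
  haveI : N1.Normal := (hN.comap B.φ).comap _
  haveI : N2.Normal := (hN.comap B.φ).comap _
  set P1 : A5 := ⟨p1, p1_mem⟩
  have hP1ne : P1 ≠ 1 := fun e => fixed_facts.2.2 (congrArg Subtype.val e)
  have m1 : ∀ {a : A5}, B.φ (a, 1) ∈ N → a ≠ 1 → N1 = ⊤ := fun {a} h h1 =>
    ((‹N1.Normal›).eq_bot_or_eq_top).resolve_left fun e => h1 (mem_bot.1 (e ▸ (h : a ∈ N1)))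
  have m2 : ∀ {a : A5}, B.φ (1, a) ∈ N → a ≠ 1 → N2 = ⊤ := fun {a} h h1 =>
    ((‹N2.Normal›).eq_bot_or_eq_top).resolve_left fun e => h1 (mem_bot.1 (e ▸ (h : a ∈ N2)))
  have hex : N1 = ⊤ → N2 = ⊤ := fun h => by
    obtain ⟨v, -, e⟩ := B.inv₂_left P1 v_facts.2.2.2.2.1
    refine m2 (a := v) (e ▸ hN.conj_mem _ (h.ge (mem_top P1) : B.φ (P1, 1) ∈ N) _) fun hv => hP1ne ?_
    rw [hv, show ((1 : A5), (1 : A5)) = 1 from rfl, map_one, conj_eq_one_iff] at e
    exact congrArg Prod.fst (B.φ_inj (e.trans (map_one B.φ).symm))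
  have hex' : N2 = ⊤ → N1 = ⊤ := fun h => by
    obtain ⟨v, -, e⟩ := B.inv₂_right P1 v_facts.2.2.2.2.1
    refine m1 (a := v) (e ▸ hN.conj_mem _ (h.ge (mem_top P1) : B.φ (1, P1) ∈ N) _) fun hv => hP1ne ?_
    rw [hv, show ((1 : A5), (1 : A5)) = 1 from rfl, map_one, conj_eq_one_iff] at e
    exact congrArg Prod.snd (B.φ_inj (e.trans (map_one B.φ).symm))
  obtain ⟨y, hy, hy1⟩ : ∃ y ∈ N, y ≠ 1 := by
    by_contra hcon
    push Not at hcon
    exact hb ((eq_bot_iff_forall _).2 hcon)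
  obtain ⟨⟨a, b⟩, rfl⟩ := hle hy
  have hcomm : ∀ p : A5 × A5, B.φ ((a, b) * p * (a, b)⁻¹ * p⁻¹) ∈ N := fun p => by
    rw [map_mul, map_mul, map_mul, map_inv, map_inv,
      show B.φ (a, b) * B.φ p * (B.φ (a, b))⁻¹ * (B.φ p)⁻¹ = B.φ (a, b) * (B.φ p * (B.φ (a, b))⁻¹ * (B.φ p)⁻¹) by group]
    exact mul_mem hy (hN.conj_mem _ (inv_mem hy) _)
  have h12 : N1 = ⊤ ∧ N2 = ⊤ := by
    by_cases ha : a = 1
    · have hb1 : b ≠ 1 := fun e => hy1 (by rw [ha, e]; exact map_one B.φ)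
      have h2 := m2 (a := b) (by rw [← ha]; exact hy) hb1
      exact ⟨hex' h2, h2⟩
    · obtain ⟨c, hc⟩ := a5_noncentral ha
      have h1 := m1 (a := a * c * a⁻¹ * c⁻¹) (by
        have := hcomm (c, 1)
        convert this using 2
        exact Prod.ext rfl (by simp)) hc
      exact ⟨h1, hex h1⟩
  rintro _ ⟨⟨p, q⟩, rfl⟩
  rw [show ((p, q) : A5 × A5) = (p, 1) * (1, q) by simp, map_mul]
  exact mul_mem (h12.1.ge (mem_top p) : B.φ (p, 1) ∈ N) (h12.2.ge (mem_top q) : B.φ (1, q) ∈ N)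

omit hK in
/-- The generalized Fitting subgroup. -/
theorem genFitting_eq (hn : B.φ.range.Normal) : Cfsg.generalizedFittingSubgroup G = B.φ.range := by
  haveI := hn
  set R := B.φ.range
  have hC : ∀ H : Subgroup G, ⁅H, R⁆ = ⊥ → H ≤ R := fun H h x hx => by
    rw [cent_range (x := x) fun y hy => (mem_centralizer_iff.1 (commutator_eq_bot_iff_le_centralizer.1 h hx) y hy).symm]
    exact one_mem _
  have hle : Cfsg.generalizedFittingSubgroup G ≤ R := by
    refine sup_le (sSup_le fun L hL => ?_) (sSup_le fun N hN => ?_)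
    · exact (Cfsg.Lib.Components.comp_le_or_commute hL hn.isSubnormal).elim id (hC L)
    · haveI := hN.1
      rcases range_minimal (N ⊓ R) inferInstance inf_le_right with h | h
      · refine hC N (le_bot_iff.1 ?_)
        rw [← h]
        exact commutator_le_inf N R
      · exfalso
        have hnil : Group.IsNilpotent R := Cfsg.Lib.Components.isNilpotent_of_le hN.2 (h.ge.trans inf_le_left)
        set P1 : A5 := ⟨p1, p1_mem⟩
        have hP1ne : P1 ≠ 1 := fun e => fixed_facts.2.2 (congrArg Subtype.val e)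
        haveI : Nontrivial R := ⟨⟨⟨B.φ (P1, 1), ⟨_, rfl⟩⟩, 1, fun e => hP1ne
          (congrArg Prod.fst (B.φ_inj ((congrArg Subtype.val e).trans (map_one B.φ).symm)))⟩⟩
        refine Group.IsNilpotent.center_ne_bot (G := R) ((eq_bot_iff_forall _).2 fun c hc => Subtype.ext ?_)
        exact cent_range fun y hy => (congrArg Subtype.val (mem_center_iff.1 hc ⟨y, hy⟩)).symm
  haveI : (Cfsg.generalizedFittingSubgroup G).Normal := inferInstance
  refine (range_minimal _ inferInstance hle).resolve_left fun h => B.toLoc.t_ne ?_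
  have hc := Cfsg.Lib.Components.centralizer_genFitting_le (G := G)
  rw [h] at hc
  exact mem_bot.1 (hc (mem_centralizer_iff.2 fun y hy => by rw [mem_bot.1 hy, one_mul, mul_one]))

omit hK in
variable (B) in
include B in
/-- The conclusion in the crossed case. -/
theorem conclusion : ∃ N : Subgroup G, N.Normal ∧ Cfsg.generalizedFittingSubgroup G = N ∧
    Nonempty (N ≃* alternatingGroup (Fin 5) × alternatingGroup (Fin 5)) ∧
    (∀ K : Subgroup G, K.Normal → K ≤ N → K = ⊥ ∨ K = N) ∧ N.index = 4 ∧ ∀ g : G, g ^ 2 ∈ N := by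
  obtain ⟨K, hn, hi, hle, hsq, -, hinM⟩ := B.exists_quarter
  have h32 : ¬ 32 ∣ Nat.card K := fun ⟨k, hk⟩ => B.two_part.2 ⟨k, by
    rw [← K.card_mul_index, hi, hk]; ring⟩
  have hK : B.Quarter K := ⟨hn, hle, h32, fun x hx hM => hinM x hx hM⟩
  obtain rfl := eq_range hK
  exact ⟨_, hn, genFitting_eq hn, ⟨(MonoidHom.ofInjective B.φ_inj).symm⟩, fun N hN => range_minimal N hN, hi,
    fun g => by rw [pow_two]; exact hsq g⟩

end Crossed

end Cfsg.Lib.SymEightLocal
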