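import Cfsg.Agent.LocalThree.SymEightLocal.Hull
import Cfsg.Agent.LocalThree.AltEightLocal.Cents
import Cfsg.Agent.Transfer.ThompsonTransfer

/-!
Recognition of the symmetric group of degree eight.
-/

set_option autoImplicit false
set_option synthInstance.maxSize 4096
set_option maxRecDepth 100000
set_option maxHeartbeats 1000000

namespace Cfsg.Lib.SymEightLocal

open Equiv Subgroup Cfsg.Lib.AltEightLocal

universe u

theorem inner_facts : emG (rL : Pr) = emF (s3 : Pr) ∧ emG (t6 : Pr) = emF (s6 : Pr) ∧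
    Commute (emG (bL : Pr)) (emF (uL : Pr)) ∧ Commute (emG (bL : Pr)) (emF (vL : Pr)) ∧ Perm.sign t8 = -1 ∧
    (zL : Pr) = zP ∧ (wL : Pr) = wP ∧ (((zL * wL : L0)) : Pr) = zP * wP := by
  unfold Commute SemiconjBy
  decide +kernel

theorem sign_emF (x : Pr) : Perm.sign (emF x) = Perm.sign x.1 * Perm.sign x.2 := by
  show Perm.sign (placeF.permCongr (Perm.sumCongr x.1 x.2)) = _
  rw [Perm.sign_permCongr, Perm.sign_sumCongr]

theorem sign_emG (x : Pr) : Perm.sign (emG x) = Perm.sign x.1 * Perm.sign x.2 := by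
  show Perm.sign (placeG.permCongr (Perm.sumCongr x.1 x.2)) = _
  rw [Perm.sign_permCongr, Perm.sign_sumCongr]

theorem torus_small : ∀ a ∈ cdP, ∀ h : a ∈ L0, (⟨a, h⟩ : L0) ∈ torus := by decide +kernel

namespace Linked

variable {G : Type u} [Group G] [Finite G] (A : Linked G)

include A in
/-- A normal subgroup of index two. -/
theorem exists_M : ∃ M : Subgroup G, M.Normal ∧ M.index = 2 ∧ A.toLoc.t ∉ M ∧
    ∀ σ : Perm (Fin 8), Perm.sign σ = 1 → A.Φ σ ∈ M := by
  haveI : Fact (Nat.Prime 2) := ⟨Nat.prime_two⟩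
  obtain ⟨h128, h256⟩ := A.two_part
  obtain ⟨Q8, hQ8⟩ : ∃ Q : Subgroup (alternatingGroup (Fin 8)), Nat.card Q = 64 := by
    refine Sylow.exists_subgroup_card_pow_prime (p := 2) (n := 6) ?_
    rw [nat_card_alternatingGroup, Nat.card_fin]; decide
  set Q := (Q8.map (alternatingGroup (Fin 8)).subtype).map A.Φ with hQ
  have hQc : Nat.card Q = 64 := by
    rw [hQ, card_map_of_injective A.Φ_inj, card_map_of_injective (alternatingGroup (Fin 8)).subtype_injective, hQ8]
  have hidx := Q.card_mul_index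
  rw [hQc] at hidx
  obtain ⟨m, hm⟩ : 2 ∣ Q.index := by
    obtain ⟨k, hk⟩ := h128
    exact ⟨k, by omega⟩
  have hodd : Odd m := by
    rw [Nat.odd_iff]
    by_contra h
    exact h256 ⟨m / 2, by omega⟩
  obtain ⟨M, hMn, hMi, htM⟩ := Cfsg.Lib.Transfer.exists_index_two_not_mem Q hodd hm
    (u := A.toLoc.t) (orderOf_eq_prime (by rw [pow_two, A.toLoc.t_sq]) A.toLoc.t_ne) (fun g hg => by
      obtain ⟨_, ⟨σ, -, rfl⟩, hσ⟩ := hg
      obtain ⟨k, hk⟩ := isConj_iff.1 (A.class_t (σ := σ.1) (c := g⁻¹) (by rw [inv_inv]; exact hσ.symm))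
      have h1 := congrArg Perm.sign hk
      rw [map_mul, map_mul, map_inv, Perm.mem_alternatingGroup.1 σ.2, mul_one, mul_inv_cancel,
        inner_facts.2.2.2.2.1] at h1
      exact absurd h1 (by decide))
  refine ⟨M, hMn, hMi, htM, fun σ hσ => ?_⟩
  have hle : closure {σ : Perm (Fin 8) | σ.IsThreeCycle} ≤ M.comap A.Φ := by
    rw [closure_le]
    intro c hc
    have h3 : c * c * c = 1 := by
      rw [← pow_two, ← pow_succ]; exact orderOf_dvd_iff_pow_eq_one.1 hc.orderOf.dvd
    show A.Φ c ∈ M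
    rw [show c = c * c * (c * c) by rw [← mul_assoc, h3, one_mul], map_mul]
    exact mul_self_mem_of_index_two hMi _
  rw [Equiv.Perm.closure_three_cycles_eq_alternating] at hle
  exact hle (Perm.mem_alternatingGroup.2 hσ)

include A in
theorem iso : Nonempty (G ≃* Perm (Fin 8)) := by
  obtain ⟨M, hMn, hMi, htM, hAM⟩ := A.exists_M
  have hfM : ∀ x : L0, A.f (x : Pr) ∈ M := fun x => by
    rw [← A.Φ_f]; exact hAM _ ((sign_emF _).trans x.2)
  have hgM : ∀ x : L0, A.toLoc.g (x : Pr) ∈ M := fun x => by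
    rw [← A.Φ_g]; exact hAM _ ((sign_emG _).trans x.2)
  have hsign : ∀ σ : Perm (Fin 8), A.Φ σ ∈ M → Perm.sign σ = 1 := by
    intro σ hσ
    rcases Int.units_eq_one_or (Perm.sign σ) with h | h
    · exact h
    · exfalso
      have h2 : A.Φ (σ * t8) ∈ M := hAM _ (by rw [map_mul, h, inner_facts.2.2.2.2.1]; rfl)
      rw [map_mul, A.Φ_t] at h2
      exact htM ((mul_mem_cancel_left hσ).1 h2)
  let fM : L0 →* M := (A.f.comp L0.subtype).codRestrict M hfM
  let gM : L0 →* M := (A.toLoc.g.comp L0.subtype).codRestrict M hgM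
  obtain ⟨hr, ht, hbu, hbv, -, hzl, hwl, hzwl⟩ := inner_facts
  have hfz : (fM zL : G) = A.toLoc.z := congrArg A.f hzl
  have hfw : (fM wL : G) = A.toLoc.w := congrArg A.f hwl
  have hgz : (gM zL : G) = A.toLoc.w := (congrArg A.toLoc.g hzl).trans A.toLoc.gw
  have hgw : (gM wL : G) = A.toLoc.z := (congrArg A.toLoc.g hwl).trans A.toLoc.gz
  have hrange : ∀ (x : M) (a : Pr), A.f a = x → ∃ b : L0, fM b = x := fun x a ha =>
    ⟨⟨a, (sign_emF a).symm.trans (hsign _ (by rw [A.Φ_f, ha]; exact x.2))⟩, Subtype.ext ha⟩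
  have hcard : Nat.card (centralizer ({fM (zL * wL)} : Set M)) = 18 := by
    set C := centralizer ({A.f (zP * wP)} : Set G) with hC
    have htC : A.toLoc.t ∈ C := mem_centralizer_singleton_iff.2
      (A.toLoc.comm_f (by decide +kernel : tP * (zP * wP) = zP * wP * tP)).eq
    have hi : (M.subgroupOf C).index = 2 := by
      rw [index_eq_two_iff]
      refine ⟨⟨A.toLoc.t, htC⟩, fun b => ?_⟩
      rw [mem_subgroupOf, mem_subgroupOf, coe_mul, mul_mem_iff_of_index_two hMi]
      by_cases hb : (b : G) ∈ M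
      · exact Or.inr ⟨hb, fun h => htM (h.1 hb)⟩
      · exact Or.inl ⟨iff_of_false hb htM, hb⟩
    have h := (M.subgroupOf C).card_mul_index
    rw [hi, hC, A.card_zw] at h
    have e : (centralizer ({fM (zL * wL)} : Set M)).map M.subtype = (M.subgroupOf C).map C.subtype := by
      rw [subgroupOf_map_subtype]
      ext x
      simp only [mem_map, mem_inf, hC, mem_centralizer_singleton_iff]
      refine ⟨?_, fun ⟨h1, h2⟩ => ⟨⟨x, h1⟩, Subtype.ext ?_, rfl⟩⟩
      · rintro ⟨a, ha, rfl⟩
        refine ⟨a.2, ?_⟩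
        have := congrArg Subtype.val ha
        rw [← hzwl]
        exact this
      · rw [← hzwl] at h2
        exact h2
    rw [← card_map_of_injective M.subtype_injective, e, card_map_of_injective C.subtype_injective]
    rw [← hC] at h
    omega
  let B : AltEightLocal.Loc M :=
    { f := fM
      g := gM
      f_inj := fun a b h => Subtype.ext (A.f_inj (congrArg Subtype.val h))
      g_inj := fun a b h => Subtype.ext (A.toLoc.g_inj (congrArg Subtype.val h))
      f_norm := fun x hx => by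
        obtain ⟨a, ha⟩ := A.f_norm (x : G) (by
          rcases hx with e | e
          · exact Or.inl (by have := congrArg Subtype.val e; rwa [coe_mul, coe_mul, coe_inv, hfz] at this)
          · exact Or.inr (by have := congrArg Subtype.val e; rwa [coe_mul, coe_mul, coe_inv, coe_inv, hfz] at this))
        exact hrange x a ha
      g_norm := fun x hx => by
        obtain ⟨a, ha⟩ := A.toLoc.g_norm (x : G) (by
          rcases hx with e | e
          · exact Or.inl (by have := congrArg Subtype.val e; rwa [coe_mul, coe_mul, coe_inv, hfw] at this)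
          · exact Or.inr (by have := congrArg Subtype.val e; rwa [coe_mul, coe_mul, coe_inv, coe_inv, hfw] at this))
        exact ⟨⟨a, (sign_emG a).symm.trans (hsign _ (by rw [A.Φ_g, ha]; exact x.2))⟩, Subtype.ext ha⟩
      gz := Subtype.ext (hgw.trans hfz.symm)
      gw := Subtype.ext (hgz.trans hfw.symm)
      gr := Subtype.ext (show A.toLoc.g (rL : Pr) = A.f (s3 : Pr) by rw [← A.Φ_f, ← A.Φ_g, hr])
      gt := Subtype.ext (show A.toLoc.g (t6 : Pr) = A.f (s6 : Pr) by rw [← A.Φ_f, ← A.Φ_g, ht])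
      cenD := fun x h1 h2 => by
        obtain ⟨a, ha, hax⟩ := A.toLoc.cenD (x := (x : G)) (hfz ▸ congrArg Subtype.val h1.eq)
          (hfw ▸ congrArg Subtype.val h2.eq)
        obtain ⟨b, hb⟩ := hrange x a hax
        have hba : (b : Pr) = a := A.f_inj ((congrArg Subtype.val hb).trans hax.symm)
        refine ⟨b, AltEightLocal.mem_torusGrp.2 ?_, hb⟩
        have := torus_small a ha (hba ▸ b.2)
        rwa [show b = ⟨a, hba ▸ b.2⟩ from Subtype.ext hba]
      card_zw := hcard
      not27 := fun h => A.not27 (h.trans (card_subgroup_dvd_card M)) }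
  let A' : AltEightLocal.Gen M :=
    { B with
      bu := Subtype.ext (show A.toLoc.g (bL : Pr) * A.f (uL : Pr) = A.f (uL : Pr) * A.toLoc.g (bL : Pr) by
        rw [← A.Φ_f, ← A.Φ_g, ← map_mul, ← map_mul, hbu.eq])
      bv := Subtype.ext (show A.toLoc.g (bL : Pr) * A.f (vL : Pr) = A.f (vL : Pr) * A.toLoc.g (bL : Pr) by
        rw [← A.Φ_f, ← A.Φ_g, ← map_mul, ← map_mul, hbv.eq]) }
  have hMc : Nat.card M = 20160 := by
    have e := Nat.card_congr (MonoidHom.ofInjective A'.Φ_inj).toEquiv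
    rw [A'.range_eq_top, card_top, nat_card_alternatingGroup, Nat.card_fin] at e
    rw [← e]; rfl
  have hG : Nat.card G = Nat.card (Perm (Fin 8)) := by
    rw [← M.card_mul_index, hMc, hMi, Nat.card_perm, Nat.card_fin]; rfl
  exact ⟨(MulEquiv.ofBijective A.Φ ((Nat.bijective_iff_injective_and_card _).2 ⟨A.Φ_inj, hG.symm⟩)).symm⟩

end Linked

theorem iso_of_caseA {G : Type u} [Group G] [Finite G] (L : Loc G) (hA : L.b = bA) : Nonempty (G ≃* Perm (Fin 8)) := by
  obtain ⟨L', hA', hl⟩ := L.exists_link hA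
  exact Linked.iso ⟨L', hA', hl⟩

end Cfsg.Lib.SymEightLocal
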