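import Cfsg.Agent.LocalThree.SymEightLocal.Sixteen

/-!
Elements normalising both the group of order sixteen and the torus.
-/

set_option autoImplicit false
set_option synthInstance.maxSize 4096
set_option maxRecDepth 100000
set_option maxHeartbeats 1000000

namespace Cfsg.Lib.SymEightLocal

open Equiv Subgroup Cfsg.Lib.AltEightLocal

universe u

/-- The inverting pair. -/
def tauP : Pr := eP * (1, bA)

theorem tau_facts : tauP * tauP = 1 ∧ tauP * zP * tauP⁻¹ = zP⁻¹ ∧ tauP * wP * tauP⁻¹ = wP⁻¹ ∧ tauP.2 = bA ∧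
    (∀ a : Perm (Fin 5), tauP * ((1 : Perm (Fin 3)), a) * tauP⁻¹ = (1, bA * a * bA⁻¹)) := by decide +kernel

theorem exclude_facts : (eP * tP * ((1 : Perm (Fin 3)), p1) * (eP * tP)⁻¹).2 ∉ vset ∧
    Perm.sign (eP * tP * ((1 : Perm (Fin 3)), p1) * (eP * tP)⁻¹).2 = 1 ∧
    (eP * tP * ((1 : Perm (Fin 3)), p1) * (eP * tP)⁻¹).1 = 1 ∧ ((1 : Perm (Fin 3)), bA) = (1, bB) * tP := by
  decide +kernel

theorem cd_torus' : ∀ a ∈ cdP, a ∈ torusP ∨ a * tP ∈ torusP := by decide +kernel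

theorem cd_torus : ∀ a ∈ cdP, ∃ e : ℕ, (e = 0 ∨ e = 1) ∧ a * tP ^ e ∈ torusP := by
  intro a ha
  rcases cd_torus' a ha with h | h
  · exact ⟨0, Or.inl rfl, by rw [pow_zero, mul_one]; exact h⟩
  · exact ⟨1, Or.inr rfl, by rw [pow_one]; exact h⟩

theorem torus_v : ∀ t ∈ torusP, ∀ v ∈ vset, (t * ((1 : Perm (Fin 3)), v) * t⁻¹).1 = 1 ∧
    (t * ((1 : Perm (Fin 3)), v) * t⁻¹).2 ∈ vset := by decide +kernel

namespace Crossed

variable {G : Type u} [Group G] [Finite G] (B : Crossed G)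

/-- The inverting involution. -/
def tau : G := B.f tauP

theorem tau_sq : B.tau * B.tau = 1 := by rw [tau, ← map_mul, tau_facts.1, map_one]

theorem tau_inv : B.tau⁻¹ = B.tau := inv_eq_of_mul_eq_one_right B.tau_sq

theorem isT_tau : B.toLoc.IsT B.tau := (B.toLoc.tau_eq B.hB).2

theorem tau_z : B.tau * B.toLoc.z * B.tau⁻¹ = B.toLoc.z⁻¹ :=
  (conj_hom B.f tau_facts.2.1).trans (map_inv B.f _)

theorem tau_w : B.tau * B.toLoc.w * B.tau⁻¹ = B.toLoc.w⁻¹ :=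
  (conj_hom B.f tau_facts.2.2.1).trans (map_inv B.f _)

/-- Conjugation by a transposition on the alternating group. -/
def sconj (a : A5) : A5 := ⟨bA * a * bA⁻¹, by
  rw [Perm.mem_alternatingGroup, map_mul, map_mul, map_inv, Perm.mem_alternatingGroup.1 a.2, mul_one, mul_inv_cancel]⟩

theorem tau_φ (a b : A5) : B.tau * B.φ (a, b) * B.tau⁻¹ = B.φ (sconj a, sconj b) := by
  rw [φ_apply, φ_apply, ← conj_mul]
  refine congrArg₂ (· * ·) (conj_hom B.f (tau_facts.2.2.2.2 a)) ?_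
  rw [tau, show B.f tauP = B.toLoc.g tauP from (B.toLoc.tau_eq B.hB).1.symm]
  exact conj_hom B.toLoc.g (tau_facts.2.2.2.2 b)

theorem conj_mem_N {H : Subgroup G} {x : G} (h : ∀ a ∈ H, x * a * x⁻¹ ∈ H) : x ∈ normalizer (H : Set G) :=
  mem_normalizer_fintype h

theorem tau_NA : B.tau ∈ normalizer (B.A : Set G) := conj_mem_N fun x hx => by
  obtain ⟨a, ha, b, hb, rfl⟩ := B.mem_A.1 hx
  rw [tau_φ]
  exact B.mem_A.2 ⟨_, vset_grp.2.2.2.2.2.1 _ ha, _, vset_grp.2.2.2.2.2.1 _ hb, rfl⟩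

theorem tau_ND : B.tau ∈ normalizer (B.D : Set G) :=
  B.toLoc.cent_D_aux (by decide +kernel) (by decide +kernel)

/-- An element exchanging the two groups. -/
theorem exists_i : ∃ i : G, i * i = 1 ∧ i * B.toLoc.z * i⁻¹ = B.toLoc.w ∧ i * B.toLoc.w * i⁻¹ = B.toLoc.z ∧
    Commute i B.toLoc.t ∧ (∀ v ∈ V, ∃ v' ∈ V, i * B.toLoc.e1 v * i⁻¹ = B.toLoc.e2 v') ∧
    (∀ v ∈ V, ∃ v' ∈ V, i * B.toLoc.e2 v * i⁻¹ = B.toLoc.e1 v') := by
  set L := B.toLoc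
  set C := centralizer ({L.f (zP * wP)} : Set G) with hC
  obtain ⟨x, hxC, hxn⟩ : ∃ x ∈ C, x ∉ centralizer (L.D : Set G) := by
    by_contra hcon
    push Not at hcon
    let ψ : C → {a // a ∈ cdP} := fun x =>
      ⟨(L.cenD (L.mem_centD.1 (hcon x x.2)).1 (L.mem_centD.1 (hcon x x.2)).2).choose,
        (L.cenD (L.mem_centD.1 (hcon x x.2)).1 (L.mem_centD.1 (hcon x x.2)).2).choose_spec.1⟩
    have h1 := Nat.card_le_card_of_injective ψ fun a b h => by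
      have ha := (L.cenD (L.mem_centD.1 (hcon a a.2)).1 (L.mem_centD.1 (hcon a a.2)).2).choose_spec.2
      have hb := (L.cenD (L.mem_centD.1 (hcon b b.2)).1 (L.mem_centD.1 (hcon b b.2)).2).choose_spec.2
      exact Subtype.ext (ha.symm.trans ((congrArg (fun e => L.f e) (congrArg Subtype.val h)).trans hb))
    rw [hC, L.card_zw, Nat.card_eq_fintype_card, Fintype.card_coe, card_cd] at h1
    omega
  set i0 := x ^ 3 with hi0
  have hi2 : i0 * i0 = 1 := by rw [hi0, ← pow_add, show 3 + 3 = 2 * 3 from rfl, pow_mul, L.D_exp (L.zw_sq x hxC)]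
  have hi0C : i0 ∈ C := pow_mem hxC 3
  have hDcen : L.D ≤ centralizer (L.D : Set G) := fun d hd => mem_centralizer_iff.2 fun e he => by
    haveI := L.D_comm
    exact congrArg Subtype.val (mul_comm' (⟨e, he⟩ : L.D) ⟨d, hd⟩)
  have hi0n : i0 ∉ centralizer (L.D : Set G) := fun h => hxn (by
    rw [show x = i0 * (x ^ 2)⁻¹ by rw [hi0, pow_succ' x 2, mul_inv_cancel_right]]
    exact mul_mem h (inv_mem (hDcen (L.zw_sq x hxC))))
  have hi0N : i0 ∈ normalizer (L.D : Set G) := L.mem_N (L.zw_norm i0 hi0C)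
  have hfix : i0 * L.z * i0⁻¹ * (i0 * L.w * i0⁻¹) = L.z * L.w := by
    rw [conj_mul, ← map_mul, mul_inv_eq_iff_eq_mul]
    exact mem_centralizer_singleton_iff.1 hi0C
  have hwz : L.z * L.w = L.f (zP * wP) := (map_mul L.f _ _).symm
  obtain ⟨hiz, hiw⟩ : i0 * L.z * i0⁻¹ = L.w ∧ i0 * L.w * i0⁻¹ = L.z := by
    have hsw : i0 * L.w * i0⁻¹ = L.w ∨ i0 * L.w * i0⁻¹ = L.w⁻¹ ∨ i0 * L.w * i0⁻¹ = L.z ∨ i0 * L.w * i0⁻¹ = L.z⁻¹ := by
      have h := L.swap.norm_lines (x := i0) hi0N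
      have e1 : L.swap.z = L.w := L.gw
      have e2 : L.swap.w = L.z := L.gz
      rwa [e1, e2] at h
    rcases L.norm_lines hi0N with h | h | h | h <;> rcases hsw with h' | h' | h' | h'
    all_goals rw [h, h', hwz] at hfix
    all_goals first
      | exact ⟨h, h'⟩
      | exact (hi0n (L.mem_centD.2 ⟨mul_inv_eq_iff_eq_mul.1 h, mul_inv_eq_iff_eq_mul.1 h'⟩)).elim
      | (simp only [← map_inv, ← map_mul] at hfix; exact absurd (L.f_inj hfix) (by decide +kernel))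
  have hmi : ∀ a : G, L.m⁻¹ * i0 * a * (L.m⁻¹ * i0)⁻¹ = L.m⁻¹ * (i0 * a * i0⁻¹) * L.m := fun a => by group
  obtain ⟨a, ha, hae⟩ := L.cenD (x := L.m⁻¹ * i0)
    (mul_inv_eq_iff_eq_mul.1 (by rw [hmi, hiz, show L.w = L.m * L.z * L.m⁻¹ from L.mz.symm]; group))
    (mul_inv_eq_iff_eq_mul.1 (by rw [hmi, hiw, show L.z = L.m * L.w * L.m⁻¹ from L.mw.symm]; group))
  obtain ⟨e, he, het⟩ := cd_torus a ha
  set i := i0 * L.t ^ e with hi
  have hct : Commute i0 L.t := L.t_central hi0N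
  have hte : Commute i0 (L.t ^ e) := hct.pow_right e
  have hcz : ∀ y : G, Commute (L.t ^ e) y → i * y * i⁻¹ = i0 * y * i0⁻¹ := fun y hy => by
    rw [hi, show i0 * L.t ^ e * y * (i0 * L.t ^ e)⁻¹ = i0 * (L.t ^ e * y * (L.t ^ e)⁻¹) * i0⁻¹ by group, hy.eq,
      mul_inv_cancel_right]
  have hii : i * i = 1 := by
    rw [hi, hte.symm.mul_mul_mul_comm, hi2, one_mul, ← pow_add]
    rcases he with rfl | rfl
    · rw [pow_zero]
    · rw [pow_succ, pow_one, L.t_sq]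
  have hiinv : i⁻¹ = i := inv_eq_of_mul_eq_one_right hii
  have hiform : i = L.m * L.f (a * tP ^ e) := by
    rw [hi, map_mul, hae, map_pow]; group
  have h1 : ∀ v ∈ V, ∃ v' ∈ V, i * L.e1 v * i⁻¹ = L.e2 v' := by
    intro v hv
    obtain ⟨t1, t2⟩ := torus_v _ het _ (mem_V.1 hv)
    refine ⟨⟨_, Perm.mem_alternatingGroup.2 (vset_grp.2.2.1 _ t2)⟩, t2, ?_⟩
    rw [hiform, Loc.e1_apply, Loc.e2_apply, L.g_apply]
    rw [show L.m * L.f (a * tP ^ e) * L.f (1, (v : Perm (Fin 5))) * (L.m * L.f (a * tP ^ e))⁻¹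
      = L.m * (L.f (a * tP ^ e) * L.f (1, (v : Perm (Fin 5))) * (L.f (a * tP ^ e))⁻¹) * L.m⁻¹ by group,
      conj_hom L.f rfl]
    exact congrArg (fun p => L.m * L.f p * L.m⁻¹) (Prod.ext t1 rfl)
  refine ⟨i, hii, (hcz _ ((L.comm_f (by decide +kernel : tP * zP = zP * tP)).pow_left e)).trans hiz,
    (hcz _ ((L.comm_f (by decide +kernel : tP * wP = wP * tP)).pow_left e)).trans hiw,
    hct.mul_left ((Commute.refl _).pow_left e), h1, fun v hv => ?_⟩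
  choose φ hφ hφe using h1
  have hbij : Function.Bijective (fun v : V => (⟨φ v v.2, hφ v v.2⟩ : V)) := Finite.injective_iff_bijective.1
    fun x y h => by
      have e' : i * L.e1 x * i⁻¹ = i * L.e1 y * i⁻¹ := by
        rw [hφe x x.2, hφe y y.2]; exact congrArg (fun q : V => L.e2 q) h
      exact Subtype.ext (L.e1_inj (mul_left_cancel (mul_right_cancel e')))
  obtain ⟨v', hv'⟩ := hbij.2 ⟨v, hv⟩
  refine ⟨v', v'.2, ?_⟩
  rw [← show φ v' v'.2 = v from congrArg Subtype.val hv', ← hφe, hiinv,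
    show i * (i * L.e1 v' * i) * i = (i * i) * L.e1 v' * (i * i) by group, hii, one_mul, mul_one]

/-- The exchanging involution. -/
noncomputable def inv₂ : G := B.exists_i.choose

theorem inv₂_sq : B.inv₂ * B.inv₂ = 1 := B.exists_i.choose_spec.1

theorem inv₂_z : B.inv₂ * B.toLoc.z * B.inv₂⁻¹ = B.toLoc.w := B.exists_i.choose_spec.2.1

theorem inv₂_w : B.inv₂ * B.toLoc.w * B.inv₂⁻¹ = B.toLoc.z := B.exists_i.choose_spec.2.2.1

theorem inv₂_t : Commute B.inv₂ B.toLoc.t := B.exists_i.choose_spec.2.2.2.1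

theorem inv₂_left (a : A5) (ha : a ∈ V) : ∃ v' ∈ V, B.inv₂ * B.φ (a, 1) * B.inv₂⁻¹ = B.φ (1, v') := by
  obtain ⟨v, hv, e⟩ := B.exists_i.choose_spec.2.2.2.2.1 a ha
  exact ⟨v, hv, by rw [φ_left, φ_right]; exact e⟩

theorem inv₂_right (b : A5) (hb : b ∈ V) : ∃ v' ∈ V, B.inv₂ * B.φ (1, b) * B.inv₂⁻¹ = B.φ (v', 1) := by
  obtain ⟨v, hv, e⟩ := B.exists_i.choose_spec.2.2.2.2.2 b hb
  exact ⟨v, hv, by rw [φ_left, φ_right]; exact e⟩

theorem inv₂_NA : B.inv₂ ∈ normalizer (B.A : Set G) := conj_mem_N fun x hx => by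
  obtain ⟨a, ha, b, hb, rfl⟩ := B.mem_A.1 hx
  obtain ⟨a', ha', ea⟩ := B.inv₂_left a ha
  obtain ⟨b', hb', eb⟩ := B.inv₂_right b hb
  rw [show ((a, b) : A5 × A5) = (a, 1) * (1, b) by simp, map_mul, ← conj_mul, ea, eb, ← map_mul]
  exact B.mem_A.2 ⟨b', hb', a', ha', congrArg B.φ (by simp)⟩

theorem inv₂_ND : B.inv₂ ∈ normalizer (B.D : Set G) := conj_mem_N fun d hd => by
  obtain ⟨t, ht, rfl⟩ := B.toLoc.of_mem_D hd
  obtain ⟨i, j, rfl⟩ := torus_decomp (mem_torusGrp.2 ht)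
  rw [map_mul, map_pow, map_pow, ← conj_mul, ← conj_pow, ← conj_pow, show B.f zP = B.toLoc.z from rfl,
    show B.f wP = B.toLoc.w from rfl, B.inv₂_z, B.inv₂_w]
  exact mul_mem (pow_mem B.toLoc.w_mem _) (pow_mem B.toLoc.z_mem _)

/-- The common normaliser. -/
def M : Subgroup G := normalizer (B.A : Set G) ⊓ normalizer (B.D : Set G)

theorem mem_A_D {x : G} (h1 : x ∈ B.A) (h2 : x ∈ B.D) : x = 1 :=
  Subgroup.disjoint_def.1 (disjoint_of_coprime_card (H := B.A) (K := B.D)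
    (by rw [B.card_A, B.toLoc.card_D]; norm_num)) h1 h2

theorem comm_of_normal {x d : G} (hx : x ∈ B.A) (hd : d ∈ B.D) (hxN : x ∈ normalizer (B.D : Set G)) :
    Commute x d := by
  refine mul_inv_eq_iff_eq_mul.1 (mul_inv_eq_one.1 (B.mem_A_D ?_ ?_))
  · rw [show x * d * x⁻¹ * d⁻¹ = x * (d * x⁻¹ * d⁻¹) by group]
    exact mul_mem hx ((mem_normalizer_iff.1 (B.D_norm hd) _).1 (inv_mem hx))
  · exact mul_mem ((mem_normalizer_iff.1 hxN _).1 hd) (inv_mem hd)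

theorem A_inf_ND {x : G} (hx : x ∈ B.A) (hxN : x ∈ normalizer (B.D : Set G)) : x = 1 := by
  have hz := B.comm_of_normal hx B.toLoc.z_mem hxN
  have hw := B.comm_of_normal hx B.toLoc.w_mem hxN
  obtain ⟨a, ha, b, hb, rfl⟩ := B.mem_A.1 hx
  have key : ∀ v ∈ vset, v * c5 = c5 * v → v = 1 := by decide +kernel
  have h1 : (a : Perm (Fin 5)) * c5 = c5 * a := by
    have h : B.φ (a, b) * B.φ (⟨c5, c5_mem⟩, 1) = B.φ (⟨c5, c5_mem⟩, 1) * B.φ (a, b) := by rw [← B.w_eq]; exact hw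
    rw [← map_mul, ← map_mul] at h
    exact congrArg (fun p : A5 × A5 => (p.1 : Perm (Fin 5))) (B.φ_inj h)
  have h2 : (b : Perm (Fin 5)) * c5 = c5 * b := by
    have h : B.φ (a, b) * B.φ (1, ⟨c5, c5_mem⟩) = B.φ (1, ⟨c5, c5_mem⟩) * B.φ (a, b) := by rw [← B.z_eq]; exact hz
    rw [← map_mul, ← map_mul] at h
    exact congrArg (fun p : A5 × A5 => (p.2 : Perm (Fin 5))) (B.φ_inj h)
  rw [show ((a, b) : A5 × A5) = 1 from Prod.ext (Subtype.ext (key _ ha h1)) (Subtype.ext (key _ hb h2)), map_one]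

/-- Elements of the normaliser centralising the first line. -/
theorem fix_z {x : G} (hx : x ∈ normalizer (B.A : Set G)) (hz : Commute x B.toLoc.z) :
    ∃ d ∈ B.D, ∃ a ∈ B.A, x = d * a := by
  obtain ⟨p, rfl, hp⟩ := B.toLoc.cent_z hz
  have hstab : ∀ v ∈ vset, p.2 * v * p.2⁻¹ ∈ vset := by
    intro v hv
    set v' : A5 := ⟨v, Perm.mem_alternatingGroup.2 (vset_grp.2.2.1 v hv)⟩
    have hm := (mem_normalizer_iff.1 hx _).1 (B.e1_mem (v := v') hv)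
    have he : B.toLoc.e1 ⟨p.2 * v * p.2⁻¹, by
        rw [Perm.mem_alternatingGroup, map_mul, map_mul, map_inv, vset_grp.2.2.1 v hv, mul_one, mul_inv_cancel]⟩
        = B.f p * B.toLoc.e1 v' * (B.f p)⁻¹ := by
      rw [Loc.e1_apply, Loc.e1_apply, conj_hom B.f rfl]
      exact congrArg B.f (Prod.ext (by simp) rfl)
    exact B.mem_e1 hm he
  obtain ⟨i, -, j, -, v, hv, hp'⟩ := stab_v p hp hstab
  set v' : A5 := ⟨v, Perm.mem_alternatingGroup.2 (vset_grp.2.2.1 v hv)⟩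
  have hd : B.f (zP ^ i * wP ^ j) ∈ B.D :=
    B.toLoc.mem_D (mul_mem (pow_mem zP_mem _) (pow_mem wP_mem _))
  rcases hp' with rfl | rfl
  · exact ⟨_, hd, _, B.e1_mem (v := v') hv, map_mul B.f _ _⟩
  · exfalso
    have hq : B.f (1, bA) ∈ normalizer (B.A : Set G) := by
      refine (mul_mem_cancel_left (x := B.f (zP ^ i * wP ^ j * (1, v))) ?_).1 (by rw [← map_mul]; exact hx)
      rw [map_mul]
      exact mul_mem (B.D_norm hd) (le_normalizer (B.e1_mem (v := v') hv))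
    obtain ⟨f1, f2, f3, f4⟩ := exclude_facts
    have hp1 : p1 ∈ A5 := Perm.mem_alternatingGroup.2 (vset_grp.2.2.1 _ v_facts.2.2.2.2.1)
    have hm := (mem_normalizer_iff.1 hq _).1 (B.e2_mem (v := ⟨p1, hp1⟩) v_facts.2.2.2.2.1)
    refine f1 (B.mem_e2 hm (b := ⟨_, Perm.mem_alternatingGroup.2 f2⟩) ?_)
    rw [f4, map_mul, Loc.e2_apply, Loc.e2_apply,
      show B.f (1, bB) = B.toLoc.g eP from (B.toLoc.gB B.hB).1.symm, show B.f tP = B.toLoc.g tP from B.toLoc.gt.symm,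
      ← map_mul B.toLoc.g eP tP, conj_hom B.toLoc.g rfl]
    exact congrArg B.toLoc.g (Prod.ext f3.symm rfl)

theorem M_z {x : G} (hx : x ∈ B.M) (hz : Commute x B.toLoc.z) : x ∈ B.D := by
  obtain ⟨d, hd, a, ha, rfl⟩ := B.fix_z hx.1 hz
  rw [B.A_inf_ND ha ((mul_mem_cancel_left (le_normalizer hd)).1 hx.2), mul_one]
  exact hd

theorem tau_M : B.tau ∈ B.M := ⟨B.tau_NA, B.tau_ND⟩

theorem inv₂_M : B.inv₂ ∈ B.M := ⟨B.inv₂_NA, B.inv₂_ND⟩

theorem D_M : B.D ≤ B.M := fun _ hd => ⟨B.D_norm hd, le_normalizer hd⟩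

theorem inv₂_inv : B.inv₂⁻¹ = B.inv₂ := inv_eq_of_mul_eq_one_right B.inv₂_sq

theorem M_cases {x : G} (hx : x ∈ B.M) :
    ∃ d ∈ B.D, x = d ∨ x = B.tau * d ∨ x = B.inv₂ * d ∨ x = B.inv₂ * B.tau * d := by
  have key : ∀ y ∈ B.M, y * x * B.toLoc.z * (y * x)⁻¹ = B.toLoc.z → y * x ∈ B.D := fun y hy h =>
    B.M_z (mul_mem hy hx) (mul_inv_eq_iff_eq_mul.1 h)
  have hconj : ∀ y : G, y * x * B.toLoc.z * (y * x)⁻¹ = y * (x * B.toLoc.z * x⁻¹) * y⁻¹ := fun y => by group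
  have hti : B.tau * B.toLoc.z⁻¹ * B.tau⁻¹ = B.toLoc.z := by rw [← conj_inv, B.tau_z, inv_inv]
  have hiw : B.inv₂ * B.toLoc.w⁻¹ * B.inv₂⁻¹ = B.toLoc.z⁻¹ := by rw [← conj_inv, B.inv₂_w]
  rcases B.toLoc.norm_lines hx.2 with h | h | h | h
  · exact ⟨x, B.M_z hx (mul_inv_eq_iff_eq_mul.1 h), Or.inl rfl⟩
  · refine ⟨B.tau * x, key _ B.tau_M (by rw [hconj, h, hti]), Or.inr (Or.inl ?_)⟩
    rw [← mul_assoc, B.tau_sq, one_mul]
  · refine ⟨B.inv₂ * x, key _ B.inv₂_M (by rw [hconj, h, B.inv₂_w]), Or.inr (Or.inr (Or.inl ?_))⟩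
    rw [← mul_assoc, B.inv₂_sq, one_mul]
  · refine ⟨B.tau * B.inv₂ * x, key _ (mul_mem B.tau_M B.inv₂_M) ?_, Or.inr (Or.inr (Or.inr ?_))⟩
    · rw [hconj, h, show B.tau * B.inv₂ * B.toLoc.w⁻¹ * (B.tau * B.inv₂)⁻¹
        = B.tau * (B.inv₂ * B.toLoc.w⁻¹ * B.inv₂⁻¹) * B.tau⁻¹ by group, hiw, hti]
    · rw [show B.inv₂ * B.tau * (B.tau * B.inv₂ * x) = B.inv₂ * (B.tau * B.tau) * B.inv₂ * x by group, B.tau_sq,
        mul_one, B.inv₂_sq, one_mul]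

theorem D_conj {d : G} (hd : d ∈ B.D) {s : G} (hs : s ∈ B.D) : d * s * d⁻¹ = s := by
  haveI := B.toLoc.D_comm
  rw [show d * s = s * d from congrArg Subtype.val (mul_comm' (⟨d, hd⟩ : B.D) ⟨s, hs⟩), mul_inv_cancel_right]

theorem M_act {x : G} (hx : x ∈ B.M) :
    (x * B.toLoc.z * x⁻¹ = B.toLoc.z ∧ x * B.toLoc.w * x⁻¹ = B.toLoc.w) ∨
    (x * B.toLoc.z * x⁻¹ = B.toLoc.z⁻¹ ∧ x * B.toLoc.w * x⁻¹ = B.toLoc.w⁻¹) ∨
    (x * B.toLoc.z * x⁻¹ = B.toLoc.w ∧ x * B.toLoc.w * x⁻¹ = B.toLoc.z) ∨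
    (x * B.toLoc.z * x⁻¹ = B.toLoc.w⁻¹ ∧ x * B.toLoc.w * x⁻¹ = B.toLoc.z⁻¹) := by
  obtain ⟨d, hd, hx'⟩ := B.M_cases hx
  have h1 : ∀ (y s : G), s ∈ B.D → y * d * s * (y * d)⁻¹ = y * s * y⁻¹ := fun y s hs => by
    rw [show y * d * s * (y * d)⁻¹ = y * (d * s * d⁻¹) * y⁻¹ by group, B.D_conj hd hs]
  rcases hx' with rfl | rfl | rfl | rfl
  · exact Or.inl ⟨B.D_conj hd B.toLoc.z_mem, B.D_conj hd B.toLoc.w_mem⟩
  · exact Or.inr (Or.inl ⟨(h1 _ _ B.toLoc.z_mem).trans B.tau_z, (h1 _ _ B.toLoc.w_mem).trans B.tau_w⟩)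
  · exact Or.inr (Or.inr (Or.inl ⟨(h1 _ _ B.toLoc.z_mem).trans B.inv₂_z, (h1 _ _ B.toLoc.w_mem).trans B.inv₂_w⟩))
  · refine Or.inr (Or.inr (Or.inr ⟨(h1 _ _ B.toLoc.z_mem).trans ?_, (h1 _ _ B.toLoc.w_mem).trans ?_⟩))
    · rw [show B.inv₂ * B.tau * B.toLoc.z * (B.inv₂ * B.tau)⁻¹ = B.inv₂ * (B.tau * B.toLoc.z * B.tau⁻¹) * B.inv₂⁻¹ by
        group, B.tau_z, ← conj_inv, B.inv₂_z]
    · rw [show B.inv₂ * B.tau * B.toLoc.w * (B.inv₂ * B.tau)⁻¹ = B.inv₂ * (B.tau * B.toLoc.w * B.tau⁻¹) * B.inv₂⁻¹ by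
        group, B.tau_w, ← conj_inv, B.inv₂_w]

theorem M_sq {x : G} (hx : x ∈ B.M) : x * x ∈ B.D := by
  refine B.M_z (mul_mem hx hx) (mul_inv_eq_iff_eq_mul.1 ?_)
  rw [show x * x * B.toLoc.z * (x * x)⁻¹ = x * (x * B.toLoc.z * x⁻¹) * x⁻¹ by group]
  rcases B.M_act hx with ⟨h, h'⟩ | ⟨h, h'⟩ | ⟨h, h'⟩ | ⟨h, h'⟩ <;> rw [h]
  · exact h
  · rw [← conj_inv, h, inv_inv]
  · exact h'
  · rw [← conj_inv, h', inv_inv]

end Crossed

end Cfsg.Lib.SymEightLocal
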