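import Cfsg.Agent.LocalThree.SymEightLocal.Setup
import Mathlib.GroupTheory.PGroup

/-!
The elements of order three and three classes of involutions.
-/

set_option autoImplicit false
set_option synthInstance.maxSize 4096
set_option maxRecDepth 100000
set_option maxHeartbeats 1000000

namespace Cfsg.Lib.SymEightLocal

open Equiv Subgroup Cfsg.Lib.AltEightLocal

universe u

theorem comm_torus : ∀ s ∈ torusP, ∀ t ∈ torusP, s * t = t * s := by decide +kernel

theorem torus_exp : ∀ t ∈ torusP, t ^ 3 = 1 := by decide +kernel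

theorem torus_cd : ∀ t ∈ torusP, t * tP = tP * t := by decide +kernel

theorem three_u : ∀ a : Pr, a * zP = zP * a → a * (1, bB) = (1, bB) * a → a ^ 3 = 1 →
    a = 1 ∨ a = zP ∨ a = zP⁻¹ := by decide +kernel

theorem tP_props : tP * tP = 1 ∧ tP ≠ 1 ∧ Commute ((1 : Perm (Fin 3)), bB) zP ∧ zP * wP = wP * zP ∧
    zP * tP = tP * zP ∧ wP * tP = tP * wP := by
  unfold Commute SemiconjBy
  decide +kernel

namespace Loc

variable {G : Type u} [Group G] (L : Loc G)

/-- The first three-element. -/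
abbrev z : G := L.f zP
/-- The second three-element. -/
abbrev w : G := L.f wP
/-- The central involution. -/
abbrev t : G := L.f tP
/-- The second embedding. -/
def g : Pr →* G := (MulAut.conj L.m).toMonoidHom.comp L.f

theorem g_apply (x : Pr) : L.g x = L.m * L.f x * L.m⁻¹ := rfl

theorem g_inj : Function.Injective L.g := (MulAut.conj L.m).injective.comp L.f_inj

theorem gz : L.g wP = L.z := L.mw

theorem gw : L.g zP = L.w := L.mz

theorem gt : L.g tP = L.t := L.mt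

theorem gzw : L.g (zP * wP) = L.f (zP * wP) := by
  rw [map_mul, L.gw, L.gz, ← map_mul, tP_props.2.2.2.1]

theorem g_norm (x : G) (hx : x * L.w * x⁻¹ = L.w ∨ x * L.w * x⁻¹ = L.w⁻¹) : x ∈ L.g.range := by
  obtain ⟨a, ha⟩ := L.f_norm (L.m⁻¹ * x * L.m) (by
    rcases hx with e | e
    · refine Or.inl ?_
      calc L.m⁻¹ * x * L.m * L.f zP * (L.m⁻¹ * x * L.m)⁻¹
          = L.m⁻¹ * (x * (L.m * L.f zP * L.m⁻¹) * x⁻¹) * L.m := by group
        _ = _ := by rw [L.mz]; show L.m⁻¹ * (x * L.w * x⁻¹) * L.m = _; rw [e, ← L.gw, g_apply]; group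
    · refine Or.inr ?_
      calc L.m⁻¹ * x * L.m * L.f zP * (L.m⁻¹ * x * L.m)⁻¹
          = L.m⁻¹ * (x * (L.m * L.f zP * L.m⁻¹) * x⁻¹) * L.m := by group
        _ = _ := by rw [L.mz]; show L.m⁻¹ * (x * L.w * x⁻¹) * L.m = _; rw [e, ← L.gw, g_apply]; group)
  exact ⟨a, by rw [g_apply, ha]; group⟩

theorem comm_f {a b : Pr} (h : a * b = b * a) : Commute (L.f a) (L.f b) := commute_hom L.f h

theorem comm_g {a b : Pr} (h : a * b = b * a) : Commute (L.g a) (L.g b) := commute_hom L.g h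

theorem comm_f_iff {a b : Pr} : Commute (L.f a) (L.f b) ↔ a * b = b * a :=
  ⟨fun h => L.f_inj (by rw [map_mul, map_mul]; exact h), L.comm_f⟩

theorem comm_g_iff {a b : Pr} : Commute (L.g a) (L.g b) ↔ a * b = b * a :=
  ⟨fun h => L.g_inj (by rw [map_mul, map_mul]; exact h), L.comm_g⟩

theorem cent_z {x : G} (h : Commute x L.z) : ∃ a : Pr, L.f a = x ∧ a * zP = zP * a := by
  obtain ⟨a, ha⟩ := L.f_norm x (Or.inl (mul_inv_eq_iff_eq_mul.2 h.eq))
  exact ⟨a, ha, L.comm_f_iff.1 (ha ▸ h)⟩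

theorem cent_w {x : G} (h : Commute x L.w) : ∃ a : Pr, L.g a = x ∧ a * zP = zP * a := by
  obtain ⟨a, ha⟩ := L.g_norm x (Or.inl (mul_inv_eq_iff_eq_mul.2 h.eq))
  exact ⟨a, ha, L.comm_g_iff.1 (by rw [ha, L.gw]; exact h)⟩

theorem cenD {x : G} (h1 : Commute x L.z) (h2 : Commute x L.w) : ∃ a ∈ cdP, L.f a = x := by
  obtain ⟨a, rfl, ha⟩ := L.cent_z h1
  exact ⟨a, cent_torus a ha (L.comm_f_iff.1 h2), rfl⟩

theorem mem_D {t : Pr} (ht : t ∈ torusGrp) : L.f t ∈ L.D := by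
  rw [← L.hD]; exact mem_map_of_mem L.f ht

theorem z_mem : L.z ∈ L.D := L.mem_D zP_mem

theorem w_mem : L.w ∈ L.D := L.mem_D wP_mem

theorem of_mem_D {x : G} (hx : x ∈ L.D) : ∃ t ∈ torusP, L.f t = x := by
  rw [← L.hD] at hx
  exact hx

theorem card_D : Nat.card L.D = 9 := by rw [← L.hD, card_map_of_injective L.f_inj, card_torusGrp]

theorem D_comm : IsMulCommutative L.D := ⟨⟨fun a b => by
  obtain ⟨a', ha, ea⟩ := L.of_mem_D a.2
  obtain ⟨b', hb, eb⟩ := L.of_mem_D b.2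
  refine Subtype.ext ?_
  show (a : G) * b = b * a
  rw [← ea, ← eb, ← map_mul, ← map_mul, comm_torus a' ha b' hb]⟩⟩

theorem D_exp {d : G} (hd : d ∈ L.D) : d ^ 3 = 1 := by
  obtain ⟨t, ht, rfl⟩ := L.of_mem_D hd
  rw [← map_pow, torus_exp t ht, map_one]

theorem mem_centD {x : G} : x ∈ centralizer (L.D : Set G) ↔ Commute x L.z ∧ Commute x L.w := by
  refine ⟨fun h => ⟨(mem_centralizer_iff.1 h _ L.z_mem).symm, (mem_centralizer_iff.1 h _ L.w_mem).symm⟩,
    fun h => mem_centralizer_iff.2 fun d hd => ?_⟩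
  obtain ⟨t, ht, rfl⟩ := L.of_mem_D hd
  obtain ⟨i, j, rfl⟩ := torus_decomp (mem_torusGrp.2 ht)
  rw [map_mul, map_pow, map_pow]
  exact ((h.1.pow_right i).mul_right (h.2.pow_right j)).eq.symm

theorem t_centD : L.t ∈ centralizer (L.D : Set G) :=
  L.mem_centD.2 ⟨L.comm_f tP_props.2.2.2.2.1.symm, L.comm_f tP_props.2.2.2.2.2.symm⟩

theorem t_sq : L.t * L.t = 1 := by rw [← map_mul, tP_props.1, map_one]

theorem t_ne : L.t ≠ 1 := fun h => tP_props.2.1 (L.f_inj (h.trans L.f.map_one.symm))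

theorem eq_t {x : G} (hx : x ∈ centralizer (L.D : Set G)) (h2 : x * x = 1) (h1 : x ≠ 1) : x = L.t := by
  obtain ⟨a, ha, rfl⟩ := L.cenD (L.mem_centD.1 hx).1 (L.mem_centD.1 hx).2
  rcases (cd_spec a ha).2.2.2.1 (L.f_inj (by rw [map_mul, h2, map_one])) with rfl | rfl
  · exact absurd (map_one _) h1
  · rfl

theorem t_central {x : G} (hx : x ∈ normalizer (L.D : Set G)) : Commute x L.t := by
  refine mul_inv_eq_iff_eq_mul.1 (L.eq_t ?_ ?_ fun h => L.t_ne (conj_eq_one_iff.1 h))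
  · refine mem_centralizer_iff.2 fun d hd => ?_
    have h := mem_centralizer_iff.1 L.t_centD _ ((mem_normalizer_iff''.1 hx d).1 hd)
    calc d * (x * L.t * x⁻¹) = x * ((x⁻¹ * d * x) * L.t) * x⁻¹ := by group
      _ = _ := by rw [h]; group
  · rw [conj_mul, L.t_sq]; group

/-- The action on the lines. -/
theorem norm_lines {x : G} (hx : x ∈ normalizer (L.D : Set G)) :
    x * L.z * x⁻¹ = L.z ∨ x * L.z * x⁻¹ = L.z⁻¹ ∨ x * L.z * x⁻¹ = L.w ∨ x * L.z * x⁻¹ = L.w⁻¹ := by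
  obtain ⟨t, ht, he⟩ := L.of_mem_D ((mem_normalizer_iff.1 hx _).1 L.z_mem)
  have hinv : ∀ a : G, Nat.card (centralizer ({a⁻¹} : Set G)) = Nat.card (centralizer ({a} : Set G)) := fun a =>
    Cfsg.Lib.AltEightLocal.card_cent_inv a
  have h1 : Nat.card (centralizer ({L.f t} : Set G)) = 360 := by rw [he, card_cent_conj, L.card_z]
  by_contra hcon
  push Not at hcon
  rcases off_lines t ht (fun e => by
      rw [e, map_one, eq_comm, conj_eq_one_iff] at he
      exact absurd (L.f_inj (he.trans L.f.map_one.symm)) (by decide +kernel))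
    (fun e => hcon.1 (by rw [← he, e])) (fun e => hcon.2.1 (by rw [← he, e, map_inv]))
    (fun e => hcon.2.2.1 (by rw [← he, e])) (fun e => hcon.2.2.2 (by rw [← he, e, map_inv])) with e | e | e | e <;>
    rw [e] at h1
  · rw [L.card_zw] at h1; omega
  · rw [map_inv, hinv, L.card_zw] at h1; omega
  · rw [map_mul, map_mul L.f eP, map_inv, card_cent_conj, L.card_zw] at h1; omega
  · rw [map_inv, hinv, map_mul, map_mul L.f eP, map_inv, card_cent_conj, L.card_zw] at h1; omega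

/-- Exchanging the two lines. -/
def swap : Loc G where
  f := L.g
  m := L.m⁻¹
  D := L.D
  hD := by
    have key : ∀ t ∈ torusGrp, L.g t ∈ L.D := fun t ht => by
      obtain ⟨i, j, rfl⟩ := torus_decomp ht
      rw [map_mul, map_pow, map_pow, L.gw, L.gz]
      exact mul_mem (pow_mem L.w_mem _) (pow_mem L.z_mem _)
    refine le_antisymm (by rintro _ ⟨t, ht, rfl⟩; exact key t ht) fun d hd => ?_
    obtain ⟨t, ht, rfl⟩ := L.of_mem_D hd
    obtain ⟨i, j, rfl⟩ := torus_decomp (mem_torusGrp.2 ht)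
    refine ⟨wP ^ i * zP ^ j, mul_mem (pow_mem wP_mem _) (pow_mem zP_mem _), ?_⟩
    rw [map_mul, map_pow, map_pow, L.gw, L.gz, map_mul, map_pow, map_pow]
  f_inj := L.g_inj
  f_norm := by rw [L.gw]; exact L.g_norm
  mz := by rw [L.g_apply, L.gz]; group
  mw := by rw [L.g_apply, L.gw]; group
  mt := by rw [L.gt]; show L.m⁻¹ * L.f tP * L.m⁻¹⁻¹ = L.f tP; nth_rw 1 [← L.mt]; group
  b := L.b
  hb := L.hb
  mr := by rw [L.g_apply, L.g_apply, L.me]; group
  me := by rw [L.g_apply, L.g_apply, L.mr]; group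
  card_z := by rw [L.g_apply, card_cent_conj, L.card_z]
  card_zw := by rw [L.gzw, L.card_zw]
  zw_norm := by rw [L.gzw]; exact L.zw_norm
  zw_sq := by rw [L.gzw]; exact L.zw_sq
  card_ND := L.card_ND
  aut := L.aut
  aut_surj := L.aut_surj
  aut_ker := L.aut_ker
  not27 := L.not27

variable [Finite G]

include L in
theorem card_pgroup (P : Subgroup G) (hP : IsPGroup 3 P) : Nat.card P ∣ 9 := by
  haveI : Fact (Nat.Prime 3) := ⟨Nat.prime_three⟩
  obtain ⟨k, hk⟩ := IsPGroup.iff_card.1 hP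
  rw [hk, show (9 : ℕ) = 3 ^ 2 from rfl]
  refine pow_dvd_pow 3 ?_
  by_contra h
  exact L.not27 (((pow_dvd_pow 3 (show 3 ≤ k by omega))).trans (hk ▸ card_subgroup_dvd_card P))

include L in
/-- A Sylow subgroup of a subgroup with nine dividing its order, through a given element. -/
theorem exists_nine (K : Subgroup G) (h9 : 9 ∣ Nat.card K) {q : G} (hq : q ∈ K) (hq3 : q ^ 3 = 1) :
    ∃ P : Subgroup G, P ≤ K ∧ q ∈ P ∧ Nat.card P = 9 ∧ IsPGroup 3 P ∧ ∀ a ∈ P, Commute a q := by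
  haveI : Fact (Nat.Prime 3) := ⟨Nat.prime_three⟩
  have hp : IsPGroup 3 (zpowers (⟨q, hq⟩ : K)) := by
    obtain ⟨j, -, hj⟩ := (Nat.dvd_prime_pow Nat.prime_three).1
      (orderOf_dvd_of_pow_eq_one (show (⟨q, hq⟩ : K) ^ (3 ^ 1) = 1 from Subtype.ext hq3))
    exact IsPGroup.iff_card.2 ⟨j, by rw [Nat.card_zpowers, hj]⟩
  obtain ⟨S, hS⟩ := hp.exists_le_sylow
  have hPp : IsPGroup 3 ((S : Subgroup K).map K.subtype) := S.isPGroup'.map _
  have hc : Nat.card ((S : Subgroup K).map K.subtype) = 9 := by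
    refine Nat.dvd_antisymm (L.card_pgroup _ hPp) ?_
    rw [card_map_of_injective K.subtype_injective, show (9 : ℕ) = 3 ^ 2 from rfl]
    exact S.pow_dvd_card_of_pow_dvd_card h9
  have hqP : q ∈ (S : Subgroup K).map K.subtype := ⟨⟨q, hq⟩, hS (mem_zpowers _), rfl⟩
  haveI := IsPGroup.isMulCommutative_of_card_eq_prime_sq (p := 3) (G := (S : Subgroup K).map K.subtype) hc
  exact ⟨_, map_subtype_le _, hqP, hc, hPp, fun a ha => congrArg Subtype.val
    (mul_comm' (⟨a, ha⟩ : (S : Subgroup K).map K.subtype) ⟨q, hqP⟩)⟩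

/-- The unique subgroup of order nine centralising the product of the two three-elements. -/
theorem nine_zw {P : Subgroup G} (hP : IsPGroup 3 P) (h9 : Nat.card P = 9)
    (h : ∀ a ∈ P, Commute a (L.f (zP * wP))) : P = L.D := by
  haveI : Fact (Nat.Prime 3) := ⟨Nat.prime_three⟩
  have hD3 : IsPGroup 3 L.D := IsPGroup.iff_card.2 ⟨2, L.card_D⟩
  have hPN : P ≤ normalizer (L.D : Set G) := fun a ha =>
    mem_normalizer_fintype fun d hd => L.zw_norm a (mem_centralizer_singleton_iff.2 (h a ha)) d hd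
  have hsup := hP.to_sup_of_normal_right' hD3 hPN
  have h1 : P ⊔ L.D = L.D := (eq_of_le_of_card_ge le_sup_right
    (by rw [L.card_D]; exact Nat.le_of_dvd (by norm_num) (L.card_pgroup _ hsup))).symm
  exact eq_of_le_of_card_ge (le_sup_left.trans h1.le) (by rw [h9, L.card_D])

/-- An element commuting with the product of the two three-elements whose centraliser has order divisible by nine. -/
theorem not_nine_of_comm_zw {x : G} (hx : x * x = 1) (h1 : x ≠ 1) (hxt : x ≠ L.t)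
    (h : Commute x (L.f (zP * wP))) : ¬ 9 ∣ Nat.card (centralizer ({x} : Set G)) := by
  intro h9
  obtain ⟨P, hPK, -, hc, hP, hcomm⟩ := L.exists_nine _ h9 (mem_centralizer_singleton_iff.2 h.eq.symm)
    (by rw [← map_pow, show (zP * wP) ^ 3 = 1 by decide +kernel, map_one])
  obtain rfl := L.nine_zw hP hc hcomm
  refine hxt (L.eq_t ?_ hx h1)
  exact mem_centralizer_iff.2 fun d hd => mem_centralizer_singleton_iff.1 (hPK hd)

theorem nine_t : 9 ∣ Nat.card (centralizer ({L.t} : Set G)) := by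
  rw [← L.card_D]
  exact card_dvd_of_le fun d hd => mem_centralizer_singleton_iff.2 (mem_centralizer_iff.1 L.t_centD d hd)

theorem not_conj_t_of_comm_zw {x : G} (hx : x * x = 1) (hxt : x ≠ L.t) (h : Commute x (L.f (zP * wP))) (c : G) :
    c * L.t * c⁻¹ ≠ x := by
  intro e
  refine L.not_nine_of_comm_zw hx (fun h1 => L.t_ne ?_) hxt h (by rw [← e, card_cent_conj]; exact L.nine_t)
  rw [h1, conj_eq_one_iff] at e
  exact e

/-- The involution with an eight-element centraliser in the second factor. -/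
abbrev u : G := L.f (1, bB)

theorem not_nine_u : ¬ 9 ∣ Nat.card (centralizer ({L.u} : Set G)) := by
  intro h9
  obtain ⟨P, hPK, -, hc, -, hcomm⟩ := L.exists_nine _ h9
    (mem_centralizer_singleton_iff.2 (L.comm_f tP_props.2.2.1.eq.symm).eq)
    (show L.z ^ 3 = 1 from L.D_exp L.z_mem)
  have hle : Nat.card P ≤ Nat.card ({1, L.z, L.z⁻¹} : Set G) := by
    refine Nat.card_mono (Set.toFinite _) fun a ha => ?_
    obtain ⟨x, rfl, hxz⟩ := L.cent_z (hcomm a ha)
    have h3 : L.f x ^ 9 = 1 := by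
      rw [← hc]; exact congrArg Subtype.val (pow_card_eq_one' (x := (⟨_, ha⟩ : P)))
    have hx2 : x * (1, bB) = (1, bB) * x := L.comm_f_iff.1 (mem_centralizer_singleton_iff.1 (hPK ha))
    have hx3 : x ^ 3 = 1 := by
      have h9' : x ^ 9 = 1 := L.f_inj (by rw [map_pow, h3, map_one])
      have key : ∀ x : Pr, x ^ 9 = 1 → x ^ 3 = 1 := by decide +kernel
      exact key x h9'
    rcases three_u x hxz hx2 hx3 with e | e | e <;> rw [e]
    exacts [Or.inl (map_one _), Or.inr (Or.inl rfl), Or.inr (Or.inr (map_inv _ _))]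
  rw [hc, Nat.card_coe_set_eq] at hle
  have := hle.trans ((Set.ncard_insert_le _ _).trans (Nat.add_le_add_right (Set.ncard_insert_le _ _) 1))
  rw [Set.ncard_singleton] at this
  omega

theorem not_conj_t_u (c : G) : c * L.t * c⁻¹ ≠ L.u := fun e =>
  L.not_nine_u (by rw [← e, card_cent_conj]; exact L.nine_t)

/-- No conjugate of `u` centralises the product of the two three-elements. -/
theorem not_comm_zw_u (c : G) : ¬ Commute (c * L.u * c⁻¹) (L.f (zP * wP)) := by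
  intro h
  haveI : Fact (Nat.Prime 3) := ⟨Nat.prime_three⟩
  set q := c⁻¹ * L.f (zP * wP) * c with hq
  set K := centralizer ({L.u} : Set G) with hK
  have hqK : q ∈ K := mem_centralizer_singleton_iff.2 (by
    rw [hq, show c⁻¹ * L.f (zP * wP) * c * L.u = c⁻¹ * (L.f (zP * wP) * (c * L.u * c⁻¹)) * c by group, h.symm.eq]
    group)
  have hzK : L.z ∈ K := mem_centralizer_singleton_iff.2 (L.comm_f tP_props.2.2.1.eq.symm).eq
  have hq3 : q ^ 3 = 1 := by
    rw [hq, show c⁻¹ * L.f (zP * wP) * c = c⁻¹ * L.f (zP * wP) * c⁻¹⁻¹ by group, conj_pow, ← map_pow,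
      show (zP * wP) ^ 3 = 1 by decide +kernel, map_one]
    group
  have hpg : ∀ a : G, a ∈ K → a ^ 3 = 1 → ∀ ha : a ∈ K, IsPGroup 3 (zpowers (⟨a, ha⟩ : K)) := fun a _ h3 ha => by
    obtain ⟨j, -, hj⟩ := (Nat.dvd_prime_pow Nat.prime_three).1
      (orderOf_dvd_of_pow_eq_one (show (⟨a, ha⟩ : K) ^ (3 ^ 1) = 1 from Subtype.ext h3))
    exact IsPGroup.iff_card.2 ⟨j, by rw [Nat.card_zpowers, hj]⟩
  obtain ⟨S, hS⟩ := (hpg _ hzK (L.D_exp L.z_mem) hzK).exists_le_sylow
  obtain ⟨T, hT⟩ := (hpg _ hqK hq3 hqK).exists_le_sylow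
  have hSc : Nat.card S = 3 := by
    obtain ⟨n, hn⟩ := IsPGroup.iff_card.1 S.isPGroup'
    have h1 := card_dvd_of_le hS
    rw [hn, Nat.card_zpowers, orderOf_mk, orderOf_eq_prime (L.D_exp L.z_mem)
      (fun e => absurd (L.f_inj (e.trans L.f.map_one.symm)) (by decide +kernel))] at h1
    have h2 : n ≤ 1 := by
      by_contra h2
      exact L.not_nine_u (((pow_dvd_pow 3 (show 2 ≤ n by omega)).trans hn.symm.dvd).trans (card_subgroup_dvd_card _))
    interval_cases n <;> simp_all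
  have hSeq : (S : Subgroup K) = zpowers ⟨L.z, hzK⟩ := (eq_of_le_of_card_ge hS (by
    rw [hSc, Nat.card_zpowers, orderOf_mk, orderOf_eq_prime (L.D_exp L.z_mem)
      (fun e => absurd (L.f_inj (e.trans L.f.map_one.symm)) (by decide +kernel))])).symm
  obtain ⟨k, hk⟩ := MulAction.exists_smul_eq K T S
  have hmem : k * ⟨q, hqK⟩ * k⁻¹ ∈ (S : Subgroup K) := by
    rw [← hk]; exact ⟨_, hT (mem_zpowers _), rfl⟩
  rw [hSeq] at hmem
  obtain ⟨j, hj⟩ := mem_zpowers_iff.1 hmem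
  have hj' : L.z ^ j = (k : G) * q * (k : G)⁻¹ := congrArg Subtype.val hj
  have h36 : Nat.card (centralizer ({L.z ^ j} : Set G)) = 36 := by
    rw [hj', card_cent_conj, hq, show c⁻¹ * L.f (zP * wP) * c = c⁻¹ * L.f (zP * wP) * c⁻¹⁻¹ by group, card_cent_conj,
      L.card_zw]
  have hle : centralizer ({L.z} : Set G) ≤ centralizer ({L.z ^ j} : Set G) := fun a ha =>
    mem_centralizer_singleton_iff.2 ((Commute.zpow_right (mem_centralizer_singleton_iff.1 ha) j).eq)
  have := card_le_of_le hle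
  rw [h36, L.card_z] at this
  omega

include L in
/-- Elements of order three. -/
theorem three_cases {q : G} (h3 : q ^ 3 = 1) (h1 : q ≠ 1) : ∃ c : G, c * q * c⁻¹ = L.z ∨ c * q * c⁻¹ = L.z⁻¹ ∨
    c * q * c⁻¹ = L.f (zP * wP) ∨ c * q * c⁻¹ = (L.f (zP * wP))⁻¹ := by
  haveI : Fact (Nat.Prime 3) := ⟨Nat.prime_three⟩
  have hq : IsPGroup 3 (zpowers q) := by
    obtain ⟨j, -, hj⟩ := (Nat.dvd_prime_pow Nat.prime_three).1 (orderOf_dvd_of_pow_eq_one (show q ^ (3 ^ 1) = 1 from h3))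
    exact IsPGroup.iff_card.2 ⟨j, by rw [Nat.card_zpowers, hj]⟩
  obtain ⟨T, hT⟩ := hq.exists_le_sylow
  obtain ⟨S, hS⟩ := (IsPGroup.iff_card.2 ⟨2, L.card_D⟩ : IsPGroup 3 L.D).exists_le_sylow
  have hSD : (S : Subgroup G) = L.D := (eq_of_le_of_card_ge hS (by
    rw [L.card_D]; exact Nat.le_of_dvd (by norm_num) (L.card_pgroup _ S.isPGroup'))).symm
  obtain ⟨c, hc⟩ := MulAction.exists_smul_eq G T S
  have hmem : c * q * c⁻¹ ∈ L.D := by
    rw [← hSD, ← hc]; exact ⟨q, hT (mem_zpowers _), rfl⟩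
  obtain ⟨t, ht, he⟩ := L.of_mem_D hmem
  by_cases e1 : t = zP
  · exact ⟨c, Or.inl (by rw [← he, e1])⟩
  by_cases e2 : t = zP⁻¹
  · exact ⟨c, Or.inr (Or.inl (by rw [← he, e2, map_inv]))⟩
  have hmi : L.m⁻¹ * L.w * L.m = L.z := by show _ = L.f zP; rw [show L.w = L.m * L.f zP * L.m⁻¹ from L.mz.symm]; group
  by_cases e3 : t = wP
  · exact ⟨L.m⁻¹ * c, Or.inl (by
      rw [← hmi, show L.w = c * q * c⁻¹ by rw [← he, e3]]; group)⟩
  by_cases e4 : t = wP⁻¹
  · exact ⟨L.m⁻¹ * c, Or.inr (Or.inl (by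
      rw [← hmi, show L.w = (c * q * c⁻¹)⁻¹ by rw [← he, e4, map_inv, inv_inv]]; group))⟩
  have e0 : t ≠ 1 := fun e => h1 (by rw [e, map_one, eq_comm, conj_eq_one_iff] at he; exact he)
  rcases off_lines t ht e0 e1 e2 e3 e4 with e | e | e | e <;> rw [e] at he
  · exact ⟨c, Or.inr (Or.inr (Or.inl he.symm))⟩
  · exact ⟨c, Or.inr (Or.inr (Or.inr (by rw [← he, map_inv])))⟩
  · refine ⟨(L.f eP)⁻¹ * c, Or.inr (Or.inr (Or.inl ?_))⟩
    rw [show (L.f eP)⁻¹ * c * q * ((L.f eP)⁻¹ * c)⁻¹ = (L.f eP)⁻¹ * (c * q * c⁻¹) * L.f eP by group, ← he, map_mul,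
      map_mul L.f eP, map_inv]
    group
  · refine ⟨(L.f eP)⁻¹ * c, Or.inr (Or.inr (Or.inr ?_))⟩
    rw [show (L.f eP)⁻¹ * c * q * ((L.f eP)⁻¹ * c)⁻¹ = (L.f eP)⁻¹ * (c * q * c⁻¹) * L.f eP by group, ← he, map_inv,
      map_mul, map_mul L.f eP, map_inv]
    group

include L in
theorem card_cent_three {q : G} (h3 : q ^ 3 = 1) (h1 : q ≠ 1) :
    Nat.card (centralizer ({q} : Set G)) = 360 ∨ Nat.card (centralizer ({q} : Set G)) = 36 := by
  obtain ⟨c, h | h | h | h⟩ := L.three_cases h3 h1 <;> rw [← card_cent_conj c, h]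
  · exact Or.inl L.card_z
  · exact Or.inl (by rw [Cfsg.Lib.AltEightLocal.card_cent_inv, L.card_z])
  · exact Or.inr L.card_zw
  · exact Or.inr (by rw [Cfsg.Lib.AltEightLocal.card_cent_inv, L.card_zw])

end Loc

end Cfsg.Lib.SymEightLocal
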