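import Cfsg.Agent.LocalThree.SymEightLocal.Basic
import Cfsg.Agent.LocalThree.Order9.Wrap

/-!
The centraliser of the central involution of the normaliser of the torus.
-/

set_option autoImplicit false
set_option synthInstance.maxSize 4096
set_option maxRecDepth 100000
set_option maxHeartbeats 1000000

namespace Cfsg.Lib.SymEightLocal

open Equiv Subgroup Cfsg.Lib.AltEightLocal

universe u

theorem line_normal : ∀ a : Pr, a * zP = zP * a → a * tP = tP * a → a * zP * a⁻¹ ∈ torusP ∧ a * wP * a⁻¹ ∈ torusP := by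
  decide +kernel

theorem cd_split : ∀ a ∈ cdP, a ∈ torusP ∨ a * tP ∈ torusP := by decide +kernel

namespace Loc

variable {G : Type u} [Group G] [Finite G] (L : Loc G)

theorem mem_N {x : G} (h : ∀ d ∈ L.D, x * d * x⁻¹ ∈ L.D) : x ∈ normalizer (L.D : Set G) :=
  mem_normalizer_fintype h

theorem centD_split {x : G} (hx : x ∈ centralizer (L.D : Set G)) : x ∈ L.D ∨ x * L.t ∈ L.D := by
  obtain ⟨a, ha, rfl⟩ := L.cenD (L.mem_centD.1 hx).1 (L.mem_centD.1 hx).2
  rcases cd_split a ha with h | h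
  · exact Or.inl (L.mem_D (mem_torusGrp.2 h))
  · exact Or.inr (by rw [← map_mul]; exact L.mem_D (mem_torusGrp.2 h))

theorem cent_D_aux {a : Pr} (h1 : a * zP * a⁻¹ ∈ torusP) (h2 : a * wP * a⁻¹ ∈ torusP) :
    L.f a ∈ normalizer (L.D : Set G) := by
  refine L.mem_N fun d hd => ?_
  obtain ⟨t, ht', rfl⟩ := L.of_mem_D hd
  obtain ⟨i, j, rfl⟩ := torus_decomp (mem_torusGrp.2 ht')
  rw [← map_inv, ← map_mul, ← map_mul, ← conj_mul, ← conj_pow, ← conj_pow]
  exact L.mem_D (mul_mem (pow_mem (mem_torusGrp.2 h1) _) (pow_mem (mem_torusGrp.2 h2) _))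

theorem cent_line {x : G} (hz : Commute x L.z) (ht : Commute x L.t) : x ∈ normalizer (L.D : Set G) := by
  obtain ⟨a, rfl, ha⟩ := L.cent_z hz
  obtain ⟨h1, h2⟩ := line_normal a ha (L.comm_f_iff.1 ht)
  exact L.cent_D_aux h1 h2

/-- The centraliser of the involution meets those of the elements of the torus in the normaliser. -/
theorem cent_D_t {x d : G} (hd : d ∈ L.D) (hd1 : d ≠ 1) (hxd : Commute x d) (ht : Commute x L.t) :
    x ∈ normalizer (L.D : Set G) := by
  have hw : Commute x L.w → x ∈ normalizer (L.D : Set G) := fun h => L.swap.cent_line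
    (show Commute x (L.g zP) by rw [L.gw]; exact h) (show Commute x (L.g tP) by rw [L.gt]; exact ht)
  have hzw : ∀ y, Commute y (L.f (zP * wP)) → y ∈ normalizer (L.D : Set G) := fun y hy =>
    L.mem_N (L.zw_norm y (mem_centralizer_singleton_iff.2 hy.eq))
  obtain ⟨a, ha, rfl⟩ := L.of_mem_D hd
  by_cases e1 : a = zP
  · rw [e1] at hxd; exact L.cent_line hxd ht
  by_cases e2 : a = zP⁻¹
  · rw [e2, map_inv] at hxd
    exact L.cent_line (Commute.inv_right_iff.1 hxd) ht
  by_cases e3 : a = wP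
  · rw [e3] at hxd; exact hw hxd
  by_cases e4 : a = wP⁻¹
  · rw [e4, map_inv] at hxd
    exact hw (Commute.inv_right_iff.1 hxd)
  have he : L.f eP ∈ normalizer (L.D : Set G) :=
    L.cent_D_aux (by decide +kernel) (by decide +kernel)
  have hconj : Commute x (L.f (eP * (zP * wP) * eP⁻¹)) → x ∈ normalizer (L.D : Set G) := fun h => by
    have h1 := hzw ((L.f eP)⁻¹ * x * L.f eP) (by
      rw [map_mul, map_mul L.f eP, map_inv] at h
      show _ * _ = _ * _
      calc (L.f eP)⁻¹ * x * L.f eP * L.f (zP * wP)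
          = (L.f eP)⁻¹ * (x * (L.f eP * L.f (zP * wP) * (L.f eP)⁻¹)) * L.f eP := by group
        _ = _ := by rw [h.eq]; group)
    have := mul_mem (mul_mem he h1) (inv_mem he)
    rwa [show L.f eP * ((L.f eP)⁻¹ * x * L.f eP) * (L.f eP)⁻¹ = x by group] at this
  rcases off_lines a ha (fun e => hd1 (by rw [e, map_one])) e1 e2 e3 e4 with e | e | e | e <;> rw [e] at hxd
  · exact hzw x hxd
  · rw [map_inv] at hxd; exact hzw x (Commute.inv_right_iff.1 hxd)
  · exact hconj hxd
  · rw [map_inv] at hxd; exact hconj (Commute.inv_right_iff.1 hxd)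

/-- Either the Sylow subgroup is normal in the centraliser, or the central quotient is `Sym(6)`. -/
theorem centT_cases : centralizer ({L.t} : Set G) ≤ normalizer (L.D : Set G) ∨
    ∃ e : centralizer ({L.t} : Set G) →* Perm (Fin 6), Function.Surjective e ∧
      ∀ x, e x = 1 ↔ (x : G) = 1 ∨ (x : G) = L.t := by
  haveI : Fact (Nat.Prime 3) := ⟨Nat.prime_three⟩
  haveI : Fact (Nat.Prime 2) := ⟨Nat.prime_two⟩
  set C := centralizer ({L.t} : Set G) with hC
  set ND := normalizer (L.D : Set G) with hND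
  let tC : C := ⟨L.t, mem_centralizer_singleton_iff.2 rfl⟩
  let Z : Subgroup C :=
    { carrier := {x | (x : G) = 1 ∨ (x : G) = L.t}
      one_mem' := Or.inl rfl
      mul_mem' := fun {a b} ha hb => by
        rcases ha with ha | ha <;> rcases hb with hb | hb
        exacts [Or.inl (by simp [ha, hb]), Or.inr (by simp [ha, hb]), Or.inr (by simp [ha, hb]),
          Or.inl (by rw [coe_mul, ha, hb, L.t_sq])]
      inv_mem' := fun {a} ha => by
        rcases ha with ha | ha
        exacts [Or.inl (by simp [ha]), Or.inr (by rw [coe_inv, ha, inv_eq_of_mul_eq_one_right L.t_sq])] }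
  haveI : Z.Normal := ⟨fun a ha g => by
    show ((g * a * g⁻¹ : C) : G) = 1 ∨ ((g * a * g⁻¹ : C) : G) = L.t
    have hc : Commute (g : G) L.t := mem_centralizer_singleton_iff.1 g.2
    rcases ha with ha | ha
    · exact Or.inl (by simp [ha])
    · exact Or.inr (by rw [coe_mul, coe_mul, coe_inv, ha, hc.eq, mul_inv_cancel_right])⟩
  set π := QuotientGroup.mk' Z with hπ
  have hπeq : ∀ {a b : C}, π a = π b → (b : G) = a ∨ (b : G) = a * L.t := by
    intro a b h
    obtain ⟨c, hc, rfl⟩ := (QuotientGroup.mk'_eq_mk' Z).1 h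
    rcases hc with hc | hc
    · exact Or.inl (by simp [hc])
    · exact Or.inr (by simp [hc])
  have hDC : L.D ≤ C := fun d hd => mem_centralizer_singleton_iff.2 (mem_centralizer_iff.1 L.t_centD d hd)
  have hNC : ND ≤ C := fun x hx => mem_centralizer_singleton_iff.2 (L.t_central hx).eq
  set D' := (L.D.subgroupOf C).map π with hD'
  -- elements of order three lift uniquely
  have hlift : ∀ (a : G), a ∈ L.D → ∀ b : G, Commute b L.t → b ^ 3 = 1 → b = a * L.t → False := by
    intro a ha b _ hb e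
    rw [e, (show Commute a L.t from mem_centralizer_iff.1 L.t_centD a ha).mul_pow, L.D_exp ha, one_mul,
      show L.t ^ 3 = L.t * L.t * L.t by rw [pow_succ, pow_two], L.t_sq, one_mul] at hb
    exact L.t_ne hb
  have hD'mem : ∀ x : C, π x ∈ D' → (x : G) ^ 3 = 1 → (x : G) ∈ L.D := by
    rintro x ⟨d, hd, hde⟩ h3
    rcases hπeq hde with e | e
    · rw [e]; exact hd
    · exact (hlift d hd x (mem_centralizer_singleton_iff.1 x.2) h3 e).elim
  have hcard : Nat.card D' = 9 := by
    rw [← L.card_D, ← Nat.card_congr (subgroupOfEquivOfLe hDC).toEquiv]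
    refine (Nat.card_congr (Equiv.ofBijective (fun d : L.D.subgroupOf C => (⟨π d, mem_map_of_mem π d.2⟩ : D'))
      ⟨fun a b h => ?_, fun ⟨_, d, hd, e⟩ => ⟨⟨d, hd⟩, Subtype.ext e⟩⟩)).symm
    have hab := congrArg Subtype.val h
    rcases hπeq hab with e | e
    · exact Subtype.ext (Subtype.ext e.symm)
    · exact (hlift _ a.2 _ (mem_centralizer_singleton_iff.1 b.1.2) (L.D_exp b.2) e).elim
  obtain ⟨P, hP⟩ := (IsPGroup.iff_card.2 ⟨2, hcard⟩ : IsPGroup 3 D').exists_le_sylow
  have hPD : (P : Subgroup (C ⧸ Z)) = D' := by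
    refine (eq_of_le_of_card_ge hP ?_).symm
    obtain ⟨k, hk⟩ := IsPGroup.iff_card.1 P.isPGroup'
    have hd : Nat.card (P : Subgroup (C ⧸ Z)) ∣ Nat.card G :=
      ((card_subgroup_dvd_card _).trans (card_quotient_dvd_card Z)).trans (card_subgroup_dvd_card C)
    rw [hcard, hk]
    rw [hk] at hd
    calc 3 ^ k ≤ 3 ^ 2 := Nat.pow_le_pow_right (by norm_num) (by
          by_contra h; exact L.not27 ((pow_dvd_pow 3 (show 3 ≤ k by omega)).trans hd))
      _ = 9 := rfl
  have hexp : ∀ a ∈ (P : Subgroup (C ⧸ Z)), a ^ 3 = 1 := by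
    rw [hPD]
    rintro _ ⟨d, hd, rfl⟩
    rw [← map_pow, show d ^ 3 = 1 from Subtype.ext (L.D_exp hd), map_one]
  have hcomm : ∀ (x d : C), (d : G) ∈ L.D → π x * π d = π d * π x → Commute (x : G) d := by
    intro x d hd h
    have h' : π (x * d * x⁻¹) = π d := by rw [map_mul, map_mul, map_inv, h, mul_inv_cancel_right]
    rcases hπeq h'.symm with e | e
    · exact mul_inv_eq_iff_eq_mul.1 e
    · refine (hlift d hd _ ((x * d * x⁻¹ : C).2 |> mem_centralizer_singleton_iff.1) ?_ e).elim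
      rw [coe_mul, coe_mul, coe_inv, conj_pow, L.D_exp hd]; group
  have hnorm : ∀ x : C, π x ∈ normalizer (D' : Set (C ⧸ Z)) → (x : G) ∈ ND := by
    intro x hx
    refine L.mem_N fun d hd => ?_
    refine hD'mem (x * ⟨d, hDC hd⟩ * x⁻¹) ?_ ?_
    · rw [map_mul, map_mul, map_inv]
      exact (mem_normalizer_iff.1 hx _).1 ⟨⟨d, hDC hd⟩, hd, rfl⟩
    · rw [coe_mul, coe_mul, coe_inv, conj_pow, L.D_exp hd]; group
  have hnorm' : ∀ x : C, (x : G) ∈ ND → π x ∈ normalizer (D' : Set (C ⧸ Z)) := by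
    intro x hx
    refine mem_normalizer_fintype ?_
    rintro _ ⟨d, hd, rfl⟩
    exact ⟨x * d * x⁻¹, (mem_normalizer_iff.1 hx _).1 hd, by simp⟩
  have hcent : centralizer ((P : Subgroup (C ⧸ Z)) : Set (C ⧸ Z)) = P := by
    rw [hPD]
    refine le_antisymm (fun a ha => ?_) (fun a ha => mem_centralizer_iff.2 ?_)
    · obtain ⟨x, rfl⟩ := QuotientGroup.mk'_surjective Z a
      have hxD : (x : G) ∈ centralizer (L.D : Set G) := mem_centralizer_iff.2 fun d hd =>
        (hcomm x ⟨d, hDC hd⟩ hd (mem_centralizer_iff.1 ha _ ⟨⟨d, hDC hd⟩, hd, rfl⟩).symm).eq.symm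
      rcases L.centD_split hxD with h | h
      · exact mem_map_of_mem π h
      · refine ⟨x * tC, h, ?_⟩
        rw [map_mul, show π tC = 1 from (QuotientGroup.eq_one_iff _).2 (Or.inr rfl), mul_one]
    · rintro _ ⟨d, hd, rfl⟩
      obtain ⟨d', hd', rfl⟩ := ha
      rw [← map_mul, ← map_mul]
      haveI := L.D_comm
      exact congrArg π (Subtype.ext (show (d : G) * d' = d' * d from
        congrArg Subtype.val (mul_comm' (⟨(d : G), hd⟩ : L.D) ⟨(d' : G), hd'⟩)))
  have hCd : ∀ a ∈ (P : Subgroup (C ⧸ Z)), a ≠ 1 →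
      centralizer ({a} : Set (C ⧸ Z)) ≤ normalizer ((P : Subgroup (C ⧸ Z)) : Set (C ⧸ Z)) := by
    rw [hPD]
    rintro _ ⟨d, hd, rfl⟩ hd1 a ha
    obtain ⟨x, rfl⟩ := QuotientGroup.mk'_surjective Z a
    refine hnorm' x (L.cent_D_t hd (fun e => hd1 ?_) (hcomm x d hd (mem_centralizer_singleton_iff.1 ha))
      (mem_centralizer_singleton_iff.1 x.2))
    rw [show d = 1 from Subtype.ext e, map_one]
  -- the automizer
  set NQ := normalizer ((P : Subgroup (C ⧸ Z)) : Set (C ⧸ Z)) with hNQ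
  let p : ND →* NQ := (π.comp (inclusion hNC)).codRestrict NQ fun x => by
    rw [hNQ, hPD]; exact hnorm' _ x.2
  have hp : Function.Surjective p := by
    rintro ⟨a, ha⟩
    obtain ⟨x, rfl⟩ := QuotientGroup.mk'_surjective Z a
    rw [hNQ, hPD] at ha
    exact ⟨⟨x, hnorm x ha⟩, Subtype.ext rfl⟩
  have hker : p.ker ≤ L.aut.ker := by
    intro x hx
    rw [MonoidHom.mem_ker, L.aut_ker]
    have h : π (inclusion hNC x) = 1 := congrArg Subtype.val (MonoidHom.mem_ker.1 hx)
    rcases (QuotientGroup.eq_one_iff _).1 h with e | e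
    · rw [show (x : G) = 1 from e]; exact one_mem _
    · rw [show (x : G) = L.t from e]; exact L.t_centD
  let ψ : NQ →* DihedralGroup 4 := p.liftOfSurjective hp ⟨L.aut, hker⟩
  have hψp : ∀ x, ψ (p x) = L.aut x := fun x => MonoidHom.liftOfRightInverse_comp_apply _ _ _ _ x
  have hψ : Function.Surjective ψ := fun q => by
    obtain ⟨x, rfl⟩ := L.aut_surj q
    exact ⟨p x, hψp x⟩
  have hψker : ∀ a : NQ, ψ a = 1 → (a : C ⧸ Z) ∈ D' := by
    intro a ha
    obtain ⟨x, rfl⟩ := hp a
    rw [hψp, L.aut_ker] at ha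
    rcases L.centD_split ha with h | h
    · exact mem_map_of_mem π h
    · refine ⟨inclusion hNC x * tC, h, ?_⟩
      rw [map_mul, show π tC = 1 from (QuotientGroup.eq_one_iff _).2 (Or.inr rfl), mul_one]
      rfl
  have hS : ∀ S : Sylow 2 NQ, Nonempty (S ≃* DihedralGroup 4) := by
    intro S
    have hinj : Function.Injective (ψ.comp (S : Subgroup NQ).subtype) := by
      refine (injective_iff_map_eq_one _).2 fun a ha => ?_
      obtain ⟨k, hk⟩ := S.isPGroup' a
      have h9 : ((a : NQ) : C ⧸ Z) ^ 3 = 1 := hexp _ (hPD.symm ▸ hψker _ ha)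
      have h1 : orderOf a ∣ 2 ^ k := orderOf_dvd_of_pow_eq_one hk
      have h2 : orderOf a ∣ 3 := orderOf_dvd_of_pow_eq_one (Subtype.ext (Subtype.ext h9))
      exact orderOf_eq_one_iff.1 (Nat.eq_one_of_dvd_coprimes ((by norm_num : Nat.Coprime 2 3).pow_left k) h1 h2)
    have hge : 8 ≤ Nat.card S := by
      refine Nat.le_of_dvd Nat.card_pos ?_
      rw [show (8 : ℕ) = 2 ^ 3 from rfl]
      refine S.pow_dvd_card_of_pow_dvd_card ?_
      have h := card_range_dvd ψ
      rwa [MonoidHom.range_eq_top.2 hψ, card_top, DihedralGroup.nat_card] at h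
    exact ⟨MulEquiv.ofBijective _ ((Nat.bijective_iff_injective_and_card _).2 ⟨hinj,
      le_antisymm (Nat.card_le_card_of_injective _ hinj) (by rw [DihedralGroup.nat_card]; exact hge)⟩)⟩
  rcases Cfsg.Lib.Order9.main8_sylow P (by rw [hPD, hcard]) hexp hcent hCd hS with hn | ⟨⟨e⟩⟩
  · refine Or.inl fun x hx => hnorm ⟨x, hx⟩ ?_
    rw [hPD] at hn
    rw [normalizer_eq_top_iff.2 hn]
    exact mem_top _
  · refine Or.inr ⟨e.toMonoidHom.comp π, e.surjective.comp (QuotientGroup.mk'_surjective Z), fun x => ?_⟩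
    show e (π x) = 1 ↔ _
    rw [MulEquiv.map_eq_one_iff]
    exact QuotientGroup.eq_one_iff x

end Loc

end Cfsg.Lib.SymEightLocal
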