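import Cfsg.Agent.LocalThree.SymEightLocal.Hom

/-!
The homomorphism from the symmetric group of degree eight.
-/

set_option autoImplicit false
set_option synthInstance.maxSize 4096
set_option maxRecDepth 100000
set_option maxHeartbeats 1000000

namespace Cfsg.Lib.SymEightLocal

open Equiv Subgroup Cfsg.Lib.AltEightLocal

universe u

/-- The placement of pairs. -/
def emF : Pr →* Perm (Fin 8) :=
  (placeF.permCongrHom : Perm (Fin 3 ⊕ Fin 5) ≃* Perm (Fin 8)).toMonoidHom.comp (Perm.sumCongrHom (Fin 3) (Fin 5))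

/-- The other placement of pairs. -/
def emG : Pr →* Perm (Fin 8) :=
  (placeG.permCongrHom : Perm (Fin 3 ⊕ Fin 5) ≃* Perm (Fin 8)).toMonoidHom.comp (Perm.sumCongrHom (Fin 3) (Fin 5))

/-- The adjacent transpositions. -/
def taus : Fin 7 → Perm (Fin 8) := fun i => Equiv.swap i.castSucc i.succ

theorem top_pr (K : Subgroup Pr) (h1 : eP ∈ K) (h2 : ((Equiv.swap 1 2, 1) : Pr) ∈ K)
    (h : ∀ i : Fin 4, se (Equiv.swap i.castSucc i.succ) ∈ K) : K = ⊤ := by
  have htop : ∀ σ : Perm (Fin 5), σ ∈ K.comap (MonoidHom.inr (Perm (Fin 3)) (Perm (Fin 5))) := by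
    intro σ
    have hmem : σ ∈ Submonoid.closure (Set.range fun i : Fin 4 => Equiv.swap i.castSucc i.succ) := by
      rw [Perm.mclosure_swap_castSucc_succ]; trivial
    refine (Submonoid.closure_le (S := (K.comap (MonoidHom.inr _ _)).toSubmonoid)).2 ?_ hmem
    rintro _ ⟨i, rfl⟩
    exact h i
  refine (eq_top_iff' K).2 fun x => ?_
  have hx : x = (x.1, 1) * (1, x.2) := by simp
  have h3 : ∀ a : Perm (Fin 3), ((a, 1) : Pr) = 1 ∨ ((a, 1) : Pr) = eP ∨ ((a, 1) : Pr) = (Equiv.swap 1 2, 1) ∨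
      ((a, 1) : Pr) = eP * (Equiv.swap 1 2, 1) ∨ ((a, 1) : Pr) = (Equiv.swap 1 2, 1) * eP ∨
      ((a, 1) : Pr) = eP * (Equiv.swap 1 2, 1) * eP := by decide +kernel
  rw [hx]
  refine mul_mem ?_ (htop x.2)
  rcases h3 x.1 with e | e | e | e | e | e <;> rw [e]
  exacts [one_mem _, h1, h2, mul_mem h1 h2, mul_mem h2 h1, mul_mem (mul_mem h1 h2) h1]

/-- The data with the last relation. -/
structure Linked (G : Type u) [Group G] extends Loc G where
  hA : b = bA
  link : Commute (toLoc.g (se (Equiv.swap 2 3))) (f (se (Equiv.swap 4 0)))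

namespace Linked

variable {G : Type u} [Group G] [Finite G] (A : Linked G)

/-- The images of the transpositions. -/
def imgs : Fin 7 → G := ![A.f eP, A.f (Equiv.swap 1 2, 1), A.toLoc.g (se (Equiv.swap 2 3)), A.f tP,
  A.f (se (Equiv.swap 4 0)), A.f (se bA), A.f (se (Equiv.swap 1 2))]

theorem imgs_g : A.imgs 0 = A.toLoc.g (se bA) ∧ A.imgs 1 = A.toLoc.g (se (Equiv.swap 1 2)) ∧
    A.imgs 3 = A.toLoc.g tP ∧ A.imgs 5 = A.toLoc.g eP ∧ A.imgs 6 = A.toLoc.g (Equiv.swap 1 2, 1) :=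
  ⟨(A.toLoc.g_bA A.hA).symm, (A.toLoc.g_12 A.hA).symm, A.toLoc.gt.symm, (A.toLoc.g_e A.hA).symm,
    (A.toLoc.g_e' A.hA).symm⟩

theorem exists_hom : ∃ φ : Perm (Fin 8) →* G, ∀ i, φ (taus i) = A.imgs i := by
  classical
  obtain ⟨i0, i1, i3, i5, i6⟩ := A.imgs_g
  let p : Fin 7 → G × Perm (Fin 8) := fun i => (A.imgs i, taus i)
  let s : ℕ → G × Perm (Fin 8) := fun n => if h : n < 7 then p ⟨n, h⟩ else 1
  have hs : ∀ (n : ℕ) (h : n < 7), s n = p ⟨n, h⟩ := fun n h => dif_pos h
  have t2 : ∀ i, taus i * taus i = 1 := fun i => Equiv.swap_mul_self _ _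
  have g2 : ∀ i, A.imgs i * A.imgs i = 1 := by
    intro i
    fin_cases i
    rotate_left 2
    · show A.toLoc.g _ * A.toLoc.g _ = 1
      rw [← map_mul, ← map_one A.toLoc.g]; congr 1; decide +kernel
    all_goals (show A.f _ * A.f _ = 1; rw [← map_mul, ← map_one A.f]; congr 1; decide +kernel)
  have hsq : ∀ i < 7, s i * s i = 1 := fun i hi => by rw [hs i hi]; exact Prod.ext (g2 ⟨i, hi⟩) (t2 ⟨i, hi⟩)
  have pf : ∀ {a b : Pr}, a * b = b * a → A.f a * A.f b = A.f b * A.f a := fun h => (A.toLoc.comm_f h).eq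
  have pg : ∀ {a b : Pr}, a * b = b * a → A.toLoc.g a * A.toLoc.g b = A.toLoc.g b * A.toLoc.g a :=
    fun h => (A.toLoc.comm_g h).eq
  have bf : ∀ {a b : Pr}, a * b * a = b * a * b → A.f a * A.f b * A.f a = A.f b * A.f a * A.f b := fun h => by
    rw [← map_mul, ← map_mul, ← map_mul, ← map_mul, h]
  have bg : ∀ {a b : Pr}, a * b * a = b * a * b →
      A.toLoc.g a * A.toLoc.g b * A.toLoc.g a = A.toLoc.g b * A.toLoc.g a * A.toLoc.g b := fun h => by
    rw [← map_mul, ← map_mul, ← map_mul, ← map_mul, h]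
  have hc : ∀ i j : Fin 7, i.val + 2 ≤ j.val → A.imgs i * A.imgs j = A.imgs j * A.imgs i := by
    intro i j h
    fin_cases i <;> fin_cases j <;> simp only [Fin.val_zero, Fin.val_one, Fin.zero_eta, Fin.mk_one, Fin.reduceFinMk] at h ⊢
    all_goals first
      | omega
      | exact A.link
      | exact pf (by decide +kernel)
      | (try rw [i0]
         try rw [i1]
         try rw [i3]
         try rw [i5]
         try rw [i6]
         exact pg (by decide +kernel))
  have hb : ∀ i j : Fin 7, i.val + 1 = j.val →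
      A.imgs i * A.imgs j * A.imgs i = A.imgs j * A.imgs i * A.imgs j := by
    intro i j h
    fin_cases i <;> fin_cases j <;> simp only [Fin.val_zero, Fin.val_one, Fin.zero_eta, Fin.mk_one, Fin.reduceFinMk] at h ⊢
    all_goals first
      | omega
      | exact bf (by decide +kernel)
      | (try rw [i1]
         try rw [i3]
         exact bg (by decide +kernel))
  have tc : ∀ i j : Fin 7, i.val + 2 ≤ j.val → taus i * taus j = taus j * taus i := by decide +kernel
  have tb : ∀ i j : Fin 7, i.val + 1 = j.val → taus i * taus j * taus i = taus j * taus i * taus j := by decide +kernel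
  obtain ⟨hfin, hcard⟩ := Cfsg.Lib.CoxeterSymm.bound (s := s) 7 hsq
    (fun i hi j hj h => by rw [hs i hi, hs j hj]; exact Prod.ext (hc ⟨i, hi⟩ ⟨j, hj⟩ h) (tc ⟨i, hi⟩ ⟨j, hj⟩ h))
    (fun i hi => by rw [hs i (by omega), hs (i + 1) hi]; exact Prod.ext (hb ⟨i, by omega⟩ ⟨i + 1, hi⟩ rfl) (tb ⟨i, by omega⟩ ⟨i + 1, hi⟩ rfl))
  set K := closure (s '' Set.Iio 7) with hK
  have hmem : ∀ i : Fin 7, p i ∈ K := fun i => subset_closure ⟨i.val, i.2, hs i.val i.2⟩
  let π : K →* Perm (Fin 8) := (MonoidHom.snd _ _).comp K.subtype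
  have hπ : Function.Surjective π := by
    intro σ
    have hσ : σ ∈ Submonoid.closure (Set.range fun i : Fin 7 => Equiv.swap i.castSucc i.succ) := by
      rw [Perm.mclosure_swap_castSucc_succ]; trivial
    exact (Submonoid.closure_le (S := π.range.toSubmonoid)).2
      (by rintro _ ⟨i, rfl⟩; exact ⟨⟨p i, hmem i⟩, rfl⟩) hσ
  haveI : Finite K := hfin.to_subtype
  have hbij : Function.Bijective π := by
    refine (Nat.bijective_iff_surjective_and_card π).2 ⟨hπ, le_antisymm ?_ (Nat.card_le_card_of_surjective π hπ)⟩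
    rw [← SetLike.coe_sort_coe, Nat.card_coe_set_eq, Nat.card_perm, Nat.card_fin]
    exact hcard
  refine ⟨((MonoidHom.fst _ _).comp K.subtype).comp (MulEquiv.ofBijective π hbij).symm.toMonoidHom, fun i => ?_⟩
  have e : (MulEquiv.ofBijective π hbij).symm (taus i) = ⟨p i, hmem i⟩ := by
    rw [MulEquiv.symm_apply_eq]; rfl
  simp [e, p]

/-- The copy. -/
noncomputable def Φ : Perm (Fin 8) →* G := A.exists_hom.choose

theorem Φ_tau (i : Fin 7) : A.Φ (taus i) = A.imgs i := A.exists_hom.choose_spec i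

theorem Φ_f (x : Pr) : A.Φ (emF x) = A.f x := by
  have h : MonoidHom.eqLocus (A.Φ.comp emF) A.f = ⊤ := by
    have hi : ∀ (a : Pr) (i : Fin 7), emF a = taus i → A.imgs i = A.f a →
        a ∈ MonoidHom.eqLocus (A.Φ.comp emF) A.f := fun a i h1 h2 => by
      show A.Φ (emF a) = A.f a
      rw [h1, A.Φ_tau, h2]
    have k0 := hi eP 0 (by decide +kernel) rfl
    have k1 := hi (Equiv.swap 1 2, 1) 1 (by decide +kernel) rfl
    have k3 := hi tP 3 (by decide +kernel) rfl
    have k4 := hi (se (Equiv.swap 4 0)) 4 (by decide +kernel) rfl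
    have k5 := hi (se bA) 5 (by decide +kernel) rfl
    have k6 := hi (se (Equiv.swap 1 2)) 6 (by decide +kernel) rfl
    refine top_pr _ k0 k1 fun i => ?_
    fin_cases i
    · exact k5
    · exact k6
    · have e : se (Equiv.swap (2 : Fin 5) 3) = se (Equiv.swap 1 2) * (se bA * (se (Equiv.swap 4 0) * tP *
          se (Equiv.swap 4 0)) * se bA) * se (Equiv.swap 1 2) := by decide +kernel
      exact e ▸ mul_mem (mul_mem k6 (mul_mem (mul_mem k5 (mul_mem (mul_mem k4 k3) k4)) k5)) k6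
    · exact k3
  exact h.ge (mem_top x)

theorem Φ_g (x : Pr) : A.Φ (emG x) = A.toLoc.g x := by
  obtain ⟨i0, i1, i3, i5, i6⟩ := A.imgs_g
  have h : MonoidHom.eqLocus (A.Φ.comp emG) A.toLoc.g = ⊤ := by
    have hi : ∀ (a : Pr) (i : Fin 7), emG a = taus i → A.imgs i = A.toLoc.g a →
        a ∈ MonoidHom.eqLocus (A.Φ.comp emG) A.toLoc.g := fun a i h1 h2 => by
      show A.Φ (emG a) = A.toLoc.g a
      rw [h1, A.Φ_tau, h2]
    refine top_pr _ (hi eP 5 (by decide +kernel) i5) (hi _ 6 (by decide +kernel) i6) fun i => ?_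
    fin_cases i
    · exact hi _ 0 (by decide +kernel) i0
    · exact hi _ 1 (by decide +kernel) i1
    · exact hi _ 2 (by decide +kernel) rfl
    · exact hi _ 3 (by decide +kernel) i3
  exact h.ge (mem_top x)

theorem Φ_inj : Function.Injective A.Φ := by
  rw [← MonoidHom.ker_eq_bot_iff]
  haveI : IsSimpleGroup (alternatingGroup (Fin 8)) := alternatingGroup.isSimpleGroup (by simp)
  have h0 : A.Φ.ker.subgroupOf (alternatingGroup (Fin 8)) = ⊥ := by
    refine (inferInstance : (A.Φ.ker.subgroupOf (alternatingGroup (Fin 8))).Normal).eq_bot_or_eq_top.resolve_right fun h => ?_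
    have hz : emF zP ∈ alternatingGroup (Fin 8) := by rw [Perm.mem_alternatingGroup]; decide +kernel
    have h1 : A.Φ (emF zP) = 1 := subgroupOf_eq_top.1 h hz
    rw [A.Φ_f] at h1
    exact absurd (A.f_inj (h1.trans A.f.map_one.symm)) (by decide +kernel)
  refine (eq_bot_iff_forall _).2 fun σ hσ => ?_
  have hev : ∀ ρ, ρ ∈ A.Φ.ker → Perm.sign ρ = 1 → ρ = 1 := fun ρ hρ hs =>
    congrArg Subtype.val (mem_bot.1 (h0.le (show (⟨ρ, Perm.mem_alternatingGroup.2 hs⟩ : alternatingGroup (Fin 8)) ∈ _ from hρ)))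
  rcases Int.units_eq_one_or (Perm.sign σ) with hs | hs
  · exact hev σ hσ hs
  -- an odd element of the kernel is central, so trivial
  have hcen : ∀ τ : Perm (Fin 8), τ * σ * τ⁻¹ = σ := fun τ => by
    refine mul_inv_eq_one.1 (hev _ (mul_mem ((MonoidHom.normal_ker _).conj_mem σ hσ τ) (inv_mem hσ)) ?_)
    simp [hs]
  by_contra hne
  obtain ⟨x, hx⟩ : ∃ x, σ x ≠ x := not_forall.1 fun h => hne (Equiv.ext h)
  obtain ⟨v, hv1, hv2⟩ : ∃ v : Fin 8, v ≠ x ∧ v ≠ σ x := by
    have key : ∀ a b : Fin 8, ∃ v, v ≠ a ∧ v ≠ b := by decide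
    exact key x (σ x)
  have h := congrArg (fun f : Perm (Fin 8) => f x) (mul_inv_eq_iff_eq_mul.1 (hcen (Equiv.swap (σ x) v)))
  simp only [Perm.mul_apply, Equiv.swap_apply_left, Equiv.swap_apply_of_ne_of_ne (Ne.symm hx) (Ne.symm hv1)] at h
  exact hv2 h

end Linked

end Cfsg.Lib.SymEightLocal
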