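import Cfsg.Agent.LocalThree.AltEightLocal.Data

/-!
Finite facts about `Sym(3) × Sym(5)`.
-/

set_option autoImplicit false
set_option maxRecDepth 100000
set_option synthInstance.maxSize 4096
set_option synthInstance.maxHeartbeats 200000
set_option maxHeartbeats 1000000

namespace Cfsg.Lib.SymEightLocal

open Equiv Cfsg.Lib.AltEightLocal

/-- The first three-element. -/
def zP : Pr := (c3, 1)
/-- The second three-element. -/
def wP : Pr := (1, c5)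
/-- The central involution of the centraliser of the torus. -/
def tP : Pr := (1, swap 3 4)
/-- The involution inverting the first three-element. -/
def eP : Pr := (swap 0 1, 1)
/-- First type. -/
def bA : Perm (Fin 5) := swap 0 1
/-- Second type. -/
def bB : Perm (Fin 5) := swap 0 1 * swap 3 4

/-- The nine elements. -/
def torusP : Finset Pr := (Finset.range 3 ×ˢ Finset.range 3).image fun p => zP ^ p.1 * wP ^ p.2

/-- The eighteen elements. -/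
def cdP : Finset Pr := torusP ∪ torusP.image (· * tP)

theorem normal_three : ∀ x : Pr, x * x * x = 1 → x ≠ 1 →
    (wP * x * wP⁻¹ = x ∨ wP * x * wP⁻¹ = x⁻¹) →
    (((1 : Perm (Fin 3)), (swap 2 3 * swap 3 4 : Perm (Fin 5))) * x * (1, swap 2 3 * swap 3 4)⁻¹ = x ∨
      ((1 : Perm (Fin 3)), (swap 2 3 * swap 3 4 : Perm (Fin 5))) * x * (1, swap 2 3 * swap 3 4)⁻¹ = x⁻¹) →
    x = zP ∨ x = eP * zP * eP⁻¹ := by decide +kernel

theorem cube_comm : ∀ x : Pr, x * x * x = 1 → x * zP = zP * x → x.1 = 1 ∨ x.1 = c3 ∨ x.1 = c3 * c3 := by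
  decide +kernel

theorem cent_torus : ∀ x : Pr, x * zP = zP * x → x * wP = wP * x → x ∈ cdP := by decide +kernel

theorem cd_spec : ∀ x ∈ cdP, x * zP = zP * x ∧ x * wP = wP * x ∧ x * tP = tP * x ∧
    (x * x = 1 → x = 1 ∨ x = tP) ∧ ∃ j ∈ Finset.range 3,
      (x * (1, bA) * x⁻¹ = (1, c5 ^ j * bA * (c5 ^ j)⁻¹) ∧ x * (1, bB) * x⁻¹ = (1, c5 ^ j * bB * (c5 ^ j)⁻¹)) := by
  decide +kernel

theorem card_cd : cdP.card = 18 := by decide +kernel

theorem card_torus : torusP.card = 9 := by decide +kernel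

theorem card_normalizing : (Finset.univ.filter fun x : Pr => x * zP * x⁻¹ ∈ torusP ∧ x * wP * x⁻¹ ∈ torusP).card = 72 := by
  decide +kernel

theorem normalizing : ∀ x : Pr, x * zP * x⁻¹ = zP ∨ x * zP * x⁻¹ = zP⁻¹ := by decide +kernel

theorem normalizing_w : ∀ x : Pr, x * zP * x⁻¹ ∈ torusP → x * wP * x⁻¹ ∈ torusP →
    x * wP * x⁻¹ = wP ∨ x * wP * x⁻¹ = wP⁻¹ := by decide +kernel

theorem off_lines : ∀ x ∈ torusP, x ≠ 1 → x ≠ zP → x ≠ zP⁻¹ → x ≠ wP → x ≠ wP⁻¹ →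
    x = zP * wP ∨ x = (zP * wP)⁻¹ ∨ x = eP * (zP * wP) * eP⁻¹ ∨ x = (eP * (zP * wP) * eP⁻¹)⁻¹ := by
  decide +kernel

theorem fixed_lines : ∀ x ∈ torusP, (eP * x * eP⁻¹ = x ∨ eP * x * eP⁻¹ = x⁻¹) →
    x = 1 ∨ x = zP ∨ x = zP⁻¹ ∨ x = wP ∨ x = wP⁻¹ := by decide +kernel

theorem signs : eP * zP * eP⁻¹ = zP⁻¹ ∧ eP * wP * eP⁻¹ = wP ∧
    ((1 : Perm (Fin 3)), bA) * zP * ((1 : Perm (Fin 3)), bA)⁻¹ = zP ∧
    ((1 : Perm (Fin 3)), bA) * wP * ((1 : Perm (Fin 3)), bA)⁻¹ = wP⁻¹ ∧ eP * eP = 1 := by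
  decide +kernel

theorem third_gen : ∀ x : Pr, x * x = 1 → x * zP = zP * x → x * wP * x⁻¹ = wP⁻¹ → ∃ k ∈ Finset.range 3,
    ((1 : Perm (Fin 3)), c5 ^ k) * x * (1, c5 ^ k)⁻¹ = (1, bA) ∨
      ((1 : Perm (Fin 3)), c5 ^ k) * x * (1, c5 ^ k)⁻¹ = (1, bB) := by decide +kernel

end Cfsg.Lib.SymEightLocal
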