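import Cfsg.Agent.LocalThree.SymEightLocal.Fusion
import Cfsg.Agent.InvolCalc.Dihedral

/-!
The product of involutions from both factors is not conjugate to an exchanging involution.
-/

set_option autoImplicit false
set_option synthInstance.maxSize 4096
set_option maxRecDepth 100000
set_option maxHeartbeats 1000000

namespace Cfsg.Lib.SymEightLocal

open Equiv Subgroup Cfsg.Lib.AltEightLocal

universe u

/-- The diagonal pair. -/
def P0 : Pr := eP * (1, bB)

theorem seven : ∀ a : Pr, a * a = 1 → a ≠ 1 → a * tP = tP * a → a * P0 = P0 * a →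
    a = tP ∨ a = eP ∨ a = (1, bB) ∨ a = eP * tP ∨ a = (1, bB) * tP ∨ a = P0 ∨ a = P0 * tP := by decide +kernel

theorem inverting : ∀ a : Pr, a * a = 1 → a * tP = tP * a → a * zP * a⁻¹ = zP⁻¹ → a * wP * a⁻¹ = wP⁻¹ →
    ∃ d ∈ torusP, d * a * d⁻¹ = P0 ∨ d * a * d⁻¹ = P0 * tP := by decide +kernel

theorem to_bB : ∀ v ∈ vset, v ≠ 1 → ∃ s : Perm (Fin 5), Perm.sign s = 1 ∧ s * bB * s⁻¹ = v := by decide +kernel

namespace Crossed

variable {G : Type u} [Group G] [Finite G] (B : Crossed G)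

/-- An involution exchanging the lines. -/
def IsSwap (n : G) : Prop :=
  n * n = 1 ∧ n ∈ normalizer (B.D : Set G) ∧
    (n * B.toLoc.z * n⁻¹ = B.toLoc.w ∨ n * B.toLoc.z * n⁻¹ = B.toLoc.w⁻¹)

theorem swap_back {n : G} (h2 : n * n = 1) {a b : G} (h : n * a * n⁻¹ = b) : n * b * n⁻¹ = a := by
  rw [← h, show n * (n * a * n⁻¹) * n⁻¹ = (n * n) * a * (n * n)⁻¹ by group, h2]; group

theorem isSwap_ne {n : G} (h : B.IsSwap n) : n ≠ B.toLoc.t ∧ n ≠ 1 := by
  obtain ⟨-, -, h⟩ := h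
  constructor <;> intro e <;> rw [e] at h
  · rw [(B.toLoc.comm_f (by decide +kernel : tP * zP = zP * tP)).eq, mul_inv_cancel_right] at h
    simp only [Loc.z, Loc.w, ← map_inv] at h
    rcases h with h | h <;> exact absurd (B.f_inj h) (by decide +kernel)
  · simp only [one_mul, inv_one, mul_one, Loc.z, Loc.w, ← map_inv] at h
    rcases h with h | h <;> exact absurd (B.f_inj h) (by decide +kernel)

theorem isSwap_conj {n : G} (h : B.IsSwap n) : ∃ c : G, c * B.toLoc.t * c⁻¹ = B.toLoc.t ∧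
    Commute (c * n * c⁻¹) (B.f (zP * wP)) := by
  obtain ⟨h2, -, h⟩ := h
  rcases h with h | h
  · refine ⟨1, by group, ?_⟩
    rw [one_mul, inv_one, mul_one]
    refine mul_inv_eq_iff_eq_mul.1 ?_
    rw [map_mul, ← conj_mul, show B.f zP = B.toLoc.z from rfl, show B.f wP = B.toLoc.w from rfl, h, swap_back h2 h]
    exact (B.toLoc.comm_f (by decide +kernel : wP * zP = zP * wP)).eq
  · refine ⟨B.f eP, ?_, ?_⟩
    · rw [conj_hom B.f (show eP * tP * eP⁻¹ = tP by decide +kernel)]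
    · have hb := swap_back h2 h
      have hc : Commute n (B.toLoc.z⁻¹ * B.toLoc.w) := by
        refine mul_inv_eq_iff_eq_mul.1 ?_
        rw [← conj_mul, ← conj_inv, h, inv_inv]
        have h' : n * B.toLoc.w * n⁻¹ = B.toLoc.z⁻¹ := by
          rw [show n * B.toLoc.w * n⁻¹ = (n * B.toLoc.w⁻¹ * n⁻¹)⁻¹ by group, hb]
        rw [h']
        exact (B.toLoc.comm_f (by decide +kernel : wP * zP = zP * wP)).inv_right.eq
      have e : B.f eP * (B.toLoc.z⁻¹ * B.toLoc.w) * (B.f eP)⁻¹ = B.f (zP * wP) := by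
        rw [← map_inv B.f zP, ← map_mul, conj_hom B.f (show eP * (zP⁻¹ * wP) * eP⁻¹ = zP * wP by decide +kernel)]
      rw [← e]
      show _ * _ = _ * _
      rw [conj_mul, conj_mul, hc.eq]

theorem swap_not_U {n : G} (h : B.IsSwap n) : ¬ B.toLoc.IsU n := by
  rintro ⟨d, rfl⟩
  obtain ⟨c, -, hc⟩ := B.isSwap_conj h
  refine B.toLoc.not_comm_zw_u (c * d) ?_
  rwa [show c * d * B.toLoc.u * (c * d)⁻¹ = c * (d * B.toLoc.u * d⁻¹) * c⁻¹ by group]

theorem swap_not_T {n : G} (h : B.IsSwap n) : ¬ B.toLoc.IsT n := by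
  rintro ⟨d, rfl⟩
  obtain ⟨c, hct, hc⟩ := B.isSwap_conj h
  refine B.toLoc.not_conj_t_of_comm_zw ?_ (fun e => (B.isSwap_ne h).1 ?_) hc (c * d) (by group)
  · rw [conj_mul, conj_mul, B.toLoc.t_sq]; group
  · exact mul_left_cancel (mul_right_cancel (e.trans hct.symm))

theorem swap_mul_t {n : G} (h : B.IsSwap n) : B.IsSwap (n * B.toLoc.t) := by
  obtain ⟨h2, hN, h⟩ := h
  have hc := B.toLoc.t_central hN
  have htN : B.toLoc.t ∈ normalizer (B.D : Set G) := centralizer_le_normalizer _ B.toLoc.t_centD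
  refine ⟨by rw [hc.symm.mul_mul_mul_comm, h2, B.toLoc.t_sq, one_mul], mul_mem hN htN, ?_⟩
  rwa [show n * B.toLoc.t * B.toLoc.z * (n * B.toLoc.t)⁻¹ = n * (B.toLoc.t * B.toLoc.z * B.toLoc.t⁻¹) * n⁻¹ by group,
    (B.toLoc.comm_f (by decide +kernel : tP * zP = zP * tP)).eq, mul_inv_cancel_right]

/-- The diagonal involution. -/
def p0 : G := B.f P0

theorem bB_mem : bB ∈ A5 := by rw [Perm.mem_alternatingGroup]; decide +kernel

theorem p0_eq : B.p0 = B.φ (⟨bB, bB_mem⟩, ⟨bB, bB_mem⟩) := by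
  rw [φ_apply, Loc.e1_apply, Loc.e2_apply, (B.toLoc.gB B.hB).2]
  show B.f P0 = B.f (1, bB) * B.f eP
  rw [← map_mul]
  exact congrArg B.f (by decide +kernel)

/-- The moving element. -/
def hh : G := B.f (1, d5) * B.toLoc.g (1, d5)

theorem d5_mem : d5 ∈ A5 := by rw [Perm.mem_alternatingGroup]; decide +kernel

theorem hh_eq : B.hh = B.φ (⟨d5, d5_mem⟩, ⟨d5, d5_mem⟩) := rfl

theorem p1_mem : p1 ∈ A5 := Perm.mem_alternatingGroup.2 (vset_grp.2.2.1 _ v_facts.2.2.2.2.1)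

theorem p0_back : B.hh⁻¹ * B.p0 * B.hh = B.φ (⟨p1, p1_mem⟩, ⟨p1, p1_mem⟩) := by
  rw [B.hh_eq, B.p0_eq, ← map_inv, ← map_mul, ← map_mul]
  have e : d5⁻¹ * bB * d5 = p1 := by decide +kernel
  exact congrArg B.φ (Prod.ext (Subtype.ext e) (Subtype.ext e))

theorem diag_not_axial {a b : A5} (ha : a ≠ 1) (hb : b ≠ 1) : ¬ B.Axial (B.φ (a, b)) := by
  rintro ⟨v, -, h | h⟩
  · exact hb (congrArg Prod.snd (B.φ_inj h))
  · exact ha (congrArg Prod.fst (B.φ_inj h))

theorem not_isU_p0 : ¬ B.toLoc.IsU B.p0 := fun h => by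
  have h1 := B.toLoc.isU_conj h B.hh⁻¹
  rw [inv_inv, B.p0_back] at h1
  have hne : (⟨p1, p1_mem⟩ : A5) ≠ 1 := fun e => fixed_facts.2.2 (congrArg Subtype.val e)
  exact B.diag_not_axial hne hne
    (B.axial_of_isU (B.mem_A.2 ⟨_, v_facts.2.2.2.2.1, _, v_facts.2.2.2.2.1, rfl⟩) h1)

/-- Every diagonal element of the group of order sixteen is conjugate to the chosen one. -/
theorem diag_conj {a b : A5} (ha : a ∈ V) (hb : b ∈ V) (ha1 : a ≠ 1) (hb1 : b ≠ 1) :
    ∃ c ∈ B.φ.range, c * B.p0 * c⁻¹ = B.φ (a, b) := by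
  obtain ⟨s, hs, hsa⟩ := to_bB _ ha fun e => ha1 (Subtype.ext e)
  obtain ⟨s', hs', hsb⟩ := to_bB _ hb fun e => hb1 (Subtype.ext e)
  refine ⟨_, ⟨(⟨s, Perm.mem_alternatingGroup.2 hs⟩, ⟨s', Perm.mem_alternatingGroup.2 hs'⟩), rfl⟩, ?_⟩
  rw [B.p0_eq, ← map_inv, ← map_mul, ← map_mul]
  exact congrArg B.φ (Prod.ext (Subtype.ext hsa) (Subtype.ext hsb))

theorem list_cent {x : G} (h2 : x * x = 1) (h1 : x ≠ 1) (ht : Commute x B.toLoc.t) (hp : Commute x B.p0) :
    B.IsSwap x ∨ ∃ a : Pr, x = B.f a ∧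
      (a = tP ∨ a = eP ∨ a = (1, bB) ∨ a = eP * tP ∨ a = (1, bB) * tP ∨ a = P0 ∨ a = P0 * tP) := by
  have hN := B.toLoc.centT_le B.hB (mem_centralizer_singleton_iff.2 ht.eq)
  have hz : x * B.toLoc.z * x⁻¹ = B.toLoc.z ∨ x * B.toLoc.z * x⁻¹ = B.toLoc.z⁻¹ →
      ∃ a : Pr, x = B.f a ∧
        (a = tP ∨ a = eP ∨ a = (1, bB) ∨ a = eP * tP ∨ a = (1, bB) * tP ∨ a = P0 ∨ a = P0 * tP) := by
    intro h
    obtain ⟨a, rfl⟩ := B.f_norm x h
    refine ⟨a, rfl, seven a (B.f_inj (by rw [map_mul, h2, map_one])) (fun e => h1 (by rw [e, map_one]))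
      (B.toLoc.comm_f_iff.1 ht) (B.toLoc.comm_f_iff.1 hp)⟩
  rcases B.toLoc.norm_lines hN with h | h | h | h
  · exact Or.inr (hz (Or.inl h))
  · exact Or.inr (hz (Or.inr h))
  · exact Or.inl ⟨h2, hN, Or.inl h⟩
  · exact Or.inl ⟨h2, hN, Or.inr h⟩

/-- Being conjugate to an exchanging involution. -/
def ConjSwap (x : G) : Prop := ∃ c : G, B.IsSwap (c * x * c⁻¹)

theorem conjSwap_not_T {x : G} (h : B.ConjSwap x) : ¬ B.toLoc.IsT x := fun hT => by
  obtain ⟨c, hc⟩ := h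
  exact B.swap_not_T hc (B.toLoc.isT_conj hT c)

theorem not_in_centre {t' : G} (hT : B.toLoc.IsT t') (ht : Commute t' B.toLoc.t) (hp : Commute t' B.p0)
    (hS : B.ConjSwap (B.p0 * t')) : False := by
  have h2 : t' * t' = 1 := by
    obtain ⟨c, rfl⟩ := hT
    rw [conj_mul, B.toLoc.t_sq]; group
  have h1 : t' ≠ 1 := by
    obtain ⟨c, rfl⟩ := hT
    exact fun e => B.toLoc.t_ne (conj_eq_one_iff.1 e)
  rcases B.list_cent h2 h1 ht hp with hs | ⟨a, rfl, ha⟩
  · exact B.swap_not_T hs hT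
  refine B.conjSwap_not_T hS ?_
  have hr := B.toLoc.isU_r B.hB
  have hu := B.toLoc.isU_u
  rw [show B.p0 * B.f a = B.f (P0 * a) from (map_mul B.f _ _).symm]
  rcases ha with rfl | rfl | rfl | rfl | rfl | rfl | rfl
  · have := B.toLoc.isT_rut B.hB
    rwa [show B.toLoc.r * B.toLoc.u * B.toLoc.t = B.f (P0 * tP) from by
      show B.f eP * B.f (1, bB) * B.f tP = _; rw [← map_mul, ← map_mul]; rfl] at this
  · exact absurd hT (B.toLoc.not_isT_of_isU hr)
  · exact absurd hT (B.toLoc.not_isT_of_isU hu)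
  · have := B.toLoc.isT_ut
    rwa [show B.toLoc.u * B.toLoc.t = B.f (P0 * (eP * tP)) from by
      show B.f (1, bB) * B.f tP = _; rw [← map_mul]; exact congrArg B.f (by decide +kernel)] at this
  · have := B.toLoc.isT_rt B.hB
    rwa [show B.toLoc.r * B.toLoc.t = B.f (P0 * ((1, bB) * tP)) from by
      show B.f eP * B.f tP = _; rw [← map_mul]; exact congrArg B.f (by decide +kernel)] at this
  · exfalso
    obtain ⟨c, hc⟩ := hS
    exact (B.isSwap_ne hc).2 (by rw [show B.p0 * B.f P0 = 1 from h2]; group)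
  · rw [show P0 * (P0 * tP) = tP by decide +kernel]
    exact B.toLoc.isT_t

/-- The diagonal involution is not conjugate to an exchanging one. -/
theorem p0_not_swap {n : G} (hn : B.IsSwap n) (g : G) : g * B.p0 * g⁻¹ ≠ n := by
  intro hg
  set t1 := g⁻¹ * B.toLoc.t * g with ht1
  have hgt : g * t1 * g⁻¹ = B.toLoc.t := by rw [ht1]; group
  have hT1 : B.toLoc.IsT t1 := ⟨g⁻¹, by rw [ht1]; group⟩
  have hnt := B.toLoc.t_central hn.2.1
  have hp1 : Commute t1 B.p0 := by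
    show _ * _ = _ * _
    have e : B.p0 = g⁻¹ * n * g := by rw [← hg]; group
    rw [ht1, e, show g⁻¹ * B.toLoc.t * g * (g⁻¹ * n * g) = g⁻¹ * (B.toLoc.t * n) * g by group, hnt.symm.eq]; group
  have hS : B.ConjSwap (B.p0 * t1) := ⟨g, by rw [← conj_mul, hg, hgt]; exact B.swap_mul_t hn⟩
  have hPt : B.toLoc.IsT (B.p0 * B.toLoc.t) := by
    have := B.toLoc.isT_rut B.hB
    rwa [show B.toLoc.r * B.toLoc.u * B.toLoc.t = B.p0 * B.toLoc.t from by
      show B.f eP * B.f (1, bB) * B.f tP = B.f P0 * B.f tP; rw [← map_mul B.f eP]; rfl] at this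
  have hp : Commute B.toLoc.t B.p0 := B.toLoc.comm_f (by decide +kernel)
  have hto : orderOf B.toLoc.t = 2 := orderOf_eq_prime (by rw [pow_two, B.toLoc.t_sq]) B.toLoc.t_ne
  have h1o : orderOf t1 = 2 := by
    rw [ht1, show g⁻¹ * B.toLoc.t * g = MulAut.conj g⁻¹ B.toLoc.t by simp, MulEquiv.orderOf_eq, hto]
  have heven : Even (orderOf (B.toLoc.t * t1)) := by
    rw [← Nat.not_odd_iff_even]
    intro hodd
    obtain ⟨d, hd, hdt⟩ := Cfsg.Lib.InvolCalc.conj_of_odd hto h1o hodd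
    have hdp : Commute d B.p0 := mem_centralizer_singleton_iff.1 ((closure_le (centralizer ({B.p0} : Set G))).2 (by
      rintro y (rfl | rfl)
      · exact mem_centralizer_singleton_iff.2 hp.eq
      · exact mem_centralizer_singleton_iff.2 hp1.eq) hd)
    refine B.conjSwap_not_T hS ?_
    have := B.toLoc.isT_conj hPt d
    rwa [← conj_mul, hdp.eq, mul_inv_cancel_right, hdt] at this
  obtain ⟨hxo, hxt, hx1⟩ := Cfsg.Lib.InvolCalc.central_spec hto h1o heven
  set k := orderOf (B.toLoc.t * t1) / 2 with hk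
  set x := (B.toLoc.t * t1) ^ k with hx
  have hxp : Commute x B.p0 := (hp.mul_left hp1).pow_left k
  have hrot : ∀ j : ℕ, B.toLoc.IsT ((B.toLoc.t * t1) ^ j * B.toLoc.t) := by
    intro j
    have hrt : ∀ m : ℕ, (B.toLoc.t * t1) ^ m * B.toLoc.t * ((B.toLoc.t * t1) ^ m)⁻¹ = (B.toLoc.t * t1) ^ (2 * m) * B.toLoc.t := fun m => by
      have := Cfsg.Lib.InvolCalc.conj_rot hto h1o (m : ℤ)
      rw [zpow_natCast, show (2 * (m : ℤ)) = ((2 * m : ℕ) : ℤ) by push_cast; ring, zpow_natCast] at this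
      exact this
    rcases Nat.even_or_odd' j with ⟨m, hm | hm⟩
    · rw [hm, ← hrt]; exact B.toLoc.isT_conj B.toLoc.isT_t _
    · have h3 := B.toLoc.isT_conj (B.toLoc.isT_conj hT1 B.toLoc.t) ((B.toLoc.t * t1) ^ m)
      rw [Cfsg.Lib.InvolCalc.inv_of_order_two hto, show (B.toLoc.t * t1) ^ m * (B.toLoc.t * t1 * B.toLoc.t) * ((B.toLoc.t * t1) ^ m)⁻¹
        = (B.toLoc.t * t1) * ((B.toLoc.t * t1) ^ m * B.toLoc.t * ((B.toLoc.t * t1) ^ m)⁻¹) by
          rw [← mul_assoc ((B.toLoc.t * t1) ^ m), ← pow_succ, pow_succ']; simp only [mul_assoc],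
        hrt, ← mul_assoc, ← pow_succ', ← hm] at h3
      exact h3
  have hk1 : 1 ≤ k := by
    rcases Nat.eq_zero_or_pos k with h0 | h0
    · rw [hx, h0, pow_zero, orderOf_one] at hxo; exact absurd hxo (by norm_num)
    · exact h0
  have hTxt : B.toLoc.IsT (x * B.toLoc.t) := hrot k
  have hTxt1 : B.toLoc.IsT (x * t1) := by
    obtain ⟨j, hj⟩ : ∃ j, k = j + 1 := ⟨k - 1, by omega⟩
    rw [hx, hj, pow_succ, mul_assoc, mul_assoc B.toLoc.t, Cfsg.Lib.InvolCalc.sq_of_order_two h1o, mul_one]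
    exact hrot j
  have hx2 : x * x = 1 := Cfsg.Lib.InvolCalc.sq_of_order_two hxo
  have hxne : x ≠ 1 := fun e => by rw [e, orderOf_one] at hxo; exact absurd hxo (by norm_num)
  -- moving a generator onto the centre
  have hmove : ∀ Q : G, Q * x * Q⁻¹ = B.toLoc.t → Q * B.p0 * Q⁻¹ = B.p0 → False := by
    intro Q hQx hQp
    refine B.not_in_centre (t' := Q * t1 * Q⁻¹) (B.toLoc.isT_conj hT1 Q) ?_ ?_ ?_
    · rw [← hQx]; show _ * _ = _ * _; rw [conj_mul, conj_mul, hx1.eq]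
    · rw [← hQp]; show _ * _ = _ * _; rw [conj_mul, conj_mul, hp1.eq]
    · obtain ⟨c, hc⟩ := hS
      exact ⟨c * Q⁻¹, by rw [← hQp, conj_mul]; convert hc using 1; group⟩
  rcases B.list_cent hx2 hxne hxt hxp with hs | ⟨a, ha, hcases⟩
  · exact B.swap_not_T (B.swap_mul_t hs) hTxt
  -- the two axial cases
  have haxial : B.toLoc.IsU x → False := by
    intro hU
    set y := g * x * g⁻¹ with hy
    have hyU := B.toLoc.isU_conj hU g
    have hyt : Commute y B.toLoc.t := by rw [← hgt, hy]; show _ * _ = _ * _; rw [conj_mul, conj_mul, hx1.eq]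
    have hyn : Commute y n := by rw [← hg, hy]; show _ * _ = _ * _; rw [conj_mul, conj_mul, hxp.eq]
    have hyN := B.toLoc.centT_le B.hB (mem_centralizer_singleton_iff.2 hyt.eq)
    have hy2 := B.toLoc.sq_of_isU hyU
    have hnz : ∀ s e : G, n * B.toLoc.z * n⁻¹ = s → y * B.toLoc.z * y⁻¹ = e → y * s * y⁻¹ = n * e * n⁻¹ := by
      intro s e h1 h2
      rw [← h1, ← h2, show y * (n * B.toLoc.z * n⁻¹) * y⁻¹ = y * n * B.toLoc.z * (y * n)⁻¹ by group, hyn.eq]; group
    rcases B.toLoc.norm_lines hyN with h | h | h | h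
    · have hw : y * B.toLoc.w * y⁻¹ = B.toLoc.w := by
        rcases hn.2.2 with e | e
        · rw [hnz _ _ e h, e]
        · have := hnz _ _ e h
          rw [e, ← conj_inv, inv_inj] at this
          exact this
      refine B.toLoc.not_isT_of_isU hyU ⟨1, ?_⟩
      rw [one_mul, inv_one, mul_one]
      refine (B.toLoc.eq_t (B.toLoc.mem_centD.2 ⟨mul_inv_eq_iff_eq_mul.1 h, mul_inv_eq_iff_eq_mul.1 hw⟩) hy2 ?_).symm
      obtain ⟨d, hd⟩ := hyU
      intro e
      rw [← hy] at hd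
      rw [e] at hd
      exact absurd (B.f_inj ((conj_eq_one_iff.1 hd).trans B.f.map_one.symm)) (by decide +kernel)
    · have hw : y * B.toLoc.w * y⁻¹ = B.toLoc.w⁻¹ := by
        rcases hn.2.2 with e | e
        · rw [hnz _ _ e h, ← conj_inv, e]
        · have := hnz _ _ e h
          rw [← conj_inv, ← conj_inv, e, inv_inv, inv_eq_iff_eq_inv] at this
          exact this
      obtain ⟨b, hbe⟩ := B.f_norm y (Or.inr h)
      obtain ⟨d, -, hd⟩ := inverting b (B.f_inj (by rw [map_mul, hbe, hy2, map_one]))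
        (B.toLoc.comm_f_iff.1 (hbe ▸ hyt))
        (B.f_inj (by rw [map_mul, map_mul, map_inv, hbe, h, map_inv]))
        (B.f_inj (by rw [map_mul, map_mul, map_inv, hbe, hw, map_inv]))
      have hdU := B.toLoc.isU_conj hyU (B.f d)
      rw [← hy, ← hbe, conj_hom B.f rfl] at hdU
      rcases hd with e | e <;> rw [e] at hdU
      · exact B.not_isU_p0 hdU
      · refine B.toLoc.not_isT_of_isU hdU ?_
        rw [map_mul]; exact hPt
    · exact B.swap_not_U ⟨hy2, hyN, Or.inl h⟩ hyU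
    · exact B.swap_not_U ⟨hy2, hyN, Or.inr h⟩ hyU
  rcases hcases with rfl | rfl | rfl | rfl | rfl | rfl | rfl
  · exact hmove 1 (by rw [ha]; group) (by group)
  · exact haxial (ha ▸ B.toLoc.isU_r B.hB)
  · exact haxial (ha ▸ B.toLoc.isU_u)
  · refine hmove (B.toLoc.g qP) ?_ ?_
    · rw [ha, map_mul, show B.f eP = B.toLoc.g (1, bB) from (B.toLoc.gB B.hB).2.symm,
        show B.f tP = B.toLoc.g tP from B.toLoc.gt.symm, ← map_mul,
        conj_hom B.toLoc.g (show qP * ((1, bB) * tP) * qP⁻¹ = tP by decide +kernel)]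
      exact B.toLoc.gt
    · rw [p0, show P0 = eP * (1, bB) from rfl, map_mul, show B.f eP = B.toLoc.g (1, bB) from (B.toLoc.gB B.hB).2.symm,
        show B.f (1, bB) = B.toLoc.g eP from (B.toLoc.gB B.hB).1.symm, ← map_mul]
      exact conj_hom B.toLoc.g (by decide +kernel)
  · refine hmove (B.f qP) ?_ ?_
    · rw [ha]; exact conj_hom B.f (by decide +kernel)
    · exact conj_hom B.f (by decide +kernel)
  · refine B.conjSwap_not_T hS ?_
    rw [show B.p0 = x from ha.symm]; exact hTxt1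
  · refine B.not_in_centre hT1 ?_ hp1 hS
    have e : B.toLoc.t = B.p0 * x := by
      rw [ha]; show B.f tP = B.f P0 * B.f (P0 * tP); rw [← map_mul]; exact congrArg B.f (by decide +kernel)
    rw [e]; exact hp1.mul_right hx1.symm

end Crossed

end Cfsg.Lib.SymEightLocal
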