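import Cfsg.Agent.LocalThree.SymEightLocal.SixData

/-!
Frames in the symmetric group of degree six.
-/

set_option autoImplicit false
set_option maxRecDepth 100000
set_option maxHeartbeats 1000000
set_option synthInstance.maxSize 8192
set_option synthInstance.maxHeartbeats 400000

namespace Cfsg.Lib.SymEightLocal

open Equiv

-- Decide bounded quantifiers along the list, not along the finite type.
attribute [local instance 10000] List.decidableBAll

/-- The eighty elements of order three. -/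
def threes : List (Perm (Fin 6)) :=
  [swap 3 4 * swap 4 5, swap 3 5 * swap 5 4, swap 2 3 * swap 3 4, swap 2 3 * swap 3 5,
  swap 2 4 * swap 4 3, swap 2 4 * swap 4 5, swap 2 5 * swap 5 3, swap 2 5 * swap 5 4,
  swap 1 2 * swap 2 3, swap 1 2 * swap 2 4, swap 1 2 * swap 2 5, swap 1 3 * swap 3 2,
  swap 1 3 * swap 3 4, swap 1 3 * swap 3 5, swap 1 4 * swap 4 2, swap 1 4 * swap 4 3,
  swap 1 4 * swap 4 5, swap 1 5 * swap 5 2, swap 1 5 * swap 5 3, swap 1 5 * swap 5 4,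
  swap 0 1 * swap 1 2, (swap 0 1 * swap 1 2) * (swap 3 4 * swap 4 5), (swap 0 1 * swap 1 2) * (swap 3 5 * swap 5 4), swap 0 1 * swap 1 3,
  (swap 0 1 * swap 1 3) * (swap 2 4 * swap 4 5), (swap 0 1 * swap 1 3) * (swap 2 5 * swap 5 4), swap 0 1 * swap 1 4, (swap 0 1 * swap 1 4) * (swap 2 3 * swap 3 5),
  (swap 0 1 * swap 1 4) * (swap 2 5 * swap 5 3), swap 0 1 * swap 1 5, (swap 0 1 * swap 1 5) * (swap 2 3 * swap 3 4), (swap 0 1 * swap 1 5) * (swap 2 4 * swap 4 3),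
  swap 0 2 * swap 2 1, (swap 0 2 * swap 2 1) * (swap 3 4 * swap 4 5), (swap 0 2 * swap 2 1) * (swap 3 5 * swap 5 4), swap 0 2 * swap 2 3,
  swap 0 2 * swap 2 4, swap 0 2 * swap 2 5, (swap 0 2 * swap 2 4) * (swap 1 3 * swap 3 5), (swap 0 2 * swap 2 5) * (swap 1 3 * swap 3 4),
  (swap 0 2 * swap 2 3) * (swap 1 4 * swap 4 5), (swap 0 2 * swap 2 5) * (swap 1 4 * swap 4 3), (swap 0 2 * swap 2 3) * (swap 1 5 * swap 5 4), (swap 0 2 * swap 2 4) * (swap 1 5 * swap 5 3),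
  swap 0 3 * swap 3 1, (swap 0 3 * swap 3 1) * (swap 2 4 * swap 4 5), (swap 0 3 * swap 3 1) * (swap 2 5 * swap 5 4), swap 0 3 * swap 3 2,
  swap 0 3 * swap 3 4, swap 0 3 * swap 3 5, (swap 0 3 * swap 3 5) * (swap 1 2 * swap 2 4), (swap 0 3 * swap 3 4) * (swap 1 2 * swap 2 5),
  (swap 0 3 * swap 3 2) * (swap 1 4 * swap 4 5), (swap 0 3 * swap 3 5) * (swap 1 4 * swap 4 2), (swap 0 3 * swap 3 2) * (swap 1 5 * swap 5 4), (swap 0 3 * swap 3 4) * (swap 1 5 * swap 5 2),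
  swap 0 4 * swap 4 1, (swap 0 4 * swap 4 1) * (swap 2 3 * swap 3 5), (swap 0 4 * swap 4 1) * (swap 2 5 * swap 5 3), swap 0 4 * swap 4 2,
  swap 0 4 * swap 4 3, swap 0 4 * swap 4 5, (swap 0 4 * swap 4 5) * (swap 1 2 * swap 2 3), (swap 0 4 * swap 4 3) * (swap 1 2 * swap 2 5),
  (swap 0 4 * swap 4 2) * (swap 1 3 * swap 3 5), (swap 0 4 * swap 4 5) * (swap 1 3 * swap 3 2), (swap 0 4 * swap 4 2) * (swap 1 5 * swap 5 3), (swap 0 4 * swap 4 3) * (swap 1 5 * swap 5 2),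
  swap 0 5 * swap 5 1, (swap 0 5 * swap 5 1) * (swap 2 3 * swap 3 4), (swap 0 5 * swap 5 1) * (swap 2 4 * swap 4 3), swap 0 5 * swap 5 2,
  swap 0 5 * swap 5 3, swap 0 5 * swap 5 4, (swap 0 5 * swap 5 4) * (swap 1 2 * swap 2 3), (swap 0 5 * swap 5 3) * (swap 1 2 * swap 2 4),
  (swap 0 5 * swap 5 2) * (swap 1 3 * swap 3 4), (swap 0 5 * swap 5 4) * (swap 1 3 * swap 3 2), (swap 0 5 * swap 5 2) * (swap 1 4 * swap 4 3), (swap 0 5 * swap 5 3) * (swap 1 4 * swap 4 2)]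

theorem mem_threes : ∀ x : Perm (Fin 6), x * x * x = 1 → x ≠ 1 → x ∈ threes := by decide +kernel

/-- The conditions on the third involution. -/
def FrameC (R U C : Perm (Fin 6)) : Prop :=
  C * R = R * C ∧ C * U = U * C ∧ C ≠ R ∧ C ≠ U ∧ C ≠ R * U

instance instDecFrameC (R U C : Perm (Fin 6)) : Decidable (FrameC R U C) := inferInstanceAs (Decidable (_ ∧ _))

/-- A pair of involutions with the frame it lies in and witnesses for its symmetries. -/
structure FrameRow where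
  /-- The first involution. -/
  r : Perm (Fin 6)
  /-- The second involution. -/
  u : Perm (Fin 6)
  /-- The third involution. -/
  c : Perm (Fin 6)
  /-- Fixes the first and exchanges the other two. -/
  k : Perm (Fin 6)
  /-- Fixes the third and exchanges the other two. -/
  l : Perm (Fin 6)
  /-- Conjugating elements. -/
  js : List (Perm (Fin 6))

/-- The twelve frames over the representatives. -/
def frameRows : List FrameRow := [
  ⟨swap 0 1, swap 4 5, swap 2 3, swap 2 4 * swap 3 5, swap 0 4 * swap 1 5, [swap 1 2 * swap 2 4 * swap 3 5, swap 1 2 * swap 2 4 * swap 4 3 * swap 3 5]⟩,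
  ⟨swap 0 1, swap 3 4, swap 2 5, swap 2 3 * swap 4 5, swap 0 3 * swap 1 4, [swap 1 2 * swap 2 3 * swap 4 5, swap 1 2 * swap 2 3 * swap 3 5 * swap 5 4]⟩,
  ⟨swap 0 1, swap 3 5, swap 2 4, swap 2 3 * swap 4 5, swap 0 3 * swap 1 5, [swap 1 2 * swap 2 3 * swap 4 5, swap 1 2 * swap 2 3 * swap 3 4 * swap 4 5]⟩,
  ⟨swap 0 1, swap 2 3, swap 4 5, swap 2 4 * swap 3 5, swap 0 2 * swap 1 3, [swap 1 2, swap 1 2 * swap 2 3]⟩,
  ⟨swap 0 1, swap 2 4, swap 3 5, swap 2 3 * swap 4 5, swap 0 2 * swap 1 4, [swap 1 2, swap 1 2 * swap 2 4]⟩,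
  ⟨swap 0 1, swap 2 5, swap 3 4, swap 2 3 * swap 4 5, swap 0 2 * swap 1 5, [swap 1 2, swap 1 2 * swap 2 5]⟩,
  ⟨swap 0 1 * swap 2 3 * swap 4 5, swap 0 1 * swap 2 5 * swap 3 4, swap 0 1 * swap 2 4 * swap 3 5, swap 4 5, swap 3 5, [swap 0 2 * swap 1 3 * swap 3 4, swap 0 2 * swap 2 4 * swap 4 5 * swap 5 1 * swap 1 3]⟩,
  ⟨swap 0 1 * swap 2 3 * swap 4 5, swap 0 3 * swap 1 2 * swap 4 5, swap 0 2 * swap 1 3 * swap 4 5, swap 2 3, swap 1 3, [swap 1 4 * swap 4 2 * swap 3 5, swap 0 4 * swap 4 2 * swap 2 5 * swap 5 3 * swap 3 1]⟩,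
  ⟨swap 0 1 * swap 2 3 * swap 4 5, swap 0 5 * swap 1 4 * swap 2 3, swap 0 4 * swap 1 5 * swap 2 3, swap 4 5, swap 1 5, [swap 1 2 * swap 3 4 * swap 4 5, swap 0 2 * swap 2 1 * swap 3 4]⟩,
  ⟨swap 0 1 * swap 2 3 * swap 4 5, swap 0 1 * swap 2 4 * swap 3 5, swap 0 1 * swap 2 5 * swap 3 4, swap 4 5, swap 3 4, [swap 0 2 * swap 1 3 * swap 3 4 * swap 4 5, swap 0 2 * swap 2 4 * swap 4 1 * swap 1 3]⟩,
  ⟨swap 0 1 * swap 2 3 * swap 4 5, swap 0 4 * swap 1 5 * swap 2 3, swap 0 5 * swap 1 4 * swap 2 3, swap 4 5, swap 1 4, [swap 1 2 * swap 3 4, swap 0 2 * swap 2 1 * swap 3 4 * swap 4 5]⟩,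
  ⟨swap 0 1 * swap 2 3 * swap 4 5, swap 0 2 * swap 1 3 * swap 4 5, swap 0 3 * swap 1 2 * swap 4 5, swap 2 3, swap 1 2, [swap 1 4 * swap 4 2 * swap 2 5 * swap 5 3, swap 0 4 * swap 4 2 * swap 2 1 * swap 3 5]⟩]

/-- The covering property at a first involution. -/
def FrameCover (R : Perm (Fin 6)) : Prop :=
    ∀ W ∈ threes, R * W = W * R → ∀ U ∈ invs, R * U = U * R → R ≠ U → U * W * U = W * W →
    ∀ Z ∈ threes, R * Z * R = Z * Z → U * Z = Z * U → Z * W = W * Z →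
    ∃ t ∈ frameRows, t.r = R ∧ t.u = U ∧
      ∃ j ∈ t.js, R * U * t.c * (j * (Z * W) * j⁻¹) = j * (Z * W) * j⁻¹ * (R * U * t.c)

theorem frame_cover_one : FrameCover (swap 0 1) := by
  unfold FrameCover; decide +kernel

theorem frame_cover_two : FrameCover (swap 0 1 * swap 2 3) := by
  unfold FrameCover; decide +kernel

theorem frame_cover_three : FrameCover (swap 0 1 * swap 2 3 * swap 4 5) := by
  unfold FrameCover; decide +kernel

theorem frame_rows_cover :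
    ∀ R ∈ [(swap 0 1 : Perm (Fin 6)), swap 0 1 * swap 2 3, swap 0 1 * swap 2 3 * swap 4 5], FrameCover R := by
  intro R hR
  simp only [List.mem_cons, List.not_mem_nil, or_false] at hR
  rcases hR with rfl | rfl | rfl
  exacts [frame_cover_one, frame_cover_two, frame_cover_three]

theorem frame_rows_spec : ∀ t ∈ frameRows, t.c ∈ invs ∧ FrameC t.r t.u t.c ∧
    (t.k * t.r = t.r * t.k ∧ t.k * t.u = t.c * t.k ∧ t.k * t.c = t.u * t.k) ∧
    (t.l * t.c = t.c * t.l ∧ t.l * t.r = t.u * t.l ∧ t.l * t.u = t.r * t.l) := by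
  decide +kernel

/-- The centraliser and conjugacy properties of a frame. -/
def FrameTight (t : FrameRow) (x : Perm (Fin 6)) : Prop :=
    (x * t.r = t.r * x → x * t.u = t.u * x →
      x = 1 ∨ x = t.r ∨ x = t.u ∨ x = t.r * t.u ∨ x = t.c ∨ x = t.r * t.c ∨ x = t.u * t.c ∨
        x = t.r * t.u * t.c) ∧
    x * t.u ≠ t.r * t.u * x ∧ x * t.u ≠ t.c * t.u * x

theorem frame_tight_one : ∀ x, ∀ t ∈ frameRows.take 4, FrameTight t x := by
  unfold FrameTight; decide +kernel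

theorem frame_tight_two : ∀ x, ∀ t ∈ (frameRows.drop 4).take 4, FrameTight t x := by
  unfold FrameTight; decide +kernel

theorem frame_tight_three : ∀ x, ∀ t ∈ frameRows.drop 8, FrameTight t x := by
  unfold FrameTight; decide +kernel

theorem frame_rows_cent (x : Perm (Fin 6)) (t : FrameRow) (ht : t ∈ frameRows) : FrameTight t x := by
  have h : frameRows = frameRows.take 4 ++ (frameRows.drop 4).take 4 ++ frameRows.drop 8 := rfl
  rw [h, List.mem_append, List.mem_append] at ht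
  rcases ht with (h | h) | h
  exacts [frame_tight_one x t h, frame_tight_two x t h, frame_tight_three x t h]

/-- A frame. -/
theorem frame_six (R U Z W : Perm (Fin 6)) (hR : R * R = 1) (hR1 : R ≠ 1) (hU : U * U = 1) (hU1 : U ≠ 1)
    (hZ : Z * Z * Z = 1) (hZ1 : Z ≠ 1) (hW : W * W * W = 1) (hW1 : W ≠ 1) (hRU : R * U = U * R) (hne : R ≠ U)
    (hRW : R * W = W * R) (hUW : U * W * U = W * W) (hRZ : R * Z * R = Z * Z) (hUZ : U * Z = Z * U)
    (hZW : Z * W = W * Z) :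
    ∃ C, FrameC R U C ∧ (∃ k, k * R = R * k ∧ k * U = C * k ∧ k * C = U * k) ∧
      (∃ k, k * C = C * k ∧ k * R = U * k ∧ k * U = R * k) ∧
      (∃ k, R * U * C * (k * (Z * W) * k⁻¹) = k * (Z * W) * k⁻¹ * (R * U * C)) ∧
      (∀ x, x * R = R * x → x * U = U * x →
        x = 1 ∨ x = R ∨ x = U ∨ x = R * U ∨ x = C ∨ x = R * C ∨ x = U * C ∨ x = R * U * C) ∧
      ∀ x : Perm (Fin 6), x * U ≠ R * U * x ∧ x * U ≠ C * U * x := by
  obtain ⟨c, hc⟩ := inv_reps _ (mem_invs _ hR hR1)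
  set φ := MulAut.conj c with hφ
  have hinv : ∀ x, x * x = 1 → x ≠ 1 → φ x ∈ invs := fun x h h1 => mem_invs _
    (by rw [← map_mul, h, map_one]) (fun e => h1 (φ.injective (e.trans (map_one φ).symm)))
  have hthr : ∀ x, x * x * x = 1 → x ≠ 1 → φ x ∈ threes := fun x h h1 => mem_threes _
    (by rw [← map_mul, ← map_mul, h, map_one]) (fun e => h1 (φ.injective (e.trans (map_one φ).symm)))
  obtain ⟨t, ht, hr, hu, j, -, hj⟩ :=
    frame_rows_cover (φ R) hc (φ W) (hthr W hW hW1) (by rw [← map_mul, ← map_mul, hRW])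
      (φ U) (hinv U hU hU1) (by rw [← map_mul, ← map_mul, hRU]) (φ.injective.ne hne)
      (by rw [← map_mul, ← map_mul, ← map_mul, hUW]) (φ Z) (hthr Z hZ hZ1)
      (by rw [← map_mul, ← map_mul, ← map_mul, hRZ]) (by rw [← map_mul, ← map_mul, hUZ])
      (by rw [← map_mul, ← map_mul, hZW])
  obtain ⟨-, hF, ⟨a1, a2, a3⟩, b1, b2, b3⟩ := frame_rows_spec t ht
  have hx := fun x => frame_rows_cent x t ht
  obtain ⟨r, u, C0, k1, k2, js⟩ := t
  simp only at hr hu hj hF a1 a2 a3 b1 b2 b3 hx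
  subst hr hu
  obtain ⟨h1, h2, h3, h4, h5⟩ := hF
  obtain ⟨C, rfl⟩ := φ.surjective C0
  obtain ⟨k1, rfl⟩ := φ.surjective k1
  obtain ⟨k2, rfl⟩ := φ.surjective k2
  obtain ⟨k3, rfl⟩ := φ.surjective j
  simp only [← map_mul, ← map_inv, EmbeddingLike.apply_eq_iff_eq, ne_eq] at h1 h2 h3 h4 h5 a1 a2 a3 b1 b2 b3 hj
  refine ⟨C, ⟨h1, h2, h3, h4, h5⟩, ⟨k1, a1, a2, a3⟩, ⟨k2, b1, b2, b3⟩, ⟨k3, hj⟩, fun x h h' => ?_, fun x => ?_⟩
  · have := (hx (φ x)).1 (by rw [← map_mul, ← map_mul, h]) (by rw [← map_mul, ← map_mul, h'])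
    simp only [← map_mul, EmbeddingLike.apply_eq_iff_eq, EmbeddingLike.map_eq_one_iff] at this
    exact this
  · have := (hx (φ x)).2
    simp only [← map_mul, EmbeddingLike.apply_eq_iff_eq, ne_eq] at this
    exact this

end Cfsg.Lib.SymEightLocal
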