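import Cfsg.Agent.LocalThree.SymEightLocal.CentT
import Cfsg.Agent.LocalThree.SymEightLocal.SixFrames

/-!
With crossed outer involutions the centraliser of the central involution is small.
-/

set_option autoImplicit false
set_option synthInstance.maxSize 4096
set_option maxRecDepth 100000
set_option maxHeartbeats 1000000

namespace Cfsg.Lib.SymEightLocal

open Equiv Subgroup Cfsg.Lib.AltEightLocal

universe u

/-- The involution of the second factor moving the first fixed point. -/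
def qP : Pr := (1, Equiv.swap 0 3 * Equiv.swap 1 4)

namespace Loc

variable {G : Type u} [Group G] [Finite G] (L : Loc G)

/-- The first mixed involution. -/
abbrev r : G := L.f eP

theorem gB (hB : L.b = bB) : L.g eP = L.u ∧ L.g (1, bB) = L.r :=
  ⟨by rw [L.g_apply, L.me, hB], by rw [L.g_apply, ← hB, L.mr]⟩

/-- Being conjugate to `u`. -/
def IsU (x : G) : Prop := ∃ c : G, c * L.u * c⁻¹ = x

/-- Being conjugate to `t`. -/
def IsT (x : G) : Prop := ∃ c : G, c * L.t * c⁻¹ = x

theorem isU_conj {x : G} (h : L.IsU x) (c : G) : L.IsU (c * x * c⁻¹) := by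
  obtain ⟨d, rfl⟩ := h
  exact ⟨c * d, by group⟩

theorem isT_conj {x : G} (h : L.IsT x) (c : G) : L.IsT (c * x * c⁻¹) := by
  obtain ⟨d, rfl⟩ := h
  exact ⟨c * d, by group⟩

theorem not_isT_of_isU {x : G} (h : L.IsU x) : ¬ L.IsT x := by
  rintro ⟨d, hd⟩
  obtain ⟨c, rfl⟩ := h
  refine L.not_conj_t_u (c⁻¹ * d) ?_
  rw [show c⁻¹ * d * L.t * (c⁻¹ * d)⁻¹ = c⁻¹ * (d * L.t * d⁻¹) * c by group, hd]
  group

theorem isU_u : L.IsU L.u := ⟨1, by group⟩

theorem isU_r (hB : L.b = bB) : L.IsU L.r := ⟨L.m, by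
  show L.m * L.f (1, bB) * L.m⁻¹ = L.r
  rw [← hB, L.mr]⟩

theorem isT_t : L.IsT L.t := ⟨1, by group⟩

theorem isT_rt (hB : L.b = bB) : L.IsT (L.r * L.t) := by
  refine ⟨L.g qP, ?_⟩
  rw [← L.gt, ← (L.gB hB).2, ← map_mul, ← map_inv, ← map_mul, ← map_mul]
  exact congrArg L.g (by decide +kernel)

theorem isT_ut : L.IsT (L.u * L.t) := by
  refine ⟨L.f qP, ?_⟩
  show _ = L.f (1, bB) * L.f tP
  rw [← map_mul, ← map_inv, ← map_mul, ← map_mul]
  exact congrArg L.f (by decide +kernel)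

theorem isT_rut (hB : L.b = bB) : L.IsT (L.r * L.u * L.t) := by
  obtain ⟨d, hd⟩ := L.isT_ut
  obtain ⟨p, hp⟩ : ∃ p : Pr, p * (eP * tP) * p⁻¹ = eP * ((1, bB) * tP) := ⟨(1, Equiv.swap 0 3 * Equiv.swap 1 4), by decide +kernel⟩
  refine ⟨L.g p * d, ?_⟩
  rw [show L.g p * d * L.t * (L.g p * d)⁻¹ = L.g p * (d * L.t * d⁻¹) * (L.g p)⁻¹ by group, hd, ← (L.gB hB).1,
    ← L.gt, ← map_mul, conj_hom L.g hp, map_mul, map_mul, (L.gB hB).2, (L.gB hB).1, L.gt]
  show L.u * (L.r * L.t) = _
  rw [← mul_assoc, (show Commute L.r L.u from L.comm_f (by decide +kernel)).eq]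

theorem sq_of_isU {x : G} (h : L.IsU x) : x * x = 1 := by
  obtain ⟨c, rfl⟩ := h
  rw [conj_mul, ← map_mul, show ((1, bB) : Pr) * (1, bB) = 1 by decide +kernel, map_one]
  group

/-- The six-point case does not occur. -/
theorem centT_le (hB : L.b = bB) : centralizer ({L.t} : Set G) ≤ normalizer (L.D : Set G) := by
  set C := centralizer ({L.t} : Set G)
  have hcases : C ≤ normalizer (L.D : Set G) ∨ ∃ e : C →* Perm (Fin 6), Function.Surjective e ∧
      ∀ x, e x = 1 ↔ (x : G) = 1 ∨ (x : G) = L.t := L.centT_cases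
  refine hcases.resolve_right ?_
  rintro ⟨e, he, hk⟩
  have mC : ∀ {x : G}, Commute x L.t → x ∈ C := fun h => mem_centralizer_singleton_iff.2 h.eq
  have cC : ∀ x : C, Commute (x : G) L.t := fun x => mem_centralizer_singleton_iff.1 x.2
  have heq : ∀ {x y : C}, e x = e y → (y : G) = x ∨ (y : G) = x * L.t := by
    intro x y h
    rcases (hk (x⁻¹ * y)).1 (by rw [map_mul, map_inv, h, inv_mul_cancel]) with e' | e' <;>
      rw [coe_mul, coe_inv, inv_mul_eq_iff_eq_mul] at e'
    · exact Or.inl (e'.trans (mul_one _))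
    · exact Or.inr e'
  let rC : C := ⟨L.r, mC (L.comm_f (by decide +kernel))⟩
  let uC : C := ⟨L.u, mC (L.comm_f (by decide +kernel))⟩
  let zC : C := ⟨L.z, mC (L.comm_f (by decide +kernel))⟩
  let wC : C := ⟨L.w, mC (L.comm_f (by decide +kernel))⟩
  have heqf : ∀ {a b : C} {p q : Pr}, (a : G) = L.f p → (b : G) = L.f q → p ≠ q → p * tP ≠ q → e a ≠ e b := by
    intro a b p q ha hb h1 h2 h
    rcases heq h with e' | e' <;> rw [ha, hb] at e'
    · exact h1 (L.f_inj e'.symm)
    · exact h2 (L.f_inj (by rw [map_mul]; exact e'.symm))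
  have hone : ((1 : C) : G) = L.f 1 := (map_one L.f).symm
  have hrel : ∀ {a b : C}, (a : G) = b → e a = e b := fun h => congrArg e (Subtype.ext h)
  obtain ⟨C0, ⟨hCR, hCU, hC1, hC2, hC3⟩, ⟨k, hk1, hk2, hk3⟩, ⟨k', hk1', hk2', hk3'⟩, ⟨k3, hk3d⟩, hcl, hcj⟩ :=
    frame_six (e rC) (e uC) (e zC) (e wC)
      (by rw [← map_mul, hrel (a := rC * rC) (b := 1) (by
        show L.f eP * L.f eP = 1
        rw [← map_mul, show eP * eP = 1 by decide +kernel, map_one]), map_one])
      (fun h => heqf (a := rC) (b := 1) rfl hone (by decide +kernel) (by decide +kernel) (h.trans (map_one e).symm))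
      (by rw [← map_mul, hrel (a := uC * uC) (b := 1) (L.sq_of_isU L.isU_u), map_one])
      (fun h => heqf (a := uC) (b := 1) rfl hone (by decide +kernel) (by decide +kernel) (h.trans (map_one e).symm))
      (by rw [← map_mul, ← map_mul, hrel (a := zC * zC * zC) (b := 1) (by
        show L.f zP * L.f zP * L.f zP = 1
        rw [← map_mul, ← map_mul, show zP * zP * zP = 1 by decide +kernel, map_one]), map_one])
      (fun h => heqf (a := zC) (b := 1) rfl hone (by decide +kernel) (by decide +kernel) (h.trans (map_one e).symm))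
      (by rw [← map_mul, ← map_mul, hrel (a := wC * wC * wC) (b := 1) (by
        show L.f wP * L.f wP * L.f wP = 1
        rw [← map_mul, ← map_mul, show wP * wP * wP = 1 by decide +kernel, map_one]), map_one])
      (fun h => heqf (a := wC) (b := 1) rfl hone (by decide +kernel) (by decide +kernel) (h.trans (map_one e).symm))
      (by rw [← map_mul, ← map_mul]; exact hrel (L.comm_f (by decide +kernel)).eq)
      (heqf rfl rfl (by decide +kernel) (by decide +kernel))
      (by rw [← map_mul, ← map_mul]; exact hrel (L.comm_f (by decide +kernel)).eq)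
      (by rw [← map_mul, ← map_mul, ← map_mul]; exact hrel (by
        show L.f (1, bB) * L.f wP * L.f (1, bB) = L.f wP * L.f wP
        rw [← map_mul, ← map_mul, ← map_mul]; exact congrArg L.f (by decide +kernel)))
      (by rw [← map_mul, ← map_mul, ← map_mul]; exact hrel (by
        show L.f eP * L.f zP * L.f eP = L.f zP * L.f zP
        rw [← map_mul, ← map_mul, ← map_mul]; exact congrArg L.f (by decide +kernel)))
      (by rw [← map_mul, ← map_mul]; exact hrel (L.comm_f (by decide +kernel)).eq)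
      (by rw [← map_mul, ← map_mul]; exact hrel (L.comm_f (by decide +kernel)).eq)
  have hUr := L.isU_r hB
  have hUu := L.isU_u
  obtain ⟨K, rfl⟩ := he k
  obtain ⟨K', rfl⟩ := he k'
  obtain ⟨K3, rfl⟩ := he k3
  -- lifts of conjugates
  have hlift : ∀ (c : C) (a b : G) (ha : Commute a L.t) (hb : Commute b L.t),
      e c * e ⟨a, mC ha⟩ = e ⟨b, mC hb⟩ * e c → L.IsU a → ¬ L.IsU (b * L.t) → (c : G) * a * (c : G)⁻¹ = b := by
    intro c a b ha hb h hUa hUb
    have h' : e ⟨b, mC hb⟩ = e (c * ⟨a, mC ha⟩ * c⁻¹) := by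
      rw [map_mul, map_mul, map_inv, h, mul_inv_cancel_right]
    rcases heq h' with e' | e' <;> rw [coe_mul, coe_mul, coe_inv] at e'
    · exact e'
    · exact absurd (e' ▸ L.isU_conj hUa c) hUb
  have hTn : ∀ {x : G}, L.IsT x → ¬ L.IsU x := fun h h' => L.not_isT_of_isU h' h
  set c : G := (K : G) * L.u * (K : G)⁻¹ with hc
  have hUc : L.IsU c := L.isU_conj hUu _
  have hct : Commute c L.t := by
    have := ((cC K).mul_left (cC uC)).mul_left (cC K).inv_left
    exact this
  have hec : e ⟨c, mC hct⟩ = C0 := by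
    rw [hrel (a := (⟨c, mC hct⟩ : C)) (b := K * uC * K⁻¹) rfl, map_mul, map_mul, map_inv, hk2, mul_inv_cancel_right]
  have hTct : L.IsT (c * L.t) := by
    have h := L.isT_conj L.isT_ut (K : G)
    rwa [show (K : G) * (L.u * L.t) * (K : G)⁻¹ = c * ((K : G) * L.t * (K : G)⁻¹) by rw [hc]; group, (cC K).eq,
      mul_inv_cancel_right] at h
  have hKr : (K : G) * L.r * (K : G)⁻¹ = L.r :=
    hlift K L.r L.r (cC rC) (cC rC) hk1 hUr (hTn (L.isT_rt hB))
  have hKc : (K : G) * c * (K : G)⁻¹ = L.u := hlift K c L.u hct (cC uC) (by rw [hec]; exact hk3) hUc (hTn L.isT_ut)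
  have hK'r : (K' : G) * L.r * (K' : G)⁻¹ = L.u :=
    hlift K' L.r L.u (cC rC) (cC uC) hk2' hUr (hTn L.isT_ut)
  have hK'u : (K' : G) * L.u * (K' : G)⁻¹ = L.r :=
    hlift K' L.u L.r (cC uC) (cC rC) hk3' hUu (hTn (L.isT_rt hB))
  have hK'c : (K' : G) * c * (K' : G)⁻¹ = c :=
    hlift K' c c hct hct (by rw [hec]; exact hk1') hUc (hTn hTct)
  have hKt : (K : G) * L.t * (K : G)⁻¹ = L.t := by rw [(cC K).eq, mul_inv_cancel_right]
  have hK't : (K' : G) * L.t * (K' : G)⁻¹ = L.t := by rw [(cC K').eq, mul_inv_cancel_right]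
  have hru : Commute L.r L.u := L.comm_f (by decide +kernel)
  have hrc : Commute L.r c := by
    have : Commute ((K : G) * L.r * (K : G)⁻¹) c := by
      rw [hc]; show _ * _ = _ * _; rw [conj_mul, conj_mul, hru.eq]
    rwa [hKr] at this
  have huc : Commute L.u c := by
    have : Commute ((K' : G) * L.r * (K' : G)⁻¹) ((K' : G) * c * (K' : G)⁻¹) := by
      show _ * _ = _ * _; rw [conj_mul, conj_mul, hrc.eq]
    rwa [hK'r, hK'c] at this
  -- the product of the three
  set X := L.r * L.u * c with hX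
  have hXt : Commute X L.t := ((cC rC).mul_left (cC uC)).mul_left hct
  set q3 := (K3 : G) * L.f (zP * wP) * (K3 : G)⁻¹ with hq3
  have hq33 : q3 ^ 3 = 1 := by
    rw [hq3, conj_pow, ← map_pow, show (zP * wP) ^ 3 = 1 by decide +kernel, map_one]; group
  have hq3t : Commute q3 L.t := ((cC K3).mul_left (L.comm_f (by decide +kernel))).mul_left (cC K3).inv_left
  have hXq : Commute X q3 := by
    have h' : e ⟨q3, mC hq3t⟩ = e (rC * uC * ⟨c, mC hct⟩ * ⟨q3, mC hq3t⟩ * (rC * uC * ⟨c, mC hct⟩)⁻¹) := by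
      have e3 : e (⟨q3, mC hq3t⟩ : C) = e K3 * (e zC * e wC) * (e K3)⁻¹ := by
        rw [← map_mul, ← map_mul, ← map_inv, ← map_mul]
        exact hrel (by show q3 = (K3 : G) * (L.f zP * L.f wP) * (K3 : G)⁻¹; rw [hq3, map_mul])
      simp only [map_mul, map_inv]
      rw [hec, e3, hk3d, mul_inv_cancel_right]
    rcases heq h' with e' | e'
    · exact mul_inv_eq_iff_eq_mul.1 e'
    · exfalso
      have h3 := congrArg (· ^ 3) e'
      simp only [coe_mul, coe_inv] at h3
      rw [conj_pow, hq33, mul_one, mul_inv_cancel, hq3t.mul_pow, hq33, one_mul,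
        show L.t ^ 3 = L.t * L.t * L.t by rw [pow_succ, pow_two], L.t_sq, one_mul] at h3
      exact L.t_ne h3.symm
  have hback : ∀ {y : G}, Commute y q3 → Commute ((K3 : G)⁻¹ * y * (K3 : G)) (L.f (zP * wP)) := by
    intro y hy
    show _ * _ = _ * _
    calc (K3 : G)⁻¹ * y * (K3 : G) * L.f (zP * wP) = (K3 : G)⁻¹ * (y * q3) * (K3 : G) := by rw [hq3]; group
      _ = _ := by rw [hy.eq, hq3]; group
  have hnU : ∀ y : G, Commute y q3 → ¬ L.IsU y := by
    rintro _ hy ⟨d, rfl⟩
    refine L.not_comm_zw_u ((K3 : G)⁻¹ * d) ?_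
    rw [show (K3 : G)⁻¹ * d * L.u * ((K3 : G)⁻¹ * d)⁻¹ = (K3 : G)⁻¹ * (d * L.u * d⁻¹) * (K3 : G) by group]
    exact hback hy
  -- the moving involution
  set Q := L.g qP with hQ
  have hQQ : Q * Q = 1 := by rw [hQ, ← map_mul, show qP * qP = 1 by decide +kernel, map_one]
  have hQi : Q⁻¹ = Q := inv_eq_of_mul_eq_one_right hQQ
  have hQr : Q * L.r * Q⁻¹ = L.r := by rw [hQ, ← (L.gB hB).2]; exact conj_hom L.g (by decide +kernel)
  have hQu : Q * L.u * Q⁻¹ = L.u := by rw [hQ, ← (L.gB hB).1]; exact conj_hom L.g (by decide +kernel)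
  have hQt : Q * L.t * Q⁻¹ = L.r * L.t := by
    rw [hQ, ← L.gt, ← (L.gB hB).2, ← map_mul L.g (1, bB) tP]; exact conj_hom L.g (by decide +kernel)
  have cj : ∀ (a x y : G), Commute x y → Commute (a * x * a⁻¹) (a * y * a⁻¹) := fun a x y h => by
    show _ * _ = _ * _; rw [conj_mul, conj_mul, h.eq]
  have comp : ∀ {a b x y v : G}, b * x * b⁻¹ = y → a * y * a⁻¹ = v → a * b * x * (a * b)⁻¹ = v := fun h1 h2 => by
    rw [← h2, ← h1]; group
  have inv' : ∀ {a x y : G}, a * x * a⁻¹ = y → a⁻¹ * y * a⁻¹⁻¹ = x := fun h => by rw [← h]; group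
  set Q' := (K : G) * Q * (K : G)⁻¹ with hQ'
  have hQ'r : Q' * L.r * Q'⁻¹ = L.r := comp (inv' hKr) (comp hQr hKr)
  have hQ't : Q' * L.t * Q'⁻¹ = L.r * L.t := comp (inv' hKt) (comp hQt (by rw [← conj_mul, hKr, hKt]))
  -- the image of the third involution
  set x := Q * c * Q⁻¹ with hx
  have hxU : L.IsU x := L.isU_conj hUc Q
  have hxr : Commute x L.r := hQr ▸ cj Q c L.r hrc.symm
  have hxu : Commute x L.u := hQu ▸ cj Q c L.u huc.symm
  have hxt : Commute x L.t := by
    have h := cj Q c (L.r * L.t) (hrc.symm.mul_right hct)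
    have e' : Q * (L.r * L.t) * Q⁻¹ = L.t := by
      rw [← hQt, hQi, show Q * (Q * L.t * Q) * Q = (Q * Q) * L.t * (Q * Q) by group, hQQ, one_mul, mul_one]
    rwa [e'] at h
  have hne_c : x = c := by
    have hne : ∀ y : G, Q * y * Q⁻¹ = y → x = y → c = y := fun y hy h =>
      mul_left_cancel (mul_right_cancel (h.trans hy.symm))
    have himg : ∀ {y : G} (hy : Commute y L.t), c = y → C0 = e ⟨y, mC hy⟩ := fun hy h =>
      hec.symm.trans (hrel h)
    have hnc : ∀ (y : C), e y = 1 → (y : G) = 1 ∨ (y : G) = L.t := fun y h => (hk y).1 h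
    rcases hcl (e ⟨x, mC hxt⟩) (by rw [← map_mul, ← map_mul]; exact hrel hxr.eq)
      (by rw [← map_mul, ← map_mul]; exact hrel hxu.eq) with h | h | h | h | h | h | h | h
    · exfalso
      rcases hnc _ h with e' | e'
      · obtain ⟨d, hd⟩ := hxU
        exact absurd (L.f_inj ((conj_eq_one_iff.1 (hd.trans e')).trans L.f.map_one.symm)) (by decide +kernel)
      · exact L.not_isT_of_isU hxU ⟨1, by rw [show x = L.t from e']; group⟩
    · exfalso
      rcases heq h.symm with e' | e'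
      · exact hC1 (himg (cC rC) (hne _ hQr e'))
      · exact L.not_isT_of_isU hxU ((show x = L.r * L.t from e').symm ▸ L.isT_rt hB)
    · exfalso
      rcases heq h.symm with e' | e'
      · exact hC2 (himg (cC uC) (hne _ hQu e'))
      · exact L.not_isT_of_isU hxU ((show x = L.u * L.t from e').symm ▸ L.isT_ut)
    · exfalso
      rw [← map_mul] at h
      rcases heq h.symm with e' | e'
      · have h1 : c = L.r * L.u := hne _ (by rw [← conj_mul, hQr, hQu]) e'
        exact hC3 (by rw [himg (cC (rC * uC)) h1, ← map_mul])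
      · exact L.not_isT_of_isU hxU ((show x = L.r * L.u * L.t from e').symm ▸ L.isT_rut hB)
    · rw [← hec] at h
      rcases heq h.symm with e' | e'
      · exact e'
      · exact (L.not_isT_of_isU hxU ((show x = c * L.t from e').symm ▸ hTct)).elim
    · exfalso
      rw [← hec, ← map_mul] at h
      have hT : L.IsT (L.r * c * L.t) := by
        have h2 := L.isT_conj (L.isT_rut hB) (K : G)
        rwa [← conj_mul, ← conj_mul, hKr, hKt] at h2
      rcases heq h.symm with e' | e'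
      · -- the product of the conjugating elements
        have hQ'Q : Q' * Q * L.t * (Q' * Q)⁻¹ = L.t := comp hQt (by
          rw [← conj_mul, hQ'r, hQ't, ← mul_assoc, L.sq_of_isU hUr, one_mul])
        have hQ'Qu : Q' * Q * L.u * (Q' * Q)⁻¹ = L.r * L.u := comp hQu
          (comp (inv' hKc) (comp (show Q * c * Q⁻¹ = L.r * c from e') (by rw [← conj_mul, hKr, hKc])))
        refine (hcj (e ⟨Q' * Q, mC (mul_inv_eq_iff_eq_mul.1 hQ'Q)⟩)).1 ?_
        rw [← map_mul, ← map_mul, ← map_mul]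
        exact hrel (mul_inv_eq_iff_eq_mul.1 hQ'Qu)
      · exact L.not_isT_of_isU hxU ((show x = L.r * c * L.t from e').symm ▸ hT)
    · exfalso
      rw [← hec, ← map_mul] at h
      have hT : L.IsT (L.u * c * L.t) := by
        have h1 : L.IsT (L.r * c * L.t) := by
          have h2 := L.isT_conj (L.isT_rut hB) (K : G)
          rwa [← conj_mul, ← conj_mul, hKr, hKt] at h2
        have h2 := L.isT_conj h1 (K' : G)
        rwa [show (K' : G) * (L.r * c * L.t) * (K' : G)⁻¹ = (K' : G) * L.r * (K' : G)⁻¹ * ((K' : G) * c * (K' : G)⁻¹) *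
          ((K' : G) * L.t * (K' : G)⁻¹) by group, hK'r, hK'c, hK't] at h2
      rcases heq h.symm with e' | e'
      · have hQ'Q : Q' * Q * L.t * (Q' * Q)⁻¹ = L.t := comp hQt (by
          rw [← conj_mul, hQ'r, hQ't, ← mul_assoc, L.sq_of_isU hUr, one_mul])
        have hQ'Qu : Q' * Q * L.u * (Q' * Q)⁻¹ = c * L.u := comp hQu
          (comp (inv' hKc) (comp (show Q * c * Q⁻¹ = L.u * c from e') (by rw [← conj_mul, ← hc, hKc])))
        refine (hcj (e ⟨Q' * Q, mC (mul_inv_eq_iff_eq_mul.1 hQ'Q)⟩)).2 ?_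
        rw [← hec, ← map_mul, ← map_mul, ← map_mul]
        exact hrel (mul_inv_eq_iff_eq_mul.1 hQ'Qu)
      · exact L.not_isT_of_isU hxU ((show x = L.u * c * L.t from e').symm ▸ hT)
    · exfalso
      rw [← hec, ← map_mul, ← map_mul] at h
      rcases heq h.symm with e' | e'
      · exact hnU x ((show x = X from e').symm ▸ hXq) hxU
      · exact hnU x ((show x = X * L.t from e').symm ▸ hXq.mul_left hq3t.symm) hxU
  -- translations
  have hQc : Q * c * Q⁻¹ = c := hne_c
  set Q1 := (K' : G) * Q * (K' : G)⁻¹ with hQ1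
  have hQ1u : Q1 * L.u * Q1⁻¹ = L.u := comp (inv' hK'r) (comp hQr hK'r)
  have hQ1r : Q1 * L.r * Q1⁻¹ = L.r := comp (inv' hK'u) (comp hQu hK'u)
  have hQ1c : Q1 * c * Q1⁻¹ = c := comp (inv' hK'c) (comp hQc hK'c)
  have hQ1t : Q1 * L.t * Q1⁻¹ = L.u * L.t := comp (inv' hK't) (comp hQt (by rw [← conj_mul, hK'r, hK't]))
  set Q2 := (K : G) * Q1 * (K : G)⁻¹ with hQ2
  have hQ2t : Q2 * L.t * Q2⁻¹ = c * L.t := comp (inv' hKt) (comp hQ1t (by rw [← conj_mul, ← hc, hKt]))
  have hfin : L.IsT (X * L.t) := ⟨Q * (Q1 * Q2), comp (comp hQ2t (show Q1 * (c * L.t) * Q1⁻¹ = c * (L.u * L.t) by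
      rw [← conj_mul, hQ1c, hQ1t]))
    (show Q * (c * (L.u * L.t)) * Q⁻¹ = X * L.t by
      rw [show Q * (c * (L.u * L.t)) * Q⁻¹ = Q * c * Q⁻¹ * (Q * L.u * Q⁻¹ * (Q * L.t * Q⁻¹)) by group, hQc, hQu, hQt,
        hX, ← mul_assoc, ← mul_assoc]
      congr 1
      rw [(hrc.symm.mul_left hru.symm).eq, ← huc.eq, mul_assoc])⟩
  set y := (K3 : G)⁻¹ * (X * L.t) * (K3 : G) with hy
  obtain ⟨d, hd⟩ := L.isT_conj hfin (K3 : G)⁻¹
  rw [inv_inv, ← hy] at hd
  refine L.not_conj_t_of_comm_zw (x := y) ?_ ?_ (hback (hXq.mul_left hq3t.symm)) d hd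
  · rw [← hd, conj_mul, L.t_sq]; group
  · intro h
    have hX1 : X = 1 := by
      have : X * L.t = L.t := by
        rw [show X * L.t = (K3 : G) * y * (K3 : G)⁻¹ by rw [hy]; group, h, (cC K3).eq, mul_inv_cancel_right]
      exact mul_eq_right.1 this
    have h1 : e (rC * uC * ⟨c, mC hct⟩) = 1 := by
      rw [hrel (a := rC * uC * ⟨c, mC hct⟩) (b := 1) hX1, map_one]
    rw [map_mul, map_mul, hec] at h1
    have hCC : C0 * C0 = 1 := by
      rw [← hec, ← map_mul, hrel (a := (⟨c, mC hct⟩ : C) * ⟨c, mC hct⟩) (b := 1) (L.sq_of_isU hUc), map_one]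
    exact hC3 (by rw [mul_eq_one_iff_eq_inv] at h1; rw [h1, inv_eq_of_mul_eq_one_right hCC])

end Loc

end Cfsg.Lib.SymEightLocal
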