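import Cfsg.Agent.LocalThree.SymEightLocal.Quot
import Cfsg.Agent.InvolCalc.Classes

/-!
Weak closure of the group of order sixteen and the fusion inside it.
-/

set_option autoImplicit false
set_option synthInstance.maxSize 4096
set_option maxRecDepth 100000
set_option maxHeartbeats 1000000

namespace Cfsg.Lib.SymEightLocal

open Equiv Subgroup Cfsg.Lib.AltEightLocal

universe u

theorem fixed_facts : (∀ a ∈ vset, bA * a * bA⁻¹ = a → a = 1 ∨ a = p1) ∧
    (∀ v ∈ vset, v ≠ 1 → ∃ s : Perm (Fin 5), s * bB * s⁻¹ = v) ∧ p1 ≠ 1 := by decide +kernel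

namespace Crossed

variable {G : Type u} [Group G] [Finite G] (B : Crossed G)

/-- An element of one of the two factors. -/
def Axial (x : G) : Prop := ∃ v ∈ V, x = B.φ (v, 1) ∨ x = B.φ (1, v)

theorem D_φ {d : G} (hd : d ∈ B.D) :
    ∃ c c' : A5, (∀ v ∈ V, c * v * c⁻¹ ∈ V ∧ c' * v * c'⁻¹ ∈ V) ∧ d = B.φ (c, c') := by
  obtain ⟨t, ht, rfl⟩ := B.toLoc.of_mem_D hd
  obtain ⟨i, j, rfl⟩ := torus_decomp (mem_torusGrp.2 ht)
  set c : A5 := ⟨c5, c5_mem⟩
  have key : ∀ n : ℕ, ∀ v ∈ V, c ^ n * v * (c ^ n)⁻¹ ∈ V := by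
    intro n
    induction n with
    | zero => intro v hv; simpa using hv
    | succ n ih =>
      intro v hv
      rw [pow_succ, show c ^ n * c * v * (c ^ n * c)⁻¹ = c ^ n * (c * v * c⁻¹) * (c ^ n)⁻¹ by group]
      exact ih _ (V_conj hv)
  refine ⟨c ^ j, c ^ i, fun v hv => ⟨key j v hv, key i v hv⟩, ?_⟩
  rw [map_mul, map_pow, map_pow, show B.f zP = B.toLoc.z from rfl, show B.f wP = B.toLoc.w from rfl, B.z_eq, B.w_eq,
    ← map_pow, ← map_pow, ← map_mul]
  exact congrArg B.φ (Prod.ext (by simp [c]) (by simp [c]))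

theorem exchange {m : G} {d : G} (hd : d ∈ B.D) (hm : m = B.inv₂ * d ∨ m = B.inv₂ * B.tau * d) :
    (∀ a ∈ V, ∃ a' ∈ V, m * B.φ (a, 1) * m⁻¹ = B.φ (1, a')) ∧
      (∀ b ∈ V, ∃ b' ∈ V, m * B.φ (1, b) * m⁻¹ = B.φ (b', 1)) := by
  obtain ⟨c, c', hc, hde⟩ := B.D_φ hd
  have hd' : ∀ a b : A5, d * B.φ (a, b) * d⁻¹ = B.φ (c * a * c⁻¹, c' * b * c'⁻¹) := fun a b => by
    rw [hde, ← map_inv, ← map_mul, ← map_mul]; rfl
  have hs : ∀ a ∈ V, sconj a ∈ V := fun a ha => vset_grp.2.2.2.2.2.1 _ ha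
  have hs1 : sconj (1 : A5) = 1 := Subtype.ext (by show bA * 1 * bA⁻¹ = 1; group)
  have hc1 : ∀ c : A5, c * 1 * c⁻¹ = 1 := fun c => by group
  constructor
  · intro a ha
    rcases hm with rfl | rfl
    · obtain ⟨a', ha', e⟩ := B.inv₂_left _ (hc a ha).1
      exact ⟨a', ha', by rw [← e, show B.inv₂ * d * B.φ (a, 1) * (B.inv₂ * d)⁻¹
        = B.inv₂ * (d * B.φ (a, 1) * d⁻¹) * B.inv₂⁻¹ by group, hd', hc1]⟩
    · obtain ⟨a', ha', e⟩ := B.inv₂_left _ (hs _ (hc a ha).1)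
      exact ⟨a', ha', by rw [← e, show B.inv₂ * B.tau * d * B.φ (a, 1) * (B.inv₂ * B.tau * d)⁻¹
        = B.inv₂ * (B.tau * (d * B.φ (a, 1) * d⁻¹) * B.tau⁻¹) * B.inv₂⁻¹ by group, hd', hc1, B.tau_φ, hs1]⟩
  · intro b hb
    rcases hm with rfl | rfl
    · obtain ⟨b', hb', e⟩ := B.inv₂_right _ (hc b hb).2
      exact ⟨b', hb', by rw [← e, show B.inv₂ * d * B.φ (1, b) * (B.inv₂ * d)⁻¹
        = B.inv₂ * (d * B.φ (1, b) * d⁻¹) * B.inv₂⁻¹ by group, hd', hc1]⟩
    · obtain ⟨b', hb', e⟩ := B.inv₂_right _ (hs _ (hc b hb).2)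
      exact ⟨b', hb', by rw [← e, show B.inv₂ * B.tau * d * B.φ (1, b) * (B.inv₂ * B.tau * d)⁻¹
        = B.inv₂ * (B.tau * (d * B.φ (1, b) * d⁻¹) * B.tau⁻¹) * B.inv₂⁻¹ by group, hd', hc1, B.tau_φ, hs1]⟩

theorem axial_M {m x : G} (hm : m ∈ B.M) (hx : B.Axial x) : B.Axial (m * x * m⁻¹) := by
  obtain ⟨v, hv, hx'⟩ := hx
  obtain ⟨d, hd, h⟩ := B.M_cases hm
  obtain ⟨c, c', hc, hde⟩ := B.D_φ hd
  have hd' : ∀ a b : A5, d * B.φ (a, b) * d⁻¹ = B.φ (c * a * c⁻¹, c' * b * c'⁻¹) := fun a b => by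
    rw [hde, ← map_inv, ← map_mul, ← map_mul]; rfl
  have hs1 : sconj (1 : A5) = 1 := Subtype.ext (by show bA * 1 * bA⁻¹ = 1; group)
  rcases h with e | e | e | e
  · rcases hx' with rfl | rfl <;> rw [e, hd']
    · exact ⟨_, (hc v hv).1, Or.inl (by group)⟩
    · exact ⟨_, (hc v hv).2, Or.inr (by group)⟩
  · rcases hx' with rfl | rfl <;>
      rw [e, show ∀ y, B.tau * d * y * (B.tau * d)⁻¹ = B.tau * (d * y * d⁻¹) * B.tau⁻¹ from fun y => by group, hd',
        B.tau_φ]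
    · exact ⟨_, vset_grp.2.2.2.2.2.1 _ (hc v hv).1, Or.inl (by
        show B.φ (sconj (c * v * c⁻¹), sconj (c' * 1 * c'⁻¹)) = B.φ (sconj (c * v * c⁻¹), 1)
        rw [show c' * 1 * c'⁻¹ = 1 by group, hs1])⟩
    · exact ⟨_, vset_grp.2.2.2.2.2.1 _ (hc v hv).2, Or.inr (by
        show B.φ (sconj (c * 1 * c⁻¹), sconj (c' * v * c'⁻¹)) = B.φ (1, sconj (c' * v * c'⁻¹))
        rw [show c * 1 * c⁻¹ = 1 by group, hs1])⟩
  all_goals
    obtain ⟨h1, h2⟩ := B.exchange hd (show m = B.inv₂ * d ∨ m = B.inv₂ * B.tau * d by tauto)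
    rcases hx' with rfl | rfl
    · obtain ⟨v', hv', ev⟩ := h1 v hv
      exact ⟨v', hv', Or.inr ev⟩
    · obtain ⟨v', hv', ev⟩ := h2 v hv
      exact ⟨v', hv', Or.inl ev⟩

theorem M_inf_A {x : G} (hx : x ∈ B.A) (hm : x ∈ B.M) : x = 1 := B.A_inf_ND hx hm.2

theorem card_M : Nat.card B.M = 36 := by
  let r : Fin 4 → G := ![1, B.tau, B.inv₂, B.inv₂ * B.tau]
  have hr : ∀ k, r k ∈ B.M := by
    intro k; fin_cases k
    exacts [one_mem _, B.tau_M, B.inv₂_M, mul_mem B.inv₂_M B.tau_M]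
  let ψ : Fin 4 × B.D → B.M := fun p => ⟨r p.1 * p.2, mul_mem (hr p.1) (B.D_M p.2.2)⟩
  have e3 : B.inv₂ * B.tau * B.toLoc.z * (B.inv₂ * B.tau)⁻¹ = B.toLoc.w⁻¹ := by
    rw [show B.inv₂ * B.tau * B.toLoc.z * (B.inv₂ * B.tau)⁻¹ = B.inv₂ * (B.tau * B.toLoc.z * B.tau⁻¹) * B.inv₂⁻¹ by
      group, B.tau_z, ← conj_inv, B.inv₂_z]
  have e0 : (1 : G) * B.toLoc.z * 1⁻¹ = B.toLoc.z := by group
  have hψ : Function.Bijective ψ := by
    refine ⟨fun ⟨k, d⟩ ⟨l, d'⟩ h => ?_, fun m => ?_⟩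
    · have h' : r k * (d : G) = r l * (d' : G) := congrArg Subtype.val h
      have hact : r k * B.toLoc.z * (r k)⁻¹ = r l * B.toLoc.z * (r l)⁻¹ := by
        have := congrArg (fun y => y * B.toLoc.z * y⁻¹) h'
        try simp only at this
        rwa [show r k * (d : G) * B.toLoc.z * (r k * (d : G))⁻¹ = r k * ((d : G) * B.toLoc.z * (d : G)⁻¹) * (r k)⁻¹ by
            group,
          show r l * (d' : G) * B.toLoc.z * (r l * (d' : G))⁻¹ = r l * ((d' : G) * B.toLoc.z * (d' : G)⁻¹) * (r l)⁻¹ by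
            group, B.D_conj d.2 B.toLoc.z_mem, B.D_conj d'.2 B.toLoc.z_mem] at this
      have hkl : k = l := by
        fin_cases k <;> fin_cases l <;> first
          | rfl
          | (exfalso
             simp only [r, Matrix.cons_val, Fin.zero_eta, Fin.mk_one, Fin.reduceFinMk, Matrix.cons_val_zero,
               Matrix.cons_val_one] at hact
             simp only [e0, e3, B.tau_z, B.inv₂_z] at hact
             simp only [Loc.z, Loc.w, ← map_inv] at hact
             exact absurd (B.f_inj hact) (by decide +kernel))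
      subst hkl
      exact Prod.ext rfl (Subtype.ext (mul_left_cancel h'))
    · obtain ⟨d, hd, h⟩ := B.M_cases m.2
      rcases h with e | e | e | e
      · exact ⟨(0, ⟨d, hd⟩), Subtype.ext (by show 1 * d = _; rw [one_mul, e])⟩
      · exact ⟨(1, ⟨d, hd⟩), Subtype.ext e.symm⟩
      · exact ⟨(2, ⟨d, hd⟩), Subtype.ext e.symm⟩
      · exact ⟨(3, ⟨d, hd⟩), Subtype.ext e.symm⟩
  rw [← Nat.card_congr (Equiv.ofBijective ψ hψ), Nat.card_prod, Nat.card_fin, B.toLoc.card_D]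

theorem M_part_unique {a a' m m' : G} (ha : a ∈ B.A) (ha' : a' ∈ B.A) (hm : m ∈ B.M) (hm' : m' ∈ B.M)
    (h : a * m = a' * m') : a = a' ∧ m = m' := by
  have e : a'⁻¹ * a = m' * m⁻¹ := by
    calc a'⁻¹ * a = a'⁻¹ * (a * m) * m⁻¹ := by group
      _ = _ := by rw [h]; group
  have h1 := B.M_inf_A (x := a'⁻¹ * a) (mul_mem (inv_mem ha') ha) (by rw [e]; exact mul_mem hm' (inv_mem hm))
  rw [inv_mul_eq_one] at h1
  subst h1
  exact ⟨rfl, mul_left_cancel h⟩

theorem card_NA : Nat.card (normalizer (B.A : Set G)) = 576 := by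
  let ψ : B.A × B.M → normalizer (B.A : Set G) := fun p => ⟨p.1 * p.2, mul_mem (le_normalizer p.1.2) p.2.2.1⟩
  have hψ : Function.Bijective ψ := by
    refine ⟨fun p p' h => ?_, fun x => ?_⟩
    · obtain ⟨h1, h2⟩ := B.M_part_unique p.1.2 p'.1.2 p.2.2 p'.2.2 (congrArg Subtype.val h)
      exact Prod.ext (Subtype.ext h1) (Subtype.ext h2)
    · obtain ⟨a, ha, hax⟩ := B.NA_decomp x.2
      exact ⟨(⟨a⁻¹, inv_mem ha⟩, ⟨_, hax⟩), Subtype.ext (by show a⁻¹ * (a * x) = _; group)⟩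
  rw [← Nat.card_congr (Equiv.ofBijective ψ hψ), Nat.card_prod, B.card_A, B.card_M]

/-- The part in the common normaliser. -/
noncomputable def mp (x : normalizer (B.A : Set G)) : G := (B.NA_decomp x.2).choose * x

theorem mp_mem (x : normalizer (B.A : Set G)) : B.mp x ∈ B.M := (B.NA_decomp x.2).choose_spec.2

theorem mp_spec (x : normalizer (B.A : Set G)) : ∃ a ∈ B.A, (x : G) = a * B.mp x :=
  ⟨(B.NA_decomp x.2).choose⁻¹, inv_mem (B.NA_decomp x.2).choose_spec.1, by rw [mp]; group⟩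

theorem mp_eq {x : normalizer (B.A : Set G)} {a m : G} (ha : a ∈ B.A) (hm : m ∈ B.M) (h : (x : G) = a * m) :
    B.mp x = m := by
  obtain ⟨a', ha', e⟩ := B.mp_spec x
  exact (B.M_part_unique ha' ha (B.mp_mem x) hm (e.symm.trans h)).2

theorem mp_mul (x y : normalizer (B.A : Set G)) : B.mp (x * y) = B.mp x * B.mp y := by
  obtain ⟨a, ha, ex⟩ := B.mp_spec x
  obtain ⟨b, hb, ey⟩ := B.mp_spec y
  refine B.mp_eq (mul_mem ha ((mem_normalizer_iff.1 (B.mp_mem x).1 b).1 hb)) (mul_mem (B.mp_mem x) (B.mp_mem y)) ?_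
  rw [coe_mul, ex, ey]; group

theorem mp_one_iff (x : normalizer (B.A : Set G)) : B.mp x = 1 ↔ (x : G) ∈ B.A := by
  refine ⟨fun h => ?_, fun h => B.mp_eq h (one_mem _) (mul_one _).symm⟩
  obtain ⟨a, ha, e⟩ := B.mp_spec x
  rw [e, h, mul_one]; exact ha

/-- Points of the first factor fixed by an inverting involution. -/
theorem fixed_tau {m : G} {d : G} (hd : d ∈ B.D) (hm : m = B.tau * d) :
    ∃ P P' : A5, ∀ a ∈ V, ∀ b ∈ V, Commute (B.φ (a, b)) m → (a = 1 ∨ a = P) ∧ (b = 1 ∨ b = P') := by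
  obtain ⟨c, c', hc, hde⟩ := B.D_φ hd
  have hp1 : p1 ∈ A5 := Perm.mem_alternatingGroup.2 (vset_grp.2.2.1 _ v_facts.2.2.2.2.1)
  refine ⟨c * ⟨p1, hp1⟩ * c⁻¹, c' * ⟨p1, hp1⟩ * c'⁻¹, fun a ha b hb h => ?_⟩
  have hm' : m = d * B.tau * d⁻¹ := by
    have hti : B.tau * d * B.tau⁻¹ = d⁻¹ := by
      obtain ⟨q, hq, rfl⟩ := B.toLoc.of_mem_D hd
      rw [tau, ← map_inv, ← map_mul, ← map_mul, ← map_inv]
      exact congrArg B.f (by
        have : ∀ t ∈ torusP, tauP * t * tauP⁻¹ = t⁻¹ := by decide +kernel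
        exact this q hq)
    have h3 : d * d * d = 1 := by rw [← pow_two, ← pow_succ]; exact B.toLoc.D_exp hd
    calc m = B.tau * d := hm
      _ = B.tau * (d⁻¹ * d⁻¹) := by
        rw [show d⁻¹ * d⁻¹ = (d * d * d)⁻¹ * d by group, h3, inv_one, one_mul]
      _ = B.tau * d⁻¹ * B.tau⁻¹ * B.tau * d⁻¹ := by group
      _ = _ := by rw [← conj_inv, hti, inv_inv]
  have hfix : d * (B.tau * (d⁻¹ * B.φ (a, b) * d) * B.tau⁻¹) * d⁻¹ = B.φ (a, b) := by
    rw [show d * (B.tau * (d⁻¹ * B.φ (a, b) * d) * B.tau⁻¹) * d⁻¹ = d * B.tau * d⁻¹ * B.φ (a, b) * (d * B.tau * d⁻¹)⁻¹ by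
      group, ← hm', h.symm.eq, mul_inv_cancel_right]
  rw [show d⁻¹ * B.φ (a, b) * d = B.φ (c⁻¹ * a * c, c'⁻¹ * b * c') by
      rw [hde, ← map_inv, ← map_mul, ← map_mul]; rfl, B.tau_φ, hde, ← map_inv, ← map_mul, ← map_mul] at hfix
  have e := B.φ_inj hfix
  have key : ∀ (c a : A5), a ∈ V → (∀ v ∈ V, c * v * c⁻¹ ∈ V) → c * sconj (c⁻¹ * a * c) * c⁻¹ = a →
      a = 1 ∨ a = c * ⟨p1, hp1⟩ * c⁻¹ := by
    intro c a ha hc h
    have hV : c⁻¹ * a * c ∈ V := by
      have : V.map (MulAut.conj c).toMonoidHom = V := eq_of_le_of_card_ge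
        (by rintro _ ⟨v, hv, rfl⟩; exact hc v hv) (card_map_of_injective (MulAut.conj c).injective).ge
      obtain ⟨v, hv, e⟩ := (this.symm ▸ ha : a ∈ V.map (MulAut.conj c).toMonoidHom)
      rw [← e]
      show c⁻¹ * (c * v * c⁻¹) * c ∈ V
      rwa [show c⁻¹ * (c * v * c⁻¹) * c = v by group]
    have hs : sconj (c⁻¹ * a * c) = c⁻¹ * a * c := by
      rw [show sconj (c⁻¹ * a * c) = c⁻¹ * (c * sconj (c⁻¹ * a * c) * c⁻¹) * c by group, h]
    rcases fixed_facts.1 _ hV (congrArg Subtype.val hs) with e | e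
    · refine Or.inl ?_
      have e' : c⁻¹ * a * c = 1 := Subtype.ext e
      rw [show a = c * (c⁻¹ * a * c) * c⁻¹ by group, e']; group
    · refine Or.inr ?_
      have e' : c⁻¹ * a * c = ⟨p1, hp1⟩ := Subtype.ext e
      rw [← e']; group
  exact ⟨key c a ha (fun v hv => (hc v hv).1) (congrArg Prod.fst e),
    key c' b hb (fun v hv => (hc v hv).2) (congrArg Prod.snd e)⟩

/-- Points fixed by an exchanging element. -/
theorem fixed_swap {m : G} {d : G} (hd : d ∈ B.D) (hm : m = B.inv₂ * d ∨ m = B.inv₂ * B.tau * d) {a b a' b' : A5}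
    (ha : a ∈ V) (hb : b ∈ V) (ha' : a' ∈ V) (hb' : b' ∈ V) (h : Commute (B.φ (a, b)) m)
    (h' : Commute (B.φ (a', b')) m) (e : a = a') : b = b' := by
  obtain ⟨h1, h2⟩ := B.exchange hd hm
  have key : ∀ {a b : A5}, a ∈ V → b ∈ V → Commute (B.φ (a, b)) m → B.φ (1, b) = m * B.φ (a, 1) * m⁻¹ := by
    intro a b ha hb h
    obtain ⟨x, -, ex⟩ := h1 a ha
    obtain ⟨y, -, ey⟩ := h2 b hb
    have hfix : m * B.φ (a, b) * m⁻¹ = B.φ (a, b) := by rw [h.symm.eq, mul_inv_cancel_right]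
    rw [show ((a, b) : A5 × A5) = (a, 1) * (1, b) by simp, map_mul, ← conj_mul, ex, ey, ← map_mul, ← map_mul] at hfix
    have hb2 : x = b := by simpa using congrArg Prod.snd (B.φ_inj hfix)
    rw [ex, hb2]
  subst e
  have := (key ha hb h).trans (key ha' hb' h').symm
  exact congrArg Prod.snd (B.φ_inj this)

/-- The only elementary group of order sixteen in the normaliser. -/
theorem unique_E16 {R : Subgroup G} (hR : R ≤ normalizer (B.A : Set G)) (hc : Nat.card R = 16)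
    (hsq : ∀ x ∈ R, x * x = 1) : R = B.A := by
  classical
  let ψ : R →* G :=
    { toFun := fun x => B.mp ⟨x, hR x.2⟩
      map_one' := (B.mp_one_iff _).2 (one_mem _)
      map_mul' := fun x y => B.mp_mul ⟨x, hR x.2⟩ ⟨y, hR y.2⟩ }
  have hψM : ψ.range ≤ B.M := by rintro _ ⟨x, rfl⟩; exact B.mp_mem _
  have h2 : ∀ m ∈ ψ.range, m * m = 1 := by
    rintro _ ⟨x, rfl⟩
    rw [← map_mul, show x * x = 1 from Subtype.ext (hsq x x.2), map_one]
  have hr4 : Nat.card ψ.range ∣ 4 := by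
    have e1 : Nat.card ψ.range ∣ 36 := B.card_M ▸ card_dvd_of_le hψM
    have e2 : Nat.card ψ.range ∣ 16 := hc ▸ card_range_dvd ψ
    exact (Nat.dvd_gcd e1 e2).trans (by norm_num)
  have hker : (ψ.ker.map R.subtype : Set G) ⊆ B.A := by
    rintro _ ⟨x, hx, rfl⟩
    exact (B.mp_one_iff _).1 hx
  have hprod := ψ.ker.card_mul_index
  rw [index_ker, hc] at hprod
  have hcomm : ∀ (x y : R), Commute (x : G) y := fun x y => by
    have h := hsq _ (mul_mem x.2 y.2)
    show (x : G) * y = y * x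
    calc (x : G) * y = (x : G) * ((x : G) * y * ((x : G) * y)) * y := by rw [h, mul_one]
      _ = ((x : G) * x) * ((y : G) * x) * ((y : G) * y) := by group
      _ = _ := by rw [hsq _ x.2, hsq _ y.2, one_mul, mul_one]
  have hfix : ∀ m ∈ ψ.range, ∀ x ∈ ψ.ker, Commute ((x : R) : G) m := by
    rintro _ ⟨y, rfl⟩ x hx
    obtain ⟨a, ha, e⟩ := B.mp_spec ⟨y, hR y.2⟩
    show Commute _ (B.mp ⟨y, hR y.2⟩)
    rw [show B.mp ⟨y, hR y.2⟩ = a⁻¹ * (y : G) from
      calc B.mp ⟨y, hR y.2⟩ = a⁻¹ * (a * B.mp ⟨y, hR y.2⟩) := by group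
        _ = a⁻¹ * (y : G) := congrArg (fun g => a⁻¹ * g) e.symm]
    exact (B.A_comm ((B.mp_one_iff _).1 hx) ha).inv_right.mul_right (hcomm x y)
  by_cases hbot : ψ.range = ⊥
  · refine eq_of_le_of_card_ge (fun x hx => ?_) (by rw [B.card_A, hc])
    exact (B.mp_one_iff _).1 (mem_bot.1 (hbot.le ⟨⟨x, hx⟩, rfl⟩))
  exfalso
  have hne : ∀ m ∈ ψ.range, m ≠ 1 → m ∉ B.D := fun m hm h1 hD => by
    have h3 := B.toLoc.D_exp hD
    rw [pow_succ, pow_two, h2 m hm, one_mul] at h3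
    exact h1 h3
  have hclass : ∀ m ∈ ψ.range, m ≠ 1 →
      (∃ d ∈ B.D, m = B.tau * d) ∨ ∃ d ∈ B.D, m = B.inv₂ * d ∨ m = B.inv₂ * B.tau * d := by
    intro m hm h1
    obtain ⟨d, hd, h⟩ := B.M_cases (hψM hm)
    rcases h with e | e | e | e
    · exact absurd (e ▸ hd) (hne m hm h1)
    · exact Or.inl ⟨d, hd, e⟩
    · exact Or.inr ⟨d, hd, Or.inl e⟩
    · exact Or.inr ⟨d, hd, Or.inr e⟩
  -- coordinates of the kernel
  have hcoord : ∀ x : ψ.ker, ∃ p : V × V, B.φ ((p.1 : A5), (p.2 : A5)) = ((x : R) : G) := fun x => by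
    obtain ⟨a, ha, b, hb, e⟩ := B.mem_A.1 ((B.mp_one_iff _).1 x.2)
    exact ⟨(⟨a, ha⟩, ⟨b, hb⟩), e⟩
  choose co hco using hcoord
  have hco_inj : Function.Injective co := fun x y h => by
    have := (hco x).symm.trans (((congrArg (fun p : V × V => B.φ ((p.1 : A5), (p.2 : A5))) h)).trans (hco y))
    exact Subtype.ext (Subtype.ext this)
  have hco_comm : ∀ m ∈ ψ.range, ∀ x : ψ.ker, Commute (B.φ ((co x).1.1, (co x).2.1)) m := fun m hm x => by
    rw [hco x]; exact hfix m hm _ x.2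
  -- each nontrivial element fixes at most four points
  have hfour : ∀ m ∈ ψ.range, m ≠ 1 → Nat.card ψ.ker ≤ 4 := by
    intro m hm h1
    rcases hclass m hm h1 with ⟨d, hd, e⟩ | ⟨d, hd, e⟩
    · obtain ⟨P, P', hP⟩ := B.fixed_tau hd e
      let θ : ψ.ker → Bool × Bool := fun x => (decide ((co x).1.1 = 1), decide ((co x).2.1 = 1))
      have hθ : Function.Injective θ := fun x y h => by
        simp only [θ, Prod.mk.injEq, decide_eq_decide] at h
        obtain ⟨h1', h2'⟩ := h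
        obtain ⟨x1, x2⟩ := hP _ (co x).1.2 _ (co x).2.2 (hco_comm m hm x)
        obtain ⟨y1, y2⟩ := hP _ (co y).1.2 _ (co y).2.2 (hco_comm m hm y)
        refine hco_inj (Prod.ext (Subtype.ext ?_) (Subtype.ext ?_))
        · by_cases hh : (co x).1.1 = 1
          · rw [hh, h1'.1 hh]
          · rw [x1.resolve_left hh, y1.resolve_left (fun k => hh (h1'.2 k))]
        · by_cases hh : (co x).2.1 = 1
          · rw [hh, h2'.1 hh]
          · rw [x2.resolve_left hh, y2.resolve_left (fun k => hh (h2'.2 k))]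
      refine (Nat.card_le_card_of_injective θ hθ).trans ?_
      simp
    · refine le_trans (Nat.card_le_card_of_injective (fun x : ψ.ker => (co x).1) fun x y h => hco_inj ?_) card_V.le
      exact Prod.ext h (Subtype.ext (B.fixed_swap hd e (co x).1.2 (co x).2.2 (co y).1.2 (co y).2.2 (hco_comm m hm x)
        (hco_comm m hm y) (congrArg Subtype.val h)))
  obtain ⟨m0, hm0, hm01⟩ : ∃ m ∈ ψ.range, m ≠ 1 := by
    by_contra hcon
    push Not at hcon
    exact hbot ((eq_bot_iff_forall _).2 hcon)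
  have hk4 := hfour m0 hm0 hm01
  have hr : Nat.card ψ.range = 4 := by
    rcases (Nat.dvd_prime_pow Nat.prime_two).1 (show Nat.card ψ.range ∣ 2 ^ 2 from hr4) with ⟨k, hk, e⟩
    interval_cases k <;> rw [e] at hprod <;> omega
  have hkc : Nat.card ψ.ker = 4 := by rw [hr] at hprod; omega
  -- two elements with the same type of action coincide
  have hsame : ∀ m ∈ ψ.range, ∀ m' ∈ ψ.range, ∀ d ∈ B.D, m' = m * d → m' = m := by
    intro m hm m' hm' d hd e
    have hq : d ∈ ψ.range := by rw [show d = m⁻¹ * m' by rw [e, inv_mul_cancel_left]]; exact mul_mem (inv_mem hm) hm'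
    have h3 := B.toLoc.D_exp hd
    rw [pow_succ, pow_two, h2 d hq, one_mul] at h3
    rw [e, h3, mul_one]
  have hboth : (∃ m ∈ ψ.range, ∃ d ∈ B.D, m = B.tau * d) ∧
      ∃ m ∈ ψ.range, ∃ d ∈ B.D, m = B.inv₂ * d ∨ m = B.inv₂ * B.tau * d := by
    constructor <;> by_contra hcon <;> push Not at hcon
    · -- three exchanging elements of two kinds
      have : ∀ m : ψ.range, (m : G) = 1 ∨ (∃ d ∈ B.D, (m : G) = B.inv₂ * d) ∨
          ∃ d ∈ B.D, (m : G) = B.inv₂ * B.tau * d := by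
        intro m
        by_cases h1 : (m : G) = 1
        · exact Or.inl h1
        rcases hclass m m.2 h1 with ⟨d, hd, e⟩ | ⟨d, hd, e | e⟩
        · exact absurd e (hcon m m.2 d hd)
        · exact Or.inr (Or.inl ⟨d, hd, e⟩)
        · exact Or.inr (Or.inr ⟨d, hd, e⟩)
      let θ : ψ.range → Fin 3 := fun m =>
        if (m : G) = 1 then 0 else if ∃ d ∈ B.D, (m : G) = B.inv₂ * d then 1 else 2
      have hθ : Function.Injective θ := fun x y h => by
        simp only [θ] at h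
        by_cases a : (x : G) = 1
        · rw [if_pos a] at h
          by_cases a' : (y : G) = 1
          · exact Subtype.ext (a.trans a'.symm)
          · rw [if_neg a'] at h; split_ifs at h <;> exact absurd h (by decide)
        rw [if_neg a] at h
        by_cases a' : (y : G) = 1
        · rw [if_pos a'] at h; split_ifs at h <;> exact absurd h (by decide)
        rw [if_neg a'] at h
        by_cases b : ∃ d ∈ B.D, (x : G) = B.inv₂ * d
        · rw [if_pos b] at h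
          by_cases b' : ∃ d ∈ B.D, (y : G) = B.inv₂ * d
          · obtain ⟨d, hd, ed⟩ := b
            obtain ⟨d', hd', ed'⟩ := b'
            exact Subtype.ext (hsame x x.2 y y.2 (d⁻¹ * d') (mul_mem (inv_mem hd) hd') (by rw [ed, ed']; group)).symm
          · rw [if_neg b'] at h; exact absurd h (by decide)
        rw [if_neg b] at h
        by_cases b' : ∃ d ∈ B.D, (y : G) = B.inv₂ * d
        · rw [if_pos b'] at h; exact absurd h (by decide)
        obtain ⟨d, hd, ed⟩ := ((this x).resolve_left a).resolve_left b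
        obtain ⟨d', hd', ed'⟩ := ((this y).resolve_left a').resolve_left b'
        exact Subtype.ext (hsame x x.2 y y.2 (d⁻¹ * d') (mul_mem (inv_mem hd) hd') (by rw [ed, ed']; group)).symm
      have := Nat.card_le_card_of_injective θ hθ
      rw [hr, Nat.card_fin] at this
      omega
    · have hall : ∀ m : ψ.range, (m : G) ≠ 1 → ∃ d ∈ B.D, (m : G) = B.tau * d := fun m h1 => by
        rcases hclass m m.2 h1 with h | ⟨d, hd, e⟩
        · exact h
        · rcases e with e | e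
          · exact absurd e (hcon m m.2 d hd).1
          · exact absurd e (hcon m m.2 d hd).2
      let θ : ψ.range → Bool := fun m => decide ((m : G) = 1)
      have hθ : Function.Injective θ := fun x y h => by
        simp only [θ, decide_eq_decide] at h
        by_cases hx : (x : G) = 1
        · exact Subtype.ext (hx.trans (h.1 hx).symm)
        · obtain ⟨d, hd, ed⟩ := hall x hx
          obtain ⟨d', hd', ed'⟩ := hall y fun k => hx (h.2 k)
          exact Subtype.ext (hsame x x.2 y y.2 (d⁻¹ * d') (mul_mem (inv_mem hd) hd') (by rw [ed, ed']; group)).symm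
      have := Nat.card_le_card_of_injective θ hθ
      rw [hr, Nat.card_eq_fintype_card, Fintype.card_bool] at this
      omega
  obtain ⟨⟨m1, hm1, d1, hd1, e1⟩, m2, hm2, d2, hd2, e2⟩ := hboth
  obtain ⟨P, P', hP⟩ := B.fixed_tau hd1 e1
  let θ : ψ.ker → Bool := fun x => decide ((co x).1.1 = 1)
  have hθ : Function.Injective θ := fun x y h => by
    simp only [θ, decide_eq_decide] at h
    obtain ⟨x1, -⟩ := hP _ (co x).1.2 _ (co x).2.2 (hco_comm m1 hm1 x)
    obtain ⟨y1, -⟩ := hP _ (co y).1.2 _ (co y).2.2 (hco_comm m1 hm1 y)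
    have e : (co x).1.1 = (co y).1.1 := by
      by_cases hh : (co x).1.1 = 1
      · rw [hh, h.1 hh]
      · rw [x1.resolve_left hh, y1.resolve_left (fun k => hh (h.2 k))]
    exact hco_inj (Prod.ext (Subtype.ext e) (Subtype.ext (B.fixed_swap hd2 e2 (co x).1.2 (co x).2.2 (co y).1.2
      (co y).2.2 (hco_comm m2 hm2 x) (hco_comm m2 hm2 y) e)))
  have := Nat.card_le_card_of_injective θ hθ
  rw [hkc, Nat.card_eq_fintype_card, Fintype.card_bool] at this
  omega

include B in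
/-- The two-part of the order. -/
theorem two_part : 64 ∣ Nat.card G ∧ ¬ 128 ∣ Nat.card G := by
  haveI : Fact (Nat.Prime 2) := ⟨Nat.prime_two⟩
  set N := normalizer (B.A : Set G) with hN
  refine ⟨(show 64 ∣ Nat.card N by rw [hN, B.card_NA]; norm_num).trans (card_subgroup_dvd_card N), fun h => ?_⟩
  have hA2 : IsPGroup 2 (B.A.subgroupOf N) := IsPGroup.iff_card.2 ⟨4, by
    rw [Nat.card_congr (subgroupOfEquivOfLe le_normalizer).toEquiv, B.card_A]; rfl⟩
  obtain ⟨S0, hS0⟩ := hA2.exists_le_sylow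
  set S := (S0 : Subgroup N).map N.subtype with hS
  have hSc : Nat.card S = 2 ^ 6 := by
    rw [hS, card_map_of_injective N.subtype_injective, S0.card_eq_multiplicity, hN, B.card_NA]
    rw [show (576 : ℕ) = 2 ^ 6 * 9 by norm_num, Nat.factorization_mul (by norm_num) (by norm_num),
      Finsupp.add_apply, Nat.prime_two.factorization_pow, Finsupp.single_eq_same,
      Nat.factorization_eq_zero_of_not_dvd (show ¬ 2 ∣ 9 by norm_num), add_zero]
  have hAS : B.A ≤ S := fun a ha => ⟨⟨a, le_normalizer ha⟩, hS0 ha, rfl⟩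
  have hSN : normalizer (S : Set G) ≤ N := by
    intro g hg
    have e : B.A.map (MulAut.conj g).toMonoidHom = B.A := by
      refine B.unique_E16 ?_ (by rw [card_map_of_injective (MulAut.conj g).injective, B.card_A]) ?_
      · rintro _ ⟨a, ha, rfl⟩
        obtain ⟨x, -, hx⟩ := (mem_normalizer_iff.1 hg a).1 (hAS ha)
        show g * a * g⁻¹ ∈ N
        rw [← hx]; exact x.2
      · rintro _ ⟨a, ha, rfl⟩
        rw [← map_mul, B.A_sq ha, map_one]
    exact mem_normalizer_fintype fun a ha => e ▸ mem_map_of_mem (MulAut.conj g).toMonoidHom ha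
  obtain ⟨T, hT, hST⟩ := Sylow.exists_subgroup_card_pow_succ (p := 2) (n := 6) (by norm_num; exact h) hSc
  have hTN : T ≤ normalizer (S : Set G) := by
    have hi : (S.subgroupOf T).index = 2 := by
      have := (S.subgroupOf T).card_mul_index
      rw [Nat.card_congr (subgroupOfEquivOfLe hST).toEquiv, hSc, hT] at this
      omega
    haveI := normal_of_index_eq_two hi
    exact le_normalizer_of_normal_subgroupOf hST
  have := card_dvd_of_le (hTN.trans hSN)
  rw [hT, hN, B.card_NA] at this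
  norm_num at this

/-- The normaliser controls fusion. -/
theorem fusion {a g : G} (ha : a ∈ B.A) (hg : g * a * g⁻¹ ∈ B.A) :
    ∃ h ∈ normalizer (B.A : Set G), h * a * h⁻¹ = g * a * g⁻¹ := by
  haveI : Fact (Nat.Prime 2) := ⟨Nat.prime_two⟩
  obtain ⟨h64, h128⟩ := B.two_part
  set N := normalizer (B.A : Set G) with hN
  have hA2 : IsPGroup 2 (B.A.subgroupOf N) := IsPGroup.iff_card.2 ⟨4, by
    rw [Nat.card_congr (subgroupOfEquivOfLe le_normalizer).toEquiv, B.card_A]; rfl⟩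
  obtain ⟨S0, hS0⟩ := hA2.exists_le_sylow
  obtain ⟨S, hS⟩ := (S0.isPGroup'.map N.subtype).exists_le_sylow
  have hSN : (S : Subgroup G) ≤ N := by
    have e : (S0 : Subgroup N).map N.subtype = S := eq_of_le_of_card_ge hS (by
      obtain ⟨k, hk⟩ := IsPGroup.iff_card.1 S.isPGroup'
      rw [card_map_of_injective N.subtype_injective, hk]
      have hk6 : k ≤ 6 := by
        by_contra h
        exact h128 (((pow_dvd_pow 2 (show 7 ≤ k by omega)).trans hk.symm.dvd).trans (card_subgroup_dvd_card _))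
      refine (Nat.pow_le_pow_right (by norm_num) hk6).trans (Nat.le_of_dvd Nat.card_pos ?_)
      exact S0.pow_dvd_card_of_pow_dvd_card (by rw [hN, B.card_NA]; norm_num))
    exact e ▸ map_subtype_le _
  have hW : Cfsg.IsWeaklyClosed B.A (S : Subgroup G) := ⟨fun x hx => hS ⟨⟨x, le_normalizer hx⟩, hS0 hx, rfl⟩,
    fun c hc => B.unique_E16 (hc.trans hSN) (by rw [card_map_of_injective (MulAut.conj c).injective, B.card_A]) (by
      rintro _ ⟨x, hx, rfl⟩
      rw [← map_mul, B.A_sq hx, map_one])⟩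
  exact Cfsg.Lib.InvolCalc.weaklyClosed_control S hW (by rw [B.cent_A]; exact ha) (by rw [B.cent_A]; exact hg)

theorem axial_conj {x g : G} (hx : B.Axial x) (hg : g * x * g⁻¹ ∈ B.A) : B.Axial (g * x * g⁻¹) := by
  have hxA : x ∈ B.A := by
    obtain ⟨v, hv, rfl | rfl⟩ := hx
    exacts [B.mem_A.2 ⟨v, hv, 1, one_mem V, rfl⟩, B.mem_A.2 ⟨1, one_mem V, v, hv, rfl⟩]
  obtain ⟨h, hh, e⟩ := B.fusion hxA hg
  obtain ⟨a, ha, hm⟩ := B.NA_decomp hh
  rw [← e]
  have hmx : a * h * x * (a * h)⁻¹ = h * x * h⁻¹ := by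
    rw [show a * h * x * (a * h)⁻¹ = a * (h * x * h⁻¹) * a⁻¹ by group,
      (B.A_comm ha ((mem_normalizer_iff.1 hh x).1 hxA)).eq, mul_inv_cancel_right]
  rw [← hmx]
  exact B.axial_M hm hx

theorem isU_axial {x : G} (hx : B.Axial x) (h1 : x ≠ 1) : B.toLoc.IsU x := by
  obtain ⟨v, hv, hx'⟩ := hx
  have hv1 : (v : Perm (Fin 5)) ≠ 1 := fun e => h1 (by
    have : v = 1 := Subtype.ext e
    subst this
    rcases hx' with rfl | rfl <;> exact map_one B.φ)
  obtain ⟨s, hs⟩ := fixed_facts.2.1 _ hv hv1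
  rcases hx' with rfl | rfl
  · refine ⟨B.f (1, s), ?_⟩
    rw [φ_left, Loc.e1_apply]
    exact conj_hom B.f (Prod.ext (by simp) hs)
  · refine ⟨B.toLoc.g (1, s) * B.m, ?_⟩
    rw [φ_right, Loc.e2_apply, show B.toLoc.g (1, s) * B.m * B.toLoc.u * (B.toLoc.g (1, s) * B.m)⁻¹
      = B.toLoc.g (1, s) * B.toLoc.g (1, bB) * (B.toLoc.g (1, s))⁻¹ by rw [B.toLoc.g_apply (1, bB)]; group]
    exact conj_hom B.toLoc.g (Prod.ext (by simp) hs)

theorem axial_of_isU {x : G} (hxA : x ∈ B.A) (hx : B.toLoc.IsU x) : B.Axial x := by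
  obtain ⟨c, rfl⟩ := hx
  have hp : p1 ∈ A5 := Perm.mem_alternatingGroup.2 (vset_grp.2.2.1 _ v_facts.2.2.2.2.1)
  have h1 : B.Axial (B.φ (⟨p1, hp⟩, 1)) := ⟨_, v_facts.2.2.2.2.1, Or.inl rfl⟩
  obtain ⟨d, hd⟩ := B.isU_axial h1 fun e => fixed_facts.2.2 (by
    have := congrArg (fun p : A5 × A5 => (p.1 : Perm (Fin 5))) (B.φ_inj (e.trans (map_one B.φ).symm))
    exact this)
  have e : c * d⁻¹ * B.φ (⟨p1, hp⟩, 1) * (c * d⁻¹)⁻¹ = c * B.toLoc.u * c⁻¹ := by rw [← hd]; group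
  rw [← e] at hxA ⊢
  exact B.axial_conj h1 hxA

/-- The central involution centralises no elementary group of order sixteen. -/
theorem not_isT_A {x : G} (hx : x ∈ B.A) : ¬ B.toLoc.IsT x := by
  rintro ⟨c, hc⟩
  classical
  set L := B.toLoc
  set ND := normalizer (L.D : Set G)
  let ι : B.A →* ND := ((MulAut.conj c⁻¹).toMonoidHom.comp B.A.subtype).codRestrict ND fun a => by
    refine L.centT_le B.hB (mem_centralizer_singleton_iff.2 ?_)
    show c⁻¹ * (a : G) * c⁻¹⁻¹ * L.t = L.t * (c⁻¹ * (a : G) * c⁻¹⁻¹)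
    rw [show L.t = c⁻¹ * x * c⁻¹⁻¹ by rw [← hc]; group, conj_mul, conj_mul, (B.A_comm a.2 hx).eq]
  have hι : Function.Injective ι := fun a b h => Subtype.ext ((MulAut.conj c⁻¹).injective (congrArg Subtype.val h))
  set q := L.aut.comp ι
  have hk : Nat.card q.ker ≤ 2 := by
    let θ : q.ker → Bool := fun a => decide ((a : B.A) = 1)
    refine le_trans (Nat.card_le_card_of_injective θ fun a b h => ?_) (by simp)
    simp only [θ, decide_eq_decide] at h
    by_cases ha : (a : B.A) = 1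
    · exact Subtype.ext (ha.trans (h.1 ha).symm)
    · have key : ∀ y : q.ker, (y : B.A) ≠ 1 → ((ι y : ND) : G) = L.t := fun y hy =>
        L.eq_t ((L.aut_ker _).1 y.2) (by
          rw [← coe_mul, ← map_mul, show (y : B.A) * y = 1 from Subtype.ext (B.A_sq (y : B.A).2), map_one]; rfl)
          fun e => hy (hι (by rw [map_one]; exact Subtype.ext e))
      exact Subtype.ext (hι (Subtype.ext ((key a ha).trans (key b fun k => ha (h.2 k)).symm)))
  have hprod := q.ker.card_mul_index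
  rw [index_ker, B.card_A] at hprod
  have h8 := Nat.card_le_card_of_injective q.range.subtype q.range.subtype_injective
  rw [DihedralGroup.nat_card] at h8
  have hr : Nat.card q.range = 8 := by nlinarith
  have htop : q.range = ⊤ := eq_top_of_card_eq _ (by rw [hr, DihedralGroup.nat_card])
  have key : ∀ a b : DihedralGroup 4, a ∈ q.range → b ∈ q.range → a * b = b * a := by
    rintro _ _ ⟨a, rfl⟩ ⟨b, rfl⟩
    rw [← map_mul, ← map_mul, show a * b = b * a from Subtype.ext (B.A_comm a.2 b.2).eq]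
  exact absurd (key (DihedralGroup.r 1) (DihedralGroup.sr 0) (htop ▸ mem_top _) (htop ▸ mem_top _)) (by decide)

end Crossed

end Cfsg.Lib.SymEightLocal
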