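import Mathlib.GroupTheory.Perm.Fin
import Mathlib.Data.List.Basic

/-!
A fact about chains of involutions in the symmetric group of degree six.
-/

set_option autoImplicit false
set_option maxRecDepth 100000
set_option maxHeartbeats 1000000
set_option synthInstance.maxSize 8192
set_option synthInstance.maxHeartbeats 400000

namespace Cfsg.Lib.SymEightLocal

open Equiv

-- Decide bounded quantifiers along the list, not along the finite type.
attribute [local instance 10000] List.decidableBAll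

/-- The seventy-five involutions. -/
def invs : List (Perm (Fin 6)) :=
  [swap 4 5, swap 3 4, swap 3 5, swap 2 3, swap 2 3 * swap 4 5,
  swap 2 4, swap 2 4 * swap 3 5, swap 2 5, swap 2 5 * swap 3 4, swap 1 2,
  swap 1 2 * swap 4 5, swap 1 2 * swap 3 4, swap 1 2 * swap 3 5, swap 1 3, swap 1 3 * swap 4 5,
  swap 1 3 * swap 2 4, swap 1 3 * swap 2 5, swap 1 4, swap 1 4 * swap 3 5, swap 1 4 * swap 2 3,
  swap 1 4 * swap 2 5, swap 1 5, swap 1 5 * swap 3 4, swap 1 5 * swap 2 3, swap 1 5 * swap 2 4,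
  swap 0 1, swap 0 1 * swap 4 5, swap 0 1 * swap 3 4, swap 0 1 * swap 3 5, swap 0 1 * swap 2 3,
  swap 0 1 * swap 2 3 * swap 4 5, swap 0 1 * swap 2 4, swap 0 1 * swap 2 4 * swap 3 5, swap 0 1 * swap 2 5, swap 0 1 * swap 2 5 * swap 3 4,
  swap 0 2, swap 0 2 * swap 4 5, swap 0 2 * swap 3 4, swap 0 2 * swap 3 5, swap 0 2 * swap 1 3,
  swap 0 2 * swap 1 3 * swap 4 5, swap 0 2 * swap 1 4, swap 0 2 * swap 1 4 * swap 3 5, swap 0 2 * swap 1 5, swap 0 2 * swap 1 5 * swap 3 4,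
  swap 0 3, swap 0 3 * swap 4 5, swap 0 3 * swap 2 4, swap 0 3 * swap 2 5, swap 0 3 * swap 1 2,
  swap 0 3 * swap 1 2 * swap 4 5, swap 0 3 * swap 1 4, swap 0 3 * swap 1 4 * swap 2 5, swap 0 3 * swap 1 5, swap 0 3 * swap 1 5 * swap 2 4,
  swap 0 4, swap 0 4 * swap 3 5, swap 0 4 * swap 2 3, swap 0 4 * swap 2 5, swap 0 4 * swap 1 2,
  swap 0 4 * swap 1 2 * swap 3 5, swap 0 4 * swap 1 3, swap 0 4 * swap 1 3 * swap 2 5, swap 0 4 * swap 1 5, swap 0 4 * swap 1 5 * swap 2 3,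
  swap 0 5, swap 0 5 * swap 3 4, swap 0 5 * swap 2 3, swap 0 5 * swap 2 4, swap 0 5 * swap 1 2,
  swap 0 5 * swap 1 2 * swap 3 4, swap 0 5 * swap 1 3, swap 0 5 * swap 1 3 * swap 2 4, swap 0 5 * swap 1 4, swap 0 5 * swap 1 4 * swap 2 3]

theorem mem_invs : ∀ x : Perm (Fin 6), x * x = 1 → x ≠ 1 → x ∈ invs := by decide +kernel

theorem inv_reps : ∀ x ∈ invs, ∃ c : Perm (Fin 6),
    c * x * c⁻¹ ∈ [swap 0 1, swap 0 1 * swap 2 3, swap 0 1 * swap 2 3 * swap 4 5] := by decide +kernel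

theorem chain_reps : ∀ a4 ∈ [(swap 0 1 : Perm (Fin 6)), swap 0 1 * swap 2 3, swap 0 1 * swap 2 3 * swap 4 5],
    ∀ a6 ∈ invs, a4 * a6 = a6 * a4 → ∀ a7 ∈ invs, a4 * a7 = a7 * a4 → a6 ≠ a7 → a6 * a7 * a6 = a7 * a6 * a7 →
    ∀ a ∈ invs, a * a6 = a6 * a → a * a7 = a7 * a → a ≠ a4 → a * a4 * a = a4 * a * a4 →
    ∀ b ∈ invs, b * a6 = a6 * b → b * a7 = a7 * b → b ≠ a4 → b * a4 * b = a4 * b * a4 → a ≠ b →
      a * b * a = b * a * b →
    ∀ a5 ∈ invs, a5 * a7 = a7 * a5 → a4 ≠ a5 → a4 * a5 * a4 = a5 * a4 * a5 → a5 ≠ a6 →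
      a5 * a6 * a5 = a6 * a5 * a6 → a * a5 = a5 * a ∨ b * a5 = a5 * b := by
  decide +kernel

/-- One of two candidates commutes with the second link of the chain. -/
theorem chain_six (v : Fin 6 → Perm (Fin 6)) (hv : ∀ i, v i * v i = 1 ∧ v i ≠ 1)
    (hc : ∀ p ∈ [((0 : Fin 6), (2 : Fin 6)), (0, 3), (4, 2), (4, 3), (5, 2), (5, 3), (1, 3)],
      v p.1 * v p.2 = v p.2 * v p.1)
    (hb : ∀ p ∈ [((0 : Fin 6), (1 : Fin 6)), (1, 2), (2, 3), (4, 0), (5, 0), (4, 5)],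
      v p.1 ≠ v p.2 ∧ v p.1 * v p.2 * v p.1 = v p.2 * v p.1 * v p.2) :
    v 4 * v 1 = v 1 * v 4 ∨ v 5 * v 1 = v 1 * v 5 := by
  obtain ⟨c, hc0⟩ := inv_reps _ (mem_invs _ (hv 0).1 (hv 0).2)
  have hinj : ∀ {x y : Perm (Fin 6)}, c * x * c⁻¹ = c * y * c⁻¹ → x = y :=
    fun h => mul_left_cancel (mul_right_cancel h)
  have hm : ∀ i, c * v i * c⁻¹ ∈ invs := fun i => mem_invs _
    (by rw [conj_mul, (hv i).1, mul_one, mul_inv_cancel])
    (fun h => (hv i).2 (conj_eq_one_iff.1 h))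
  have hC : ∀ {i j}, v i * v j = v j * v i →
      c * v i * c⁻¹ * (c * v j * c⁻¹) = c * v j * c⁻¹ * (c * v i * c⁻¹) := fun h => by rw [conj_mul, conj_mul, h]
  have hB : ∀ {i j}, v i * v j * v i = v j * v i * v j →
      c * v i * c⁻¹ * (c * v j * c⁻¹) * (c * v i * c⁻¹) = c * v j * c⁻¹ * (c * v i * c⁻¹) * (c * v j * c⁻¹) := fun h => by
    rw [conj_mul, conj_mul, conj_mul, conj_mul, h]
  have key := chain_reps _ hc0 _ (hm 2) (hC (hc (0, 2) (by simp))) _ (hm 3) (hC (hc (0, 3) (by simp)))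
    (fun h => (hb (2, 3) (by simp)).1 (hinj h)) (hB (hb (2, 3) (by simp)).2) _ (hm 4) (hC (hc (4, 2) (by simp)))
    (hC (hc (4, 3) (by simp))) (fun h => (hb (4, 0) (by simp)).1 (hinj h)) (hB (hb (4, 0) (by simp)).2) _ (hm 5)
    (hC (hc (5, 2) (by simp))) (hC (hc (5, 3) (by simp))) (fun h => (hb (5, 0) (by simp)).1 (hinj h))
    (hB (hb (5, 0) (by simp)).2) (fun h => (hb (4, 5) (by simp)).1 (hinj h)) (hB (hb (4, 5) (by simp)).2) _ (hm 1)
    (hC (hc (1, 3) (by simp))) (fun h => (hb (0, 1) (by simp)).1 (hinj h)) (hB (hb (0, 1) (by simp)).2)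
    (fun h => (hb (1, 2) (by simp)).1 (hinj h)) (hB (hb (1, 2) (by simp)).2)
  exact key.imp (fun h => hinj (by rw [← conj_mul, ← conj_mul, h]))
    (fun h => hinj (by rw [← conj_mul, ← conj_mul, h]))

end Cfsg.Lib.SymEightLocal
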