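import Cfsg.Agent.LocalThree.SymEightLocal.CentT
import Cfsg.Agent.LocalThree.SymEightLocal.SixData
import Cfsg.Agent.Known.CoxeterSymm
import Cfsg.Agent.LocalThree.AltEightLocal.Build
import Mathlib.GroupTheory.Perm.ClosureSwap

/-!
A copy of the symmetric group of degree eight, when the outer involutions match.
-/

set_option autoImplicit false
set_option synthInstance.maxSize 4096
set_option maxRecDepth 100000
set_option maxHeartbeats 1000000

namespace Cfsg.Lib.SymEightLocal

open Equiv Subgroup Cfsg.Lib.AltEightLocal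

universe u

/-- An element of the second factor. -/
abbrev se (x : Perm (Fin 5)) : Pr := (1, x)

namespace Loc

variable {G : Type u} [Group G] [Finite G] (L : Loc G)

/-- Replacing the exchanging element. -/
def twist (hb : L.b = bA) : Loc G :=
  { L with
    m := L.m * L.t
    mz := by rw [show L.m * L.t * L.f zP * (L.m * L.t)⁻¹ = L.m * (L.t * L.f zP * L.t⁻¹) * L.m⁻¹ by group,
      conj_hom L.f (show tP * zP * tP⁻¹ = zP by decide +kernel), L.mz]
    mw := by rw [show L.m * L.t * L.f wP * (L.m * L.t)⁻¹ = L.m * (L.t * L.f wP * L.t⁻¹) * L.m⁻¹ by group,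
      conj_hom L.f (show tP * wP * tP⁻¹ = wP by decide +kernel), L.mw]
    mt := by rw [show L.m * L.t * L.f tP * (L.m * L.t)⁻¹ = L.m * (L.t * L.f tP * L.t⁻¹) * L.m⁻¹ by group,
      conj_hom L.f (show tP * tP * tP⁻¹ = tP by decide +kernel), L.mt]
    mr := by rw [show L.m * L.t * L.f (1, L.b) * (L.m * L.t)⁻¹ = L.m * (L.t * L.f (1, L.b) * L.t⁻¹) * L.m⁻¹ by group,
      conj_hom L.f (show tP * (1, L.b) * tP⁻¹ = (1, L.b) by rw [hb]; decide +kernel), L.mr]
    me := by rw [show L.m * L.t * L.f eP * (L.m * L.t)⁻¹ = L.m * (L.t * L.f eP * L.t⁻¹) * L.m⁻¹ by group,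
      conj_hom L.f (show tP * eP * tP⁻¹ = eP by decide +kernel), L.me] }

theorem g_e (hA : L.b = bA) : L.g eP = L.f (se bA) := by rw [L.g_apply, L.me, hA]

theorem g_bA (hA : L.b = bA) : L.g (se bA) = L.f eP := by rw [L.g_apply, ← hA, L.mr]

theorem g_e' (hA : L.b = bA) : L.g (Equiv.swap 1 2, 1) = L.f (se (Equiv.swap 1 2)) := by
  rw [show ((Equiv.swap 1 2, 1) : Pr) = zP * eP * zP⁻¹ by decide +kernel,
    show se (Equiv.swap 1 2) = wP * se bA * wP⁻¹ by decide +kernel, ← conj_hom L.g rfl, ← conj_hom L.f rfl,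
    L.gw, L.g_e hA]

theorem g_12 (hA : L.b = bA) : L.g (se (Equiv.swap 1 2)) = L.f (Equiv.swap 1 2, 1) := by
  rw [show ((Equiv.swap 1 2, 1) : Pr) = zP * eP * zP⁻¹ by decide +kernel,
    show se (Equiv.swap 1 2) = wP * se bA * wP⁻¹ by decide +kernel, ← conj_hom L.g rfl, ← conj_hom L.f rfl,
    L.gz, L.g_bA hA]

theorem card_centT_of_six (hA : L.b = bA) : ∃ e : centralizer ({L.t} : Set G) →* Perm (Fin 6),
    Function.Surjective e ∧ ∀ x, e x = 1 ↔ (x : G) = 1 ∨ (x : G) = L.t := by
  refine L.centT_cases.resolve_left fun h => ?_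
  -- the conjugate `f eP` commutes with an element of order five
  have hc : L.g (se (Equiv.swap 0 3 * Equiv.swap 1 4)) * L.f eP * (L.g (se (Equiv.swap 0 3 * Equiv.swap 1 4)))⁻¹ = L.t := by
    rw [← L.g_bA hA, ← L.gt]
    exact conj_hom L.g (by decide +kernel)
  obtain ⟨p, hp5, hp1, hpe⟩ : ∃ p : Pr, p ^ 5 = 1 ∧ p ≠ 1 ∧ p * eP = eP * p :=
    ⟨se (Equiv.swap 0 1 * Equiv.swap 1 2 * Equiv.swap 2 3 * Equiv.swap 3 4), by decide +kernel⟩
  set c := L.g (se (Equiv.swap 0 3 * Equiv.swap 1 4))
  have hx : c * L.f p * c⁻¹ ∈ centralizer ({L.t} : Set G) := by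
    rw [mem_centralizer_singleton_iff, ← hc, conj_mul, conj_mul, (L.comm_f hpe).eq]
  have h1 := orderOf_dvd_natCard (⟨_, h hx⟩ : normalizer (L.D : Set G))
  haveI : Fact (Nat.Prime 5) := ⟨by norm_num⟩
  rw [orderOf_mk, show c * L.f p * c⁻¹ = MulAut.conj c (L.f p) from rfl, MulEquiv.orderOf_eq,
    orderOf_injective _ L.f_inj, orderOf_eq_prime hp5 hp1, L.card_ND] at h1
  norm_num at h1

theorem card_centT (hA : L.b = bA) : Nat.card (centralizer ({L.t} : Set G)) = 1440 := by
  obtain ⟨e, he, hk⟩ := L.card_centT_of_six hA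
  have h1 := card_eq_card_quotient_mul_card_subgroup e.ker
  rw [Nat.card_congr (QuotientGroup.quotientKerEquivOfSurjective e he).toEquiv, Nat.card_perm, Nat.card_fin] at h1
  have h2 : Nat.card e.ker = 2 := by
    rw [Nat.card_eq_two_iff]
    refine ⟨1, ⟨⟨L.t, mem_centralizer_singleton_iff.2 rfl⟩, (hk _).2 (Or.inr rfl)⟩, fun h => L.t_ne ?_, ?_⟩
    · exact (congrArg (fun a : e.ker => ((a : centralizer ({L.t} : Set G)) : G)) h).symm
    · refine Set.eq_univ_of_forall fun a => ?_
      rcases (hk _).1 a.2 with h | h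
      · exact Or.inl (Subtype.ext (Subtype.ext h))
      · exact Or.inr (Set.mem_singleton_iff.2 (Subtype.ext (Subtype.ext h)))
  rw [h1, h2]
  rfl

/-- One of the two choices completes the Coxeter relations. -/
theorem exists_link (hA : L.b = bA) : ∃ L' : Loc G, L'.b = bA ∧
    Commute (L'.g (se (Equiv.swap 2 3))) (L'.f (se (Equiv.swap 4 0))) := by
  obtain ⟨e, -, hk⟩ := L.card_centT_of_six hA
  set c := L.g (se (Equiv.swap 0 3 * Equiv.swap 1 4)) with hc
  have hcs : c * L.f eP * c⁻¹ = L.t := by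
    rw [← L.g_bA hA, ← L.gt]
    exact conj_hom L.g (by decide +kernel)
  set s := L.f eP with hs
  set x : Fin 6 → G := ![L.t, L.f (se (Equiv.swap 4 0)), L.f (se bA), L.f (se (Equiv.swap 1 2)),
    L.g (se (Equiv.swap 2 3)), L.g (se (Equiv.swap 2 4))] with hx
  have hcomm : ∀ i, Commute (x i) s := by
    intro i
    fin_cases i
    · exact L.comm_f (by decide +kernel)
    · exact L.comm_f (by decide +kernel)
    · exact L.comm_f (by decide +kernel)
    · exact L.comm_f (by decide +kernel)
    · show Commute (L.g _) _; rw [hs, ← L.g_bA hA]; exact L.comm_g (by decide +kernel)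
    · show Commute (L.g _) _; rw [hs, ← L.g_bA hA]; exact L.comm_g (by decide +kernel)
  let K := centralizer ({s} : Set G)
  let φ : K →* centralizer ({L.t} : Set G) := ((MulAut.conj c).toMonoidHom.comp K.subtype).codRestrict _ fun a => by
    rw [mem_centralizer_singleton_iff, ← hcs]
    show c * (a : G) * c⁻¹ * (c * s * c⁻¹) = c * s * c⁻¹ * (c * (a : G) * c⁻¹)
    rw [conj_mul, conj_mul, mem_centralizer_singleton_iff.1 a.2]
  let xK : Fin 6 → K := fun i => ⟨x i, mem_centralizer_singleton_iff.2 (hcomm i).eq⟩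
  set v : Fin 6 → Perm (Fin 6) := fun i => e (φ (xK i)) with hv
  have hker : ∀ a : K, e (φ a) = 1 ↔ (a : G) = 1 ∨ (a : G) = s := by
    intro a
    rw [hk]
    show c * (a : G) * c⁻¹ = 1 ∨ c * (a : G) * c⁻¹ = L.t ↔ _
    rw [← hcs, conj_eq_one_iff, mul_left_inj, mul_right_inj]
  have heq : ∀ a b : K, e (φ a) = e (φ b) → (a : G)⁻¹ * b = 1 ∨ (a : G)⁻¹ * b = s := fun a b h =>
    (hker (a⁻¹ * b)).1 (by rw [map_mul, map_mul, map_inv, map_inv, h, inv_mul_cancel])
  have hF : ∀ (a b : Pr), a ≠ b → a⁻¹ * b ≠ eP → ∀ i j, x i = L.f a → x j = L.f b → v i ≠ v j := by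
    intro a b h1 h2 i j hi hj h
    rcases heq _ _ h with e' | e' <;> simp only [xK, hi, hj, ← map_inv, ← map_mul] at e'
    · exact h1 (inv_mul_eq_one.1 (L.f_inj (e'.trans L.f.map_one.symm)))
    · exact h2 (L.f_inj e')
  have hGd : ∀ (a b : Pr), a ≠ b → a⁻¹ * b ≠ se bA → ∀ i j, x i = L.g a → x j = L.g b → v i ≠ v j := by
    intro a b h1 h2 i j hi hj h
    rcases heq _ _ h with e' | e' <;> simp only [xK, hi, hj, ← map_inv, ← map_mul] at e'
    · exact h1 (inv_mul_eq_one.1 (L.g_inj (e'.trans L.g.map_one.symm)))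
    · exact h2 (L.g_inj (e'.trans (L.g_bA hA).symm))
  have hmul : ∀ i j k l : Fin 6, x i * x j = x k * x l → v i * v j = v k * v l := fun i j k l h => by
    simp only [hv, ← map_mul]
    exact congrArg (fun a => e (φ a)) (Subtype.ext h)
  have hmul3 : ∀ i j : Fin 6, x i * x j * x i = x j * x i * x j → v i * v j * v i = v j * v i * v j := fun i j h => by
    simp only [hv, ← map_mul]
    exact congrArg (fun a => e (φ a)) (Subtype.ext h)
  have gt' : x 0 = L.g tP := L.gt.symm
  have ge : x 2 = L.g eP := (L.g_e hA).symm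
  have ge' : x 3 = L.g (Equiv.swap 1 2, 1) := (L.g_e' hA).symm
  have pf : ∀ {a b : Pr}, a * b = b * a → L.f a * L.f b = L.f b * L.f a := fun h => (L.comm_f h).eq
  have pg : ∀ {a b : Pr}, a * b = b * a → L.g a * L.g b = L.g b * L.g a := fun h => (L.comm_g h).eq
  have hch := chain_six v ?_ ?_ ?_
  · have key : ∀ i, v i * v 1 = v 1 * v i → x i * x 1 * x i * x 1 = 1 ∨ x i * x 1 * x i * x 1 = s := by
      intro i h
      refine (hker (xK i * xK 1 * xK i * xK 1)).1 ?_
      simp only [map_mul]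
      show v i * v 1 * v i * v 1 = 1
      have h1 : ∀ j, v j * v j = 1 := fun j => by
        simp only [hv, ← map_mul]
        rw [show xK j * xK j = 1 from Subtype.ext ?_, map_one, map_one]
        show x j * x j = 1
        fin_cases j <;> simp only [hx] <;>
          first
          | (show L.f _ * L.f _ = 1; rw [← map_mul, ← map_one L.f]; congr 1; decide +kernel)
          | (show L.g _ * L.g _ = 1; rw [← map_mul, ← map_one L.g]; congr 1; decide +kernel)
      rw [h, mul_assoc (v 1), h1, mul_one, h1]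
    have lift : ∀ a : Perm (Fin 5), se a * se a = 1 →
        (L.g (se a) * L.f (se (Equiv.swap 4 0)) * L.g (se a) * L.f (se (Equiv.swap 4 0)) = 1 ∨
          L.g (se a) * L.f (se (Equiv.swap 4 0)) * L.g (se a) * L.f (se (Equiv.swap 4 0)) = s) →
        Commute (L.g (se a)) (L.f (se (Equiv.swap 4 0))) := by
      intro a ha h
      set A := L.g (se a)
      set B := L.f (se (Equiv.swap 4 0))
      have hA2 : A * A = 1 := by rw [← map_mul, ha, map_one]
      have hB2 : B * B = 1 := by rw [← map_mul, ← map_one L.f]; congr 1; decide +kernel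
      rcases h with h | h
      · show A * B = B * A
        calc A * B = A * B * A * B * (B * A) := by
              rw [show A * B * A * B * (B * A) = A * B * A * (B * B) * A by group, hB2, mul_one,
                show A * B * A * A = A * B * (A * A) by group, hA2, mul_one]
          _ = B * A := by rw [h, one_mul]
      exfalso
      have e1 : A * B * A⁻¹ = s * B := by
        rw [inv_eq_of_mul_eq_one_right hA2, ← h, mul_assoc _ B B, hB2, mul_one]
      obtain ⟨q, hq1, hq2⟩ : ∃ q : Pr, q * tP * q⁻¹ = se (Equiv.swap 4 0) ∧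
          q * (eP * tP) * q⁻¹ = eP * se (Equiv.swap 4 0) := ⟨se (Equiv.swap 0 3), by decide +kernel⟩
      have e2 : L.g (se bB) = L.f (eP * tP) := by
        rw [show se bB = se bA * tP by decide +kernel, map_mul, L.g_bA hA, L.gt, map_mul]
      refine L.not_conj_t_u (L.m⁻¹ * ((L.f q)⁻¹ * (A * L.f q))) ?_
      have e3 : (L.f q)⁻¹ * (A * L.f q) * L.t * ((L.f q)⁻¹ * (A * L.f q))⁻¹ = L.g (se bB) := by
        have hBq : B = L.f q * L.t * (L.f q)⁻¹ := (conj_hom L.f hq1).symm
        have hsB : s * B = L.f q * L.f (eP * tP) * (L.f q)⁻¹ := by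
          rw [conj_hom L.f hq2, map_mul, hs]
        calc (L.f q)⁻¹ * (A * L.f q) * L.t * ((L.f q)⁻¹ * (A * L.f q))⁻¹
            = (L.f q)⁻¹ * (A * (L.f q * L.t * (L.f q)⁻¹) * A⁻¹) * L.f q := by group
          _ = _ := by rw [← hBq, e1, hsB, e2]; group
      rw [show L.m⁻¹ * ((L.f q)⁻¹ * (A * L.f q)) * L.t * (L.m⁻¹ * ((L.f q)⁻¹ * (A * L.f q)))⁻¹
        = L.m⁻¹ * ((L.f q)⁻¹ * (A * L.f q) * L.t * ((L.f q)⁻¹ * (A * L.f q))⁻¹) * L.m by group, e3, L.g_apply]
      group
    rcases hch with h | h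
    · exact ⟨L, hA, lift _ (by decide +kernel)
        (key 4 h)⟩
    · refine ⟨L.twist hA, hA, ?_⟩
      show Commute ((L.twist hA).g (se (Equiv.swap 2 3))) (L.f (se (Equiv.swap 4 0)))
      have e : (L.twist hA).g (se (Equiv.swap 2 3)) = L.g (se (Equiv.swap 2 4)) := by
        rw [g_apply]
        show L.m * L.t * L.f _ * (L.m * L.t)⁻¹ = _
        rw [L.g_apply, show L.m * L.t * L.f (se (Equiv.swap 2 3)) * (L.m * L.t)⁻¹
          = L.m * (L.t * L.f (se (Equiv.swap 2 3)) * L.t⁻¹) * L.m⁻¹ by group, conj_hom L.f (c := se (Equiv.swap 2 4))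
          (by decide +kernel)]
      rw [e]
      exact lift _ (by decide +kernel)
        (key 5 h)
  · intro i
    refine ⟨?_, fun h => ?_⟩
    · simp only [hv, ← map_mul]
      rw [show xK i * xK i = 1 from Subtype.ext ?_, map_one, map_one]
      show x i * x i = 1
      fin_cases i <;> simp only [hx] <;>
        first
        | (show L.f _ * L.f _ = 1; rw [← map_mul, ← map_one L.f]; congr 1; decide +kernel)
        | (show L.g _ * L.g _ = 1; rw [← map_mul, ← map_one L.g]; congr 1; decide +kernel)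
    · rcases (hker _).1 h with e' | e' <;> fin_cases i <;> simp only [xK, hx] at e'
      all_goals first
        | exact absurd (L.f_inj ((show L.f _ = 1 from e').trans L.f.map_one.symm)) (by decide +kernel)
        | exact absurd (L.g_inj ((show L.g _ = 1 from e').trans L.g.map_one.symm)) (by decide +kernel)
        | exact absurd (L.f_inj (show L.f _ = L.f _ from e')) (by decide +kernel)
        | exact absurd (L.g_inj ((show L.g _ = L.f eP from e').trans (L.g_bA hA).symm)) (by decide +kernel)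
  · intro p hp
    simp only [List.mem_cons, List.not_mem_nil, or_false] at hp
    rcases hp with rfl | rfl | rfl | rfl | rfl | rfl | rfl <;> refine hmul _ _ _ _ ?_
    · exact pf (by decide +kernel)
    · exact pf (by decide +kernel)
    · rw [ge]; exact pg (by decide +kernel)
    · rw [ge']; exact pg (by decide +kernel)
    · rw [ge]; exact pg (by decide +kernel)
    · rw [ge']; exact pg (by decide +kernel)
    · exact pf (by decide +kernel)
  · intro p hp
    simp only [List.mem_cons, List.not_mem_nil, or_false] at hp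
    have bf : ∀ {a b : Pr}, a * b * a = b * a * b → L.f a * L.f b * L.f a = L.f b * L.f a * L.f b := fun h => by
      rw [← map_mul, ← map_mul, ← map_mul, ← map_mul, h]
    have bg : ∀ {a b : Pr}, a * b * a = b * a * b → L.g a * L.g b * L.g a = L.g b * L.g a * L.g b := fun h => by
      rw [← map_mul, ← map_mul, ← map_mul, ← map_mul, h]
    rcases hp with rfl | rfl | rfl | rfl | rfl | rfl
    · exact ⟨hF _ _ (by decide +kernel) (by decide +kernel) _ _ rfl rfl, hmul3 _ _ (bf (by decide +kernel))⟩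
    · exact ⟨hF _ _ (by decide +kernel) (by decide +kernel) _ _ rfl rfl, hmul3 _ _ (bf (by decide +kernel))⟩
    · exact ⟨hF _ _ (by decide +kernel) (by decide +kernel) _ _ rfl rfl, hmul3 _ _ (bf (by decide +kernel))⟩
    · exact ⟨hGd _ _ (by decide +kernel) (by decide +kernel) _ _ rfl gt', hmul3 _ _ (by rw [gt']; exact bg (by decide +kernel))⟩
    · exact ⟨hGd _ _ (by decide +kernel) (by decide +kernel) _ _ rfl gt', hmul3 _ _ (by rw [gt']; exact bg (by decide +kernel))⟩
    · exact ⟨hGd _ _ (by decide +kernel) (by decide +kernel) _ _ rfl rfl, hmul3 _ _ (bg (by decide +kernel))⟩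

end Loc

end Cfsg.Lib.SymEightLocal
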