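import Cfsg.Agent.LocalThree.SymEightLocal.Cox
import Mathlib.GroupTheory.Perm.Cycle.Type

/-!
The copy of the symmetric group contains the centralisers of the central involution and controls its fusion.
-/

set_option autoImplicit false
set_option synthInstance.maxSize 4096
set_option maxRecDepth 100000
set_option maxHeartbeats 1000000

namespace Cfsg.Lib.SymEightLocal

open Equiv Subgroup Cfsg.Lib.AltEightLocal

universe u

/-- The transposition fixing the central involution. -/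
def t8 : Perm (Fin 8) := Equiv.swap 3 4
/-- Two transpositions. -/
def d8 : Perm (Fin 8) := Equiv.swap 0 1 * Equiv.swap 3 4
/-- Three transpositions. -/
def j3 : Perm (Fin 8) := Equiv.swap 0 5 * Equiv.swap 1 6 * Equiv.swap 2 7
/-- Four transpositions. -/
def j4 : Perm (Fin 8) := Equiv.swap 0 5 * Equiv.swap 1 6 * Equiv.swap 2 7 * Equiv.swap 3 4

/-- Placing two and six points. -/
def placeT : Fin 2 ⊕ Fin 6 ≃ Fin 8 where
  toFun := Sum.elim ![3, 4] ![0, 1, 2, 5, 6, 7]
  invFun := ![Sum.inr 0, Sum.inr 1, Sum.inr 2, Sum.inl 0, Sum.inl 1, Sum.inr 3, Sum.inr 4, Sum.inr 5]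
  left_inv := by decide
  right_inv := by decide

/-- The embedding of the centraliser of a transposition. -/
def emT : Perm (Fin 2) × Perm (Fin 6) →* Perm (Fin 8) :=
  (placeT.permCongrHom : Perm (Fin 2 ⊕ Fin 6) ≃* Perm (Fin 8)).toMonoidHom.comp (Perm.sumCongrHom (Fin 2) (Fin 6))

theorem emT_inj : Function.Injective emT :=
  (placeT.permCongrHom : Perm (Fin 2 ⊕ Fin 6) ≃* Perm (Fin 8)).injective.comp Perm.sumCongrHom_injective

theorem emT_comm (x : Perm (Fin 2) × Perm (Fin 6)) : emT x * t8 = t8 * emT x := by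
  have h1 : t8 = emT (Equiv.swap 0 1, 1) := by decide +kernel
  have h2 : ∀ a : Perm (Fin 2), a * Equiv.swap 0 1 = Equiv.swap 0 1 * a := by decide +kernel
  rw [h1, ← map_mul, ← map_mul]
  exact congrArg emT (Prod.ext (h2 x.1) (by simp))

/-- The thirty-six elements commuting with the product of the two three-elements. -/
def thirtySix : Finset (Perm (Fin 8)) :=
  torusP.image emF ∪ (torusP.image fun a => emF a * t8) ∪ (torusP.image fun a => emF a * j3) ∪
    (torusP.image fun a => emF a * j4)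

theorem thirtySix_card : thirtySix.card = 36 := by decide +kernel

theorem thirtySix_parts : t8 * emF (zP * wP) = emF (zP * wP) * t8 ∧ j3 * emF (zP * wP) = emF (zP * wP) * j3 ∧
    j4 * emF (zP * wP) = emF (zP * wP) * j4 ∧ ∀ a ∈ torusP, a * (zP * wP) = zP * wP * a := by decide +kernel

theorem thirtySix_comm {σ : Perm (Fin 8)} (h : σ ∈ thirtySix) : σ * emF (zP * wP) = emF (zP * wP) * σ := by
  obtain ⟨h1, h2, h3, h4⟩ := thirtySix_parts
  have hc : ∀ a ∈ torusP, Commute (emF a) (emF (zP * wP)) := fun a ha => by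
    show emF a * emF (zP * wP) = _
    rw [← map_mul, h4 a ha, map_mul]
  simp only [thirtySix, Finset.mem_union, Finset.mem_image] at h
  rcases h with ((⟨a, ha, rfl⟩ | ⟨a, ha, rfl⟩) | ⟨a, ha, rfl⟩) | ⟨a, ha, rfl⟩
  exacts [(hc a ha).eq, ((hc a ha).mul_left h1).eq, ((hc a ha).mul_left h2).eq, ((hc a ha).mul_left h3).eq]

theorem class_facts : emF tP = t8 ∧ emF (eP * tP) = d8 ∧ j3 ≠ t8 ∧ j4 ≠ t8 ∧ j3 * j3 = 1 ∧ j4 * j4 = 1 ∧
    t8.cycleType = Multiset.replicate 1 2 ∧ d8.cycleType = Multiset.replicate 2 2 ∧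
    j3.cycleType = Multiset.replicate 3 2 ∧ j4.cycleType = Multiset.replicate 4 2 := by decide +kernel

theorem classify8 {σ : Perm (Fin 8)} (h : σ * σ = 1) (h1 : σ ≠ 1) :
    IsConj σ t8 ∨ IsConj σ d8 ∨ IsConj σ j3 ∨ IsConj σ j4 := by
  have h2 : σ ^ 2 = 1 := by rw [pow_two, h]
  haveI : Fact (Nat.Prime 2) := ⟨Nat.prime_two⟩
  obtain ⟨m, hm⟩ := Perm.cycleType_prime_order (σ := σ) (by rw [orderOf_eq_prime h2 h1]; exact Nat.prime_two)
  rw [orderOf_eq_prime h2 h1] at hm
  have hm3 : m < 4 := by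
    have h3 := Perm.sum_cycleType σ
    rw [hm, Multiset.sum_replicate, smul_eq_mul] at h3
    have := h3.le.trans ((Finset.card_le_univ _).trans (le_of_eq (Fintype.card_fin 8)))
    omega
  obtain ⟨-, -, -, -, -, -, e1, e2, e3, e4⟩ := class_facts
  simp only [Perm.isConj_iff_cycleType_eq, hm, e1, e2, e3, e4]
  interval_cases m <;> simp

namespace Linked

variable {G : Type u} [Group G] [Finite G] (A : Linked G)

theorem Φ_t : A.Φ t8 = A.toLoc.t := by rw [← class_facts.1, A.Φ_f]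

theorem range_f : A.f.range ≤ A.Φ.range := by
  rintro _ ⟨x, rfl⟩
  exact ⟨emF x, A.Φ_f x⟩

theorem range_g : A.toLoc.g.range ≤ A.Φ.range := by
  rintro _ ⟨x, rfl⟩
  exact ⟨emG x, A.Φ_g x⟩

theorem card_range : Nat.card A.Φ.range = 40320 := by
  rw [← Nat.card_congr (MonoidHom.ofInjective A.Φ_inj).toEquiv, Nat.card_perm, Nat.card_fin]
  rfl

theorem centT_le : centralizer ({A.toLoc.t} : Set G) ≤ A.Φ.range := by
  set C := centralizer ({A.toLoc.t} : Set G)
  let ψ : Perm (Fin 2) × Perm (Fin 6) → ↥(C ⊓ A.Φ.range) := fun x => ⟨A.Φ (emT x), mem_inf.2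
    ⟨mem_centralizer_singleton_iff.2 (by rw [← A.Φ_t, ← map_mul, ← map_mul, emT_comm]), ⟨_, rfl⟩⟩⟩
  have h1 := Nat.card_le_card_of_injective ψ fun a b h => emT_inj (A.Φ_inj (congrArg Subtype.val h))
  rw [Nat.card_prod, Nat.card_perm, Nat.card_perm, Nat.card_fin, Nat.card_fin] at h1
  have h2 : C ⊓ A.Φ.range = C := eq_of_le_of_card_ge inf_le_left (by rw [A.toLoc.card_centT A.hA]; exact h1)
  exact h2 ▸ inf_le_right

theorem centZW_le : centralizer ({A.f (zP * wP)} : Set G) ≤ A.Φ.range := by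
  set C := centralizer ({A.f (zP * wP)} : Set G)
  let ψ : {σ // σ ∈ thirtySix} → ↥(C ⊓ A.Φ.range) := fun σ => ⟨A.Φ σ.1, mem_inf.2
    ⟨mem_centralizer_singleton_iff.2 (by rw [← A.Φ_f, ← map_mul, ← map_mul, thirtySix_comm σ.2]), ⟨_, rfl⟩⟩⟩
  have h1 := Nat.card_le_card_of_injective ψ fun a b h => Subtype.ext (A.Φ_inj (congrArg Subtype.val h))
  rw [Nat.card_eq_fintype_card, Fintype.card_coe, thirtySix_card] at h1
  have h2 : C ⊓ A.Φ.range = C := eq_of_le_of_card_ge inf_le_left (by rw [A.card_zw]; exact h1)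
  exact h2 ▸ inf_le_right

/-- Fusion of the central involution inside the copy. -/
theorem class_t {σ : Perm (Fin 8)} {c : G} (h : c * A.toLoc.t * c⁻¹ = A.Φ σ) : IsConj σ t8 := by
  obtain ⟨hfd, hfd', h3, h4, h3s, h4s, -⟩ := class_facts
  have hs2 : σ * σ = 1 := A.Φ_inj (by rw [map_mul, map_one, ← h, conj_mul, A.toLoc.t_sq]; group)
  have hs1 : σ ≠ 1 := fun e => A.toLoc.t_ne (by rw [e, map_one, conj_eq_one_iff] at h; exact h)
  have hcz : ∀ τ : Perm (Fin 8), τ * τ = 1 → τ ≠ t8 → τ * emF (zP * wP) = emF (zP * wP) * τ → ¬ IsConj σ τ := by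
    intro τ hτ hne hτc hc
    obtain ⟨k, hk⟩ := isConj_iff.1 hc
    refine A.toLoc.not_conj_t_of_comm_zw (x := A.Φ τ) (by rw [← map_mul, hτ, map_one])
      (fun e => hne (A.Φ_inj (e.trans A.Φ_t.symm))) ?_ (A.Φ k * c) ?_
    · show A.Φ τ * A.f _ = A.f _ * A.Φ τ
      rw [← A.Φ_f, ← map_mul, ← map_mul, hτc]
    · rw [← hk, map_mul, map_mul, map_inv, ← h]; group
  rcases classify8 hs2 hs1 with hc | hc | hc | hc
  · exact hc
  · exfalso
    obtain ⟨k, hk⟩ := isConj_iff.1 hc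
    refine A.toLoc.not_conj_t_u (A.m⁻¹ * (A.Φ k * c)) ?_
    have e : A.Φ k * c * A.toLoc.t * (A.Φ k * c)⁻¹ = A.toLoc.g (se bB) := by
      rw [show se bB = se bA * tP by decide +kernel, map_mul, A.toLoc.g_bA A.hA, A.toLoc.gt, ← map_mul, ← A.Φ_f,
        class_facts.2.1, ← hk, map_mul, map_mul, map_inv, ← h]
      group
    rw [show A.m⁻¹ * (A.Φ k * c) * A.toLoc.t * (A.m⁻¹ * (A.Φ k * c))⁻¹
      = A.m⁻¹ * (A.Φ k * c * A.toLoc.t * (A.Φ k * c)⁻¹) * A.m by group, e, Loc.g_apply]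
    group
  · exact absurd hc (hcz j3 h3s h3 thirtySix_parts.2.1)
  · exact absurd hc (hcz j4 h4s h4 thirtySix_parts.2.2.1)

include A in
/-- The order of a Sylow two-subgroup. -/
theorem two_part : 128 ∣ Nat.card G ∧ ¬ 256 ∣ Nat.card G := by
  haveI : Fact (Nat.Prime 2) := ⟨Nat.prime_two⟩
  set H := A.Φ.range
  have hH := A.card_range
  refine ⟨(show 128 ∣ Nat.card H by rw [hH]; norm_num).trans (card_subgroup_dvd_card H), fun h256 => ?_⟩
  -- a Sylow subgroup of the copy through the involution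
  have htH : A.toLoc.t ∈ H := ⟨t8, A.Φ_t⟩
  have hp : IsPGroup 2 (zpowers (⟨A.toLoc.t, htH⟩ : H)) := IsPGroup.iff_card.2 ⟨1, by
    rw [Nat.card_zpowers, orderOf_mk, orderOf_eq_prime (by rw [pow_two, A.toLoc.t_sq]) A.toLoc.t_ne, pow_one]⟩
  obtain ⟨S, hS⟩ := hp.exists_le_sylow
  set S' := (S : Subgroup H).map H.subtype
  have hcard : Nat.card S' = 2 ^ 7 := by
    rw [card_map_of_injective H.subtype_injective, S.card_eq_multiplicity, hH]
    rw [show (40320 : ℕ) = 2 ^ 7 * 315 by norm_num, Nat.factorization_mul (by norm_num) (by norm_num),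
      Finsupp.add_apply, Nat.prime_two.factorization_pow, Finsupp.single_eq_same,
      Nat.factorization_eq_zero_of_not_dvd (show ¬ 2 ∣ 315 by norm_num), add_zero]
  have hN : normalizer (S' : Set G) ≤ H := by
    intro n hn
    have ht : A.toLoc.t ∈ S' := ⟨_, hS (mem_zpowers _), rfl⟩
    obtain ⟨s, -, hs⟩ := (mem_normalizer_iff.1 hn _).1 ht
    obtain ⟨σ, hσ⟩ := s.2
    have hσn : n * A.toLoc.t * n⁻¹ = A.Φ σ := by rw [hσ, ← hs]; rfl
    obtain ⟨k, hk⟩ := isConj_iff.1 (A.class_t hσn)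
    have hkn := A.centT_le (mem_centralizer_singleton_iff.2 (mul_inv_eq_iff_eq_mul.1 (show
        A.Φ k * n * A.toLoc.t * (A.Φ k * n)⁻¹ = A.toLoc.t by
      nth_rw 2 [← A.Φ_t]
      rw [← hk, map_mul, map_mul, map_inv, ← hσn]; group)))
    exact (mul_mem_cancel_left (⟨k, rfl⟩ : A.Φ k ∈ H)).1 hkn
  obtain ⟨T, hT, hST⟩ := Sylow.exists_subgroup_card_pow_succ (p := 2) (n := 7) (by norm_num; exact h256) hcard
  have hTN : T ≤ normalizer (S' : Set G) := by
    have hi : (S'.subgroupOf T).index = 2 := by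
      have := (S'.subgroupOf T).card_mul_index
      rw [Nat.card_congr (subgroupOfEquivOfLe hST).toEquiv, hcard, hT] at this
      omega
    haveI := normal_of_index_eq_two hi
    exact le_normalizer_of_normal_subgroupOf hST
  have := card_dvd_of_le (hTN.trans hN)
  rw [hT, hH] at this
  norm_num at this

end Linked

end Cfsg.Lib.SymEightLocal
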