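import Cfsg.Agent.LocalThree.SymEightLocal.Exclude
import Mathlib.GroupTheory.NoncommCoprod

/-!
Two commuting alternating groups of degree five.
-/

set_option autoImplicit false
set_option synthInstance.maxSize 4096
set_option maxRecDepth 100000
set_option maxHeartbeats 1000000

namespace Cfsg.Lib.SymEightLocal

open Equiv Subgroup Cfsg.Lib.AltEightLocal

universe u

abbrev A5 := alternatingGroup (Fin 5)

/-- The three-cycle on the last three points. -/
abbrev d5 : Perm (Fin 5) := Equiv.swap 2 3 * Equiv.swap 3 4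

/-- A word in the two three-cycles. -/
def word5 : List Bool → Perm (Fin 5)
  | [] => 1
  | true :: l => c5 * word5 l
  | false :: l => d5 * word5 l

/-- Words for all even permutations. -/
def words5 : List (List Bool) :=
  [[], [true], [false], [true,true],
  [false,true], [true,false], [false,false], [false,true,true],
  [true,false,true], [false,false,true], [true,true,false], [false,true,false],
  [true,false,false], [true,false,true,true], [false,false,true,true], [true,true,false,true],
  [false,true,false,true], [true,false,false,true], [false,true,true,false], [true,false,true,false],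
  [false,false,true,false], [true,true,false,false], [false,true,false,false], [true,true,false,true,true],
  [false,true,false,true,true], [true,false,false,true,true], [false,true,true,false,true], [true,false,true,false,true],
  [false,false,true,false,true], [true,true,false,false,true], [false,true,false,false,true], [true,false,true,true,false],
  [false,false,true,true,false], [true,true,false,true,false], [true,false,false,true,false], [false,true,true,false,false],
  [true,false,true,false,false], [false,false,true,false,false], [false,true,true,false,true,true], [true,false,true,false,true,true],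
  [false,false,true,false,true,true], [true,true,false,false,true,true], [false,true,false,false,true,true], [false,false,true,true,false,true],
  [true,true,false,true,false,true], [false,true,true,false,false,true], [false,false,true,false,false,true], [true,true,false,true,true,false],
  [true,false,false,true,true,false], [true,true,false,false,true,false], [true,false,true,true,false,false], [false,false,true,true,false,false],
  [true,true,false,true,false,false], [true,false,false,true,false,false], [true,false,false,true,true,false,true], [true,false,true,true,false,false,true],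
  [true,false,false,true,false,false,true], [false,true,false,false,true,true,false], [false,true,true,false,false,true,false], [false,true,false,false,true,true,false,true]]

theorem words5_spec : ∀ σ : Perm (Fin 5), Perm.sign σ = 1 → ∃ l ∈ words5, word5 l = σ := by decide +kernel

theorem gen5 (K : Subgroup A5) (h1 : ∀ h : c5 ∈ A5, (⟨c5, h⟩ : A5) ∈ K) (h2 : ∀ h : d5 ∈ A5, (⟨d5, h⟩ : A5) ∈ K) :
    K = ⊤ := by
  have hc : c5 ∈ A5 := by rw [Perm.mem_alternatingGroup]; decide +kernel
  have hd : d5 ∈ A5 := by rw [Perm.mem_alternatingGroup]; decide +kernel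
  have key : ∀ l, word5 l ∈ K.map A5.subtype := by
    intro l
    induction l with
    | nil => exact one_mem _
    | cons b l ih =>
      cases b
      · exact mul_mem ⟨_, h2 hd, rfl⟩ ih
      · exact mul_mem ⟨_, h1 hc, rfl⟩ ih
  refine (eq_top_iff' K).2 fun a => ?_
  obtain ⟨l, -, hl⟩ := words5_spec a (Perm.mem_alternatingGroup.1 a.2)
  obtain ⟨b, hb, hbe⟩ := key l
  rwa [show a = b from Subtype.ext (hl.symm.trans hbe.symm)]

theorem cent_w_decomp : ∀ a : Pr, a * zP = zP * a → ∃ i ∈ Finset.range 3, ∃ j ∈ Finset.range 2,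
    ((zP ^ i * tP ^ j)⁻¹ * a).1 = 1 ∧ Perm.sign ((zP ^ i * tP ^ j)⁻¹ * a).2 = 1 := by decide +kernel

theorem small_part : ∀ i ∈ Finset.range 3, ∀ j ∈ Finset.range 2,
    wP ^ i * tP ^ j * (1, d5) = ((1 : Perm (Fin 3)), d5) * (wP ^ i * tP ^ j) → i = 0 ∧ j = 0 := by decide +kernel

theorem no_centre : ∀ σ : Perm (Fin 5), σ * c5 = c5 * σ → σ * d5 = d5 * σ → σ = 1 := by decide +kernel

namespace Loc

variable {G : Type u} [Group G] [Finite G] (L : Loc G)

/-- The first alternating group. -/
def e1 : A5 →* G := (L.f.comp (MonoidHom.inr (Perm (Fin 3)) (Perm (Fin 5)))).comp A5.subtype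

/-- The second alternating group. -/
def e2 : A5 →* G := (L.g.comp (MonoidHom.inr (Perm (Fin 3)) (Perm (Fin 5)))).comp A5.subtype

theorem e1_apply (a : A5) : L.e1 a = L.f (1, (a : Perm (Fin 5))) := rfl

theorem e2_apply (a : A5) : L.e2 a = L.g (1, (a : Perm (Fin 5))) := rfl

theorem e1_inj : Function.Injective L.e1 := fun _ _ h => Subtype.ext (congrArg Prod.snd (L.f_inj h))

theorem e2_inj : Function.Injective L.e2 := fun _ _ h => Subtype.ext (congrArg Prod.snd (L.g_inj h))

theorem swap_g (x : Pr) : L.swap.g x = L.f x := by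
  show L.m⁻¹ * L.g x * L.m⁻¹⁻¹ = _
  rw [L.g_apply]; group

theorem swap_e2 : L.swap.e2 = L.e1 := MonoidHom.ext fun a => L.swap_g _

theorem swap_e1 : L.swap.e1 = L.e2 := rfl

theorem three_mem_D {x : G} (hx : x ∈ normalizer (L.D : Set G)) (h3 : x ^ 3 = 1) : x ∈ L.D := by
  have key : ∀ q : DihedralGroup 4, q ^ 3 = 1 → q = 1 := by decide
  have h1 : (x : G) ∈ centralizer (L.D : Set G) :=
    (L.aut_ker ⟨x, hx⟩).1 (key _ (by rw [← map_pow, show (⟨x, hx⟩ : normalizer (L.D : Set G)) ^ 3 = 1 from Subtype.ext h3, map_one]))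
  refine (L.centD_split h1).resolve_right fun h => L.t_ne ?_
  have h' := L.D_exp h
  rwa [(L.t_central hx).mul_pow, h3, one_mul, show L.t ^ 3 = L.t * L.t * L.t by rw [pow_succ, pow_two], L.t_sq,
    one_mul] at h'

/-- Two elements of order three centralising a conjugate of `t` commute. -/
theorem three_comm (hB : L.b = bB) {τ a b : G} (hτ : L.IsT τ) (ha : Commute a τ) (hb : Commute b τ) (ha3 : a ^ 3 = 1)
    (hb3 : b ^ 3 = 1) : Commute a b := by
  obtain ⟨c, rfl⟩ := hτ
  have key : ∀ x : G, Commute x (c * L.t * c⁻¹) → x ^ 3 = 1 → c⁻¹ * x * c ∈ L.D := by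
    intro x hx h3
    refine L.three_mem_D (L.centT_le hB (mem_centralizer_singleton_iff.2 ?_)) ?_
    · calc c⁻¹ * x * c * L.t = c⁻¹ * (x * (c * L.t * c⁻¹)) * c := by group
        _ = _ := by rw [hx.eq]; group
    · rw [show c⁻¹ * x * c = c⁻¹ * x * c⁻¹⁻¹ by group, conj_pow, h3]; group
  haveI := L.D_comm
  have h := congrArg Subtype.val (mul_comm' (⟨_, key a ha ha3⟩ : L.D) ⟨_, key b hb hb3⟩)
  have h' : c⁻¹ * (a * b) * c = c⁻¹ * (b * a) * c := by
    calc c⁻¹ * (a * b) * c = c⁻¹ * a * c * (c⁻¹ * b * c) := by group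
      _ = c⁻¹ * b * c * (c⁻¹ * a * c) := h
      _ = _ := by group
  exact mul_left_cancel (mul_right_cancel h')

theorem tau_eq (hB : L.b = bB) : L.g (eP * (1, bA)) = L.f (eP * (1, bA)) ∧ L.IsT (L.f (eP * (1, bA))) := by
  have e : L.f (eP * (1, bA)) = L.r * L.u * L.t := by
    show _ = L.f eP * L.f (1, bB) * L.f tP
    rw [← map_mul, ← map_mul]; exact congrArg L.f (by decide +kernel)
  refine ⟨?_, e ▸ L.isT_rut hB⟩
  rw [e, show ((1 : Perm (Fin 3)), bA) = (1, bB) * tP by decide +kernel, map_mul, map_mul, (L.gB hB).1, (L.gB hB).2,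
    L.gt, ← mul_assoc]
  rw [(show Commute L.u L.r from L.comm_f (by decide +kernel)).eq]

/-- The two groups centralise each other. -/
theorem comm_e (hB : L.b = bB) (a b : A5) : Commute (L.e1 a) (L.e2 b) := by
  obtain ⟨hτ, hT⟩ := L.tau_eq hB
  have hdd : Commute (L.f (1, d5)) (L.g (1, d5)) :=
    L.three_comm hB hT (L.comm_f (by decide +kernel)) (hτ ▸ L.comm_g (by decide +kernel))
      (by rw [← map_pow, ← map_one L.f]; congr 1; decide +kernel)
      (by rw [← map_pow, ← map_one L.g]; congr 1; decide +kernel)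
  have hcc : Commute (L.f (1, c5)) (L.g (1, c5)) := by
    show Commute (L.f wP) (L.g wP)
    rw [L.gz]; exact L.comm_f (by decide +kernel)
  have hcd : Commute (L.f (1, c5)) (L.g (1, d5)) := by
    show Commute (L.f wP) _
    rw [show L.f wP = L.g zP from L.gw.symm]; exact L.comm_g (by decide +kernel)
  have hdc : Commute (L.f (1, d5)) (L.g (1, c5)) := by
    show Commute _ (L.g wP)
    rw [L.gz]; exact L.comm_f (by decide +kernel)
  have key : ∀ y : G, Commute (L.f (1, c5)) y → Commute (L.f (1, d5)) y → ∀ a : A5, Commute (L.e1 a) y := by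
    intro y h1 h2
    have h : (centralizer ({y} : Set G)).comap L.e1 = ⊤ := gen5 _
      (fun _ => mem_centralizer_singleton_iff.2 h1.eq) (fun _ => mem_centralizer_singleton_iff.2 h2.eq)
    exact fun a => mem_centralizer_singleton_iff.1 (h.ge (mem_top a))
  have hfix : (centralizer ({L.e1 a} : Set G)).comap L.e2 = ⊤ := gen5 _
    (fun _ => mem_centralizer_singleton_iff.2 (key (L.g (1, c5)) hcc hdc a).eq.symm)
    (fun _ => mem_centralizer_singleton_iff.2 (key (L.g (1, d5)) hcd hdd a).eq.symm)
  exact (mem_centralizer_singleton_iff.1 (hfix.ge (mem_top b)) : _ = _).symm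

/-- The centraliser of the first alternating group. -/
theorem cent_E1 (hB : L.b = bB) {x : G} (hx : ∀ a : A5, Commute x (L.e1 a)) : x ∈ L.e2.range := by
  have hc : c5 ∈ A5 := by rw [Perm.mem_alternatingGroup]; decide +kernel
  have hd : d5 ∈ A5 := by rw [Perm.mem_alternatingGroup]; decide +kernel
  obtain ⟨a, rfl, ha⟩ := L.cent_w (show Commute x (L.f wP) from hx ⟨c5, hc⟩)
  obtain ⟨i, hi, j, hj, h1, h2⟩ := cent_w_decomp a ha
  set v : A5 := ⟨((zP ^ i * tP ^ j)⁻¹ * a).2, Perm.mem_alternatingGroup.2 h2⟩ with hv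
  have hav : L.g a = L.f (wP ^ i * tP ^ j) * L.e2 v := by
    conv_lhs => rw [show a = zP ^ i * tP ^ j * ((1 : Perm (Fin 3)), (v : Perm (Fin 5))) by
      rw [show ((1 : Perm (Fin 3)), (v : Perm (Fin 5))) = (zP ^ i * tP ^ j)⁻¹ * a from Prod.ext h1.symm rfl]; group]
    rw [map_mul, map_mul, map_pow, map_pow, L.gw, L.gt, ← map_pow, ← map_pow, ← map_mul]
    rfl
  have hcomm : Commute (L.f (wP ^ i * tP ^ j)) (L.f (1, d5)) := by
    rw [show L.f (wP ^ i * tP ^ j) = L.g a * (L.e2 v)⁻¹ by rw [hav, mul_inv_cancel_right]]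
    exact (hx ⟨d5, hd⟩).mul_left (L.comm_e hB ⟨d5, hd⟩ v).symm.inv_left
  obtain ⟨rfl, rfl⟩ := small_part i hi j hj (L.comm_f_iff.1 hcomm)
  exact ⟨v, by rw [hav, pow_zero, pow_zero, one_mul, map_one, one_mul]⟩

theorem cent_E2 (hB : L.b = bB) {x : G} (hx : ∀ a : A5, Commute x (L.e2 a)) : x ∈ L.e1.range := by
  have := L.swap.cent_E1 (show L.swap.b = bB from hB) (x := x) (by rw [L.swap_e1]; exact hx)
  rwa [L.swap_e2] at this

theorem meet_trivial (hB : L.b = bB) {a b : A5} (h : L.e1 a = L.e2 b) : a = 1 ∧ b = 1 := by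
  have hc : c5 ∈ A5 := by rw [Perm.mem_alternatingGroup]; decide +kernel
  have hd : d5 ∈ A5 := by rw [Perm.mem_alternatingGroup]; decide +kernel
  have key : ∀ x : A5, x * a = a * x := fun x => L.e1_inj (by
    rw [map_mul, map_mul, h]; exact (L.comm_e hB x b).eq)
  have ha : a = 1 := Subtype.ext (no_centre a (congrArg Subtype.val (key ⟨c5, hc⟩)).symm
    (congrArg Subtype.val (key ⟨d5, hd⟩)).symm)
  subst ha
  exact ⟨rfl, L.e2_inj (by rw [← h, map_one, map_one])⟩

/-- The product of the two groups. -/
def pair (hB : L.b = bB) : A5 × A5 →* G := L.e1.noncommCoprod L.e2 fun a b => L.comm_e hB a b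

theorem pair_apply (hB : L.b = bB) (p : A5 × A5) : L.pair hB p = L.e1 p.1 * L.e2 p.2 := rfl

theorem pair_inj (hB : L.b = bB) : Function.Injective (L.pair hB) := by
  refine (injective_iff_map_eq_one _).2 fun p hp => ?_
  rw [pair_apply, mul_eq_one_iff_eq_inv, ← map_inv] at hp
  obtain ⟨h1, h2⟩ := L.meet_trivial hB hp
  exact Prod.ext h1 (inv_eq_one.1 h2)

end Loc

end Cfsg.Lib.SymEightLocal
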