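import Cfsg.Agent.LocalThree.SymEightLocal.Auto
import Cfsg.Agent.S3805

/-!
The normaliser of the group of order sixteen.
-/

set_option autoImplicit false
set_option synthInstance.maxSize 4096
set_option maxRecDepth 100000
set_option maxHeartbeats 1000000

namespace Cfsg.Lib.SymEightLocal.Crossed

open Equiv Subgroup Cfsg.Lib.AltEightLocal

universe u

variable {G : Type u} [Group G] [Finite G] (B : Crossed G)

/-- Moving an element into the torus-normalising part. -/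
theorem lift_three {n s s' v : G} (hv : v ∈ B.A) (hs : s ^ 3 = 1) (hs' : s' ∈ B.D) (h : n * s * n⁻¹ = v * s') :
    ∃ a ∈ B.A, a * n * s * (a * n)⁻¹ = s' ∧ a = s' * v * s'⁻¹ := by
  set a := s' * v * s'⁻¹ with ha
  have haA : a ∈ B.A := (mem_normalizer_iff.1 (B.D_norm hs') v).1 hv
  refine ⟨a, haA, ?_, rfl⟩
  have hai : a⁻¹ = a := inv_eq_of_mul_eq_one_right (B.A_sq haA)
  have h3 : (v * s') ^ 3 = 1 := by rw [← h, conj_pow, hs]; group
  have hs3 : s' ^ 3 = 1 := B.toLoc.D_exp hs'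
  have hbA : s' * s' * v * (s' * s')⁻¹ ∈ B.A :=
    (mem_normalizer_iff.1 (mul_mem (B.D_norm hs') (B.D_norm hs')) v).1 hv
  have hprod : v * a * (s' * s' * v * (s' * s')⁻¹) = 1 := by
    calc v * a * (s' * s' * v * (s' * s')⁻¹) = (v * s') ^ 3 * (s' ^ 3)⁻¹ := by
          rw [ha]; simp only [pow_succ, pow_zero, one_mul]; group
      _ = 1 := by rw [h3, hs3, inv_one, one_mul]
  calc a * n * s * (a * n)⁻¹ = a * (n * s * n⁻¹) * a⁻¹ := by group
    _ = a * v * (s' * a * s'⁻¹) * s' := by rw [h, hai]; group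
    _ = s' := by
      rw [show s' * a * s'⁻¹ = s' * s' * v * (s' * s')⁻¹ by rw [ha]; group, (B.A_comm haA hv).eq, hprod, one_mul]

/-- The normaliser is the product of the two. -/
theorem NA_decomp {x : G} (hx : x ∈ normalizer (B.A : Set G)) : ∃ a ∈ B.A, a * x ∈ B.M := by
  haveI : Fact (Nat.Prime 3) := ⟨Nat.prime_three⟩
  set N := normalizer (B.A : Set G) with hN
  haveI : (B.A.subgroupOf N).Normal := normal_in_normalizer
  set π := QuotientGroup.mk' (B.A.subgroupOf N) with hπ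
  have hπeq : ∀ {x y : N}, π x = π y → ∃ a ∈ B.A, (y : G) = a * x := by
    intro x y h
    refine ⟨(y : G) * (x : G)⁻¹, ?_, by group⟩
    have h1 : y * x⁻¹ ∈ B.A.subgroupOf N := (QuotientGroup.eq_one_iff _).1 (by
      show π (y * x⁻¹) = 1
      rw [map_mul, map_inv, h, mul_inv_cancel])
    exact h1
  have hπA : ∀ {a : G} (ha : a ∈ B.A) (x y : N), (y : G) = a * x → π y = π x := by
    intro a ha x y h
    have e : π (y * x⁻¹) = 1 := (QuotientGroup.eq_one_iff _).2 (by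
      show ((y * x⁻¹ : N) : G) ∈ B.A
      rw [coe_mul, coe_inv, h, mul_inv_cancel_right]; exact ha)
    rwa [map_mul, map_inv, mul_inv_eq_one] at e
  have hD : B.D ≤ N := B.D_norm
  set T' := (B.D.subgroupOf N).map π with hT'
  have hinjD : ∀ a b : G, a ∈ B.D → b ∈ B.D → ∀ v ∈ B.A, b = v * a → b = a := fun a b ha hb v hv h => by
    have : v ∈ B.D := by rw [show v = b * a⁻¹ by rw [h, mul_inv_cancel_right]]; exact mul_mem hb (inv_mem ha)
    rw [h, B.mem_A_D hv this, one_mul]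
  have hcard : Nat.card T' = 9 := by
    rw [← B.toLoc.card_D, ← Nat.card_congr (subgroupOfEquivOfLe hD).toEquiv]
    refine (Nat.card_congr (Equiv.ofBijective (fun d : B.D.subgroupOf N => (⟨π d, mem_map_of_mem π d.2⟩ : T'))
      ⟨fun a b h => ?_, fun ⟨_, d, hd, e⟩ => ⟨⟨d, hd⟩, Subtype.ext e⟩⟩)).symm
    obtain ⟨v, hv, e⟩ := hπeq (congrArg Subtype.val h)
    exact Subtype.ext (Subtype.ext (hinjD _ _ a.2 b.2 v hv e).symm)
  obtain ⟨P, hP⟩ := (IsPGroup.iff_card.2 ⟨2, hcard⟩ : IsPGroup 3 T').exists_le_sylow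
  have hPT : (P : Subgroup (N ⧸ B.A.subgroupOf N)) = T' := by
    refine (eq_of_le_of_card_ge hP ?_).symm
    obtain ⟨k, hk⟩ := IsPGroup.iff_card.1 P.isPGroup'
    have hd := ((card_subgroup_dvd_card (P : Subgroup (N ⧸ B.A.subgroupOf N))).trans
      (card_quotient_dvd_card (B.A.subgroupOf N))).trans (card_subgroup_dvd_card N)
    rw [hk] at hd
    rw [hcard, hk]
    calc 3 ^ k ≤ 3 ^ 2 := Nat.pow_le_pow_right (by norm_num) (by
          by_contra h; exact B.not27 ((pow_dvd_pow 3 (show 3 ≤ k by omega)).trans hd))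
      _ = 9 := rfl
  have hTmem : ∀ d : G, ∀ h : d ∈ B.D, π ⟨d, hD h⟩ ∈ T' := fun d h => mem_map_of_mem π h
  -- commuting modulo the kernel
  have hcomm : ∀ (n : N) (d : G) (hd : d ∈ B.D), π n * π ⟨d, hD hd⟩ = π ⟨d, hD hd⟩ * π n →
      ∃ a ∈ B.A, Commute (a * (n : G)) d := by
    intro n d hd h
    have h' : π ⟨d, hD hd⟩ = π (n * ⟨d, hD hd⟩ * n⁻¹) := by
      rw [map_mul, map_mul, map_inv, h, mul_inv_cancel_right]
    obtain ⟨v, hv, e⟩ := hπeq h'
    obtain ⟨a, ha, hae, -⟩ := B.lift_three hv (B.toLoc.D_exp hd) hd e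
    exact ⟨a, ha, mul_inv_eq_iff_eq_mul.1 hae⟩
  have hM : ∀ (n : N), (n : G) ∈ B.M → π n ∈ normalizer (T' : Set (N ⧸ B.A.subgroupOf N)) := fun n hn =>
    mem_normalizer_fintype (by
      rintro _ ⟨d, hd, rfl⟩
      exact ⟨n * d * n⁻¹, (mem_normalizer_iff.1 hn.2 _).1 hd, by simp⟩)
  have hfix : ∀ (n : N) (y : G), (∃ a ∈ B.A, y = a * (n : G)) → y ∈ B.M → π n ∈ normalizer (T' : Set _) := by
    intro n y ⟨a, ha, e⟩ hy
    rw [← hπA ha n ⟨y, hy.1⟩ e]
    exact hM ⟨y, hy.1⟩ hy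
  have hline : ∀ (n : N) (a : G), a ∈ B.A → (∃ d ∈ B.D, ∃ b ∈ B.A, a * (n : G) = d * b) → π n ∈ T' := by
    rintro n a ha ⟨d, hd, b, hb, e⟩
    have he : (n : G) = a⁻¹ * (d * b * d⁻¹) * d := by rw [← inv_mul_cancel_left a (n : G), e]; group
    rw [hπA (mul_mem (inv_mem ha) ((mem_normalizer_iff.1 (hD hd) b).1 hb)) ⟨d, hD hd⟩ n he]
    exact hTmem d hd
  have hz1 : B.toLoc.z ≠ 1 := fun e => absurd (B.f_inj (e.trans B.f.map_one.symm)) (by decide +kernel)
  have hcz : ∀ n : N, π n * π ⟨B.toLoc.z, hD B.toLoc.z_mem⟩ = π ⟨B.toLoc.z, hD B.toLoc.z_mem⟩ * π n → π n ∈ T' := by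
    intro n h
    obtain ⟨a, ha, hc⟩ := hcomm n _ B.toLoc.z_mem h
    exact hline n a ha (B.fix_z (mul_mem (le_normalizer ha) n.2) hc)
  have hcent : centralizer ((P : Subgroup (N ⧸ B.A.subgroupOf N)) : Set _) = (P : Subgroup (N ⧸ B.A.subgroupOf N)) := by
    rw [hPT]
    refine le_antisymm (fun x hx => ?_) (fun x hx => mem_centralizer_iff.2 ?_)
    · obtain ⟨n, rfl⟩ := QuotientGroup.mk'_surjective _ x
      exact hcz n (mem_centralizer_iff.1 hx _ (hTmem _ B.toLoc.z_mem)).symm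
    · obtain ⟨d, hd, rfl⟩ := hx
      rintro _ ⟨d', hd', rfl⟩
      rw [← map_mul, ← map_mul]
      haveI := B.toLoc.D_comm
      exact congrArg π (Subtype.ext (show (d' : G) * d = d * d' from
        congrArg Subtype.val (mul_comm' (⟨(d' : G), hd'⟩ : B.D) ⟨(d : G), hd⟩)))
  have hloc : ∀ t ∈ (P : Subgroup (N ⧸ B.A.subgroupOf N)), t ≠ 1 →
      centralizer ({t} : Set _) ≤ normalizer ((P : Subgroup (N ⧸ B.A.subgroupOf N)) : Set _) := by
    rw [hPT]
    rintro _ ⟨d, hd, rfl⟩ hd1 x hx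
    obtain ⟨n, rfl⟩ := QuotientGroup.mk'_surjective _ x
    obtain ⟨a, ha, hc⟩ := hcomm n d hd (mem_centralizer_singleton_iff.1 hx)
    have hN' : a * (n : G) ∈ N := mul_mem (le_normalizer ha) n.2
    have hd0 : (d : G) ≠ 1 := fun e => hd1 (by rw [show d = 1 from Subtype.ext e, map_one])
    have hw : Commute (a * (n : G)) B.toLoc.w → π n ∈ T' := fun h => hline n a ha (by
      have := B.swap.fix_z (x := a * (n : G)) (by rw [B.swap_A]; exact hN')
        (show Commute _ (B.toLoc.g zP) by rw [B.toLoc.gw]; exact h)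
      rwa [B.swap_A] at this)
    by_cases h1 : (d : G) = B.toLoc.z
    · exact le_normalizer (hline n a ha (B.fix_z hN' (h1 ▸ hc)))
    by_cases h2 : (d : G) = B.toLoc.z⁻¹
    · exact le_normalizer (hline n a ha (B.fix_z hN' (Commute.inv_right_iff.1 (h2 ▸ hc))))
    by_cases h3 : (d : G) = B.toLoc.w
    · exact le_normalizer (hw (h3 ▸ hc))
    by_cases h4 : (d : G) = B.toLoc.w⁻¹
    · exact le_normalizer (hw (Commute.inv_right_iff.1 (h4 ▸ hc)))
    exact hfix n _ ⟨a, ha, rfl⟩ ⟨hN', B.cent_off hd hd0 h1 h2 h3 h4 hc⟩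
  -- the normaliser of the Sylow subgroup
  set NT := normalizer ((P : Subgroup (N ⧸ B.A.subgroupOf N)) : Set (N ⧸ B.A.subgroupOf N)) with hNT
  let p : B.M →* NT := (π.comp (inclusion inf_le_left)).codRestrict NT fun m => by
    rw [hNT, hPT]; exact hM _ m.2
  have hsurj : ∀ n : N, π n ∈ normalizer (T' : Set _) → ∃ a ∈ B.A, a * (n : G) ∈ B.M := by
    intro n hn
    have hsend : ∀ s ∈ B.D, ∀ y : N, π y ∈ normalizer (T' : Set _) →
        ∃ v ∈ B.A, ∃ s' ∈ B.D, (y : G) * s * (y : G)⁻¹ = v * s' := by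
      intro s hs y hy
      obtain ⟨s', hs', e⟩ := (mem_normalizer_iff.1 hy _).1 (hTmem s hs)
      rw [← map_inv, ← map_mul, ← map_mul] at e
      obtain ⟨v, hv, e'⟩ := hπeq e
      exact ⟨v, hv, s', hs', e'⟩
    obtain ⟨v, hv, s', hs', e⟩ := hsend _ B.toLoc.z_mem n hn
    obtain ⟨a, ha, hae, -⟩ := B.lift_three hv (B.toLoc.D_exp B.toLoc.z_mem) hs' e
    have hyN : a * (n : G) ∈ N := mul_mem (le_normalizer ha) n.2
    have hy : π ⟨a * n, hyN⟩ = π n := hπA ha n _ rfl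
    obtain ⟨v2, hv2, s2, hs2, e2⟩ := hsend _ B.toLoc.w_mem ⟨a * n, hyN⟩ (hy ▸ hn)
    change a * (n : G) * B.toLoc.w * (a * (n : G))⁻¹ = v2 * s2 at e2
    obtain ⟨a2, ha2, hae2, ha2e⟩ := B.lift_three hv2 (B.toLoc.D_exp B.toLoc.w_mem) hs2 e2
    have hzw : Commute s' (a * (n : G) * B.toLoc.w * (a * (n : G))⁻¹) := by
      rw [← hae]
      show _ * _ = _ * _
      rw [conj_mul, conj_mul, (B.toLoc.comm_f (by decide +kernel : zP * wP = wP * zP)).eq]
    have hs's2 : Commute s' s2 := by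
      haveI := B.toLoc.D_comm
      exact congrArg Subtype.val (mul_comm' (⟨s', hs'⟩ : B.D) ⟨s2, hs2⟩)
    have hv2s : Commute s' v2 := by
      rw [show v2 = a * (n : G) * B.toLoc.w * (a * (n : G))⁻¹ * s2⁻¹ by rw [e2, mul_inv_cancel_right]]
      exact hzw.mul_right hs's2.inv_right
    refine ⟨a2 * a, mul_mem ha2 ha, mul_mem (le_normalizer (mul_mem ha2 ha)) n.2, B.toLoc.mem_N fun d hd => ?_⟩
    have e1 : a2 * a * (n : G) * B.toLoc.z * (a2 * a * (n : G))⁻¹ = s' := by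
      rw [show a2 * a * (n : G) * B.toLoc.z * (a2 * a * (n : G))⁻¹
        = a2 * (a * (n : G) * B.toLoc.z * (a * (n : G))⁻¹) * a2⁻¹ by group, hae,
        (show Commute a2 s' by rw [ha2e]; exact ((hs's2.mul_right hv2s).mul_right hs's2.inv_right).symm).eq,
        mul_inv_cancel_right]
    have e3 : a2 * a * (n : G) * B.toLoc.w * (a2 * a * (n : G))⁻¹ = s2 := by rw [mul_assoc a2 a]; exact hae2
    obtain ⟨q, hq, rfl⟩ := B.toLoc.of_mem_D hd
    obtain ⟨i, j, rfl⟩ := torus_decomp (mem_torusGrp.2 hq)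
    rw [map_mul, map_pow, map_pow, ← conj_mul, ← conj_pow, ← conj_pow, show B.f zP = B.toLoc.z from rfl,
      show B.f wP = B.toLoc.w from rfl, e1, e3]
    exact mul_mem (pow_mem hs' _) (pow_mem hs2 _)
  have hp : Function.Surjective p := by
    rintro ⟨x, hx⟩
    obtain ⟨n, rfl⟩ := QuotientGroup.mk'_surjective _ x
    rw [hNT, hPT] at hx
    obtain ⟨a, ha, hy⟩ := hsurj n hx
    exact ⟨⟨a * n, hy⟩, Subtype.ext (hπA ha n _ rfl)⟩
  have hpinj : ∀ m : B.M, ((p m : NT) : N ⧸ B.A.subgroupOf N) ∈ T' → (m : G) ∈ B.D := by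
    rintro m ⟨d, hd, e⟩
    obtain ⟨v, hv, e'⟩ := hπeq e
    change (m : G) = v * (d : G) at e'
    have hvM : v ∈ normalizer (B.D : Set G) := by
      rw [show v = (m : G) * (d : G)⁻¹ by rw [e', mul_inv_cancel_right]]
      exact mul_mem m.2.2 (inv_mem (le_normalizer hd))
    rw [e', B.A_inf_ND hv hvM, one_mul]
    exact hd
  haveI hnn : ((P : Subgroup (N ⧸ B.A.subgroupOf N)).subgroupOf NT).Normal := normal_in_normalizer
  set q := (QuotientGroup.mk' ((P : Subgroup (N ⧸ B.A.subgroupOf N)).subgroupOf NT)).comp p with hq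
  have hqs : Function.Surjective q := (QuotientGroup.mk'_surjective _).comp hp
  have hqD : ∀ m : B.M, q m = 1 ↔ (m : G) ∈ B.D := by
    intro m
    show QuotientGroup.mk' _ (p m) = 1 ↔ _
    rw [QuotientGroup.mk'_apply, QuotientGroup.eq_one_iff, mem_subgroupOf]
    refine ⟨fun h => hpinj m (hPT.le h), fun h => hPT.ge ?_⟩
    exact hTmem _ h
  -- four cosets
  let r : Fin 4 → B.M := ![1, ⟨B.tau, B.tau_M⟩, ⟨B.inv₂, B.inv₂_M⟩, ⟨B.inv₂ * B.tau, mul_mem B.inv₂_M B.tau_M⟩]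
  have hbij : Function.Bijective (fun k => q (r k)) := by
    refine ⟨fun k l h => ?_, fun x => ?_⟩
    · have hd : ((r k)⁻¹ * r l : B.M).1 ∈ B.D := (hqD _).1 (by
        simp only at h; rw [map_mul, map_inv, h, inv_mul_cancel])
      have hact : (r k : G) * B.toLoc.z * (r k : G)⁻¹ = (r l : G) * B.toLoc.z * (r l : G)⁻¹ := by
        have := B.D_conj hd B.toLoc.z_mem
        rw [coe_mul, coe_inv] at this
        calc (r k : G) * B.toLoc.z * (r k : G)⁻¹
            = (r k : G) * ((r k : G)⁻¹ * (r l : G) * B.toLoc.z * ((r k : G)⁻¹ * (r l : G))⁻¹) * (r k : G)⁻¹ := by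
              rw [this]
          _ = _ := by group
      have e3 : B.inv₂ * B.tau * B.toLoc.z * (B.inv₂ * B.tau)⁻¹ = B.toLoc.w⁻¹ := by
        rw [show B.inv₂ * B.tau * B.toLoc.z * (B.inv₂ * B.tau)⁻¹ = B.inv₂ * (B.tau * B.toLoc.z * B.tau⁻¹) * B.inv₂⁻¹ by
          group, B.tau_z, ← conj_inv, B.inv₂_z]
      have e0 : (1 : G) * B.toLoc.z * 1⁻¹ = B.toLoc.z := by group
      fin_cases k <;> fin_cases l <;> first
        | rfl
        | (exfalso
           simp only [r, Matrix.cons_val, Fin.zero_eta, Fin.mk_one, Fin.reduceFinMk, OneMemClass.coe_one,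
             Matrix.cons_val_zero, Matrix.cons_val_one] at hact
           simp only [e0, e3, B.tau_z, B.inv₂_z] at hact
           simp only [Loc.z, Loc.w, ← map_inv] at hact
           exact absurd (B.f_inj hact) (by decide +kernel))
    · obtain ⟨m, rfl⟩ := hqs x
      obtain ⟨d, hd, h⟩ := B.M_cases m.2
      have hq1 : ∀ k : Fin 4, (m : G) = (r k : G) * d → q (r k) = q m := fun k e => by
        rw [show m = r k * ⟨d, B.D_M hd⟩ from Subtype.ext e, map_mul, (hqD ⟨d, B.D_M hd⟩).2 hd, mul_one]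
      rcases h with e | e | e | e
      exacts [⟨0, hq1 0 (by rw [e]; exact (one_mul d).symm)⟩, ⟨1, hq1 1 e⟩, ⟨2, hq1 2 e⟩, ⟨3, hq1 3 e⟩]
  have hK : IsKleinFour (NT ⧸ (P : Subgroup (N ⧸ B.A.subgroupOf N)).subgroupOf NT) := by
    have hc : Nat.card (NT ⧸ (P : Subgroup (N ⧸ B.A.subgroupOf N)).subgroupOf NT) = 4 := by
      rw [← Nat.card_congr (Equiv.ofBijective _ hbij), Nat.card_fin]
    refine ⟨hc, Nat.dvd_antisymm ?_ ?_⟩
    · refine Monoid.exponent_dvd_of_forall_pow_eq_one fun x => ?_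
      obtain ⟨m, rfl⟩ := hqs x
      rw [pow_two, ← map_mul]
      exact (hqD _).2 (B.M_sq m.2)
    · obtain ⟨x, hx⟩ : ∃ x : NT ⧸ (P : Subgroup (N ⧸ B.A.subgroupOf N)).subgroupOf NT, x ≠ 1 := by
        haveI : Nontrivial (NT ⧸ (P : Subgroup (N ⧸ B.A.subgroupOf N)).subgroupOf NT) :=
          Finite.one_lt_card_iff_nontrivial.1 (by rw [hc]; norm_num)
        exact exists_ne 1
      obtain ⟨m, rfl⟩ := hqs x
      have h2 : orderOf (q m) = 2 := by
        haveI : Fact (Nat.Prime 2) := ⟨Nat.prime_two⟩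
        exact orderOf_eq_prime (by rw [pow_two, ← map_mul]; exact (hqD _).2 (B.M_sq m.2)) hx
      rw [← h2]
      exact Monoid.order_dvd_exponent _
  have htop := Cfsg.Agent.S3805.result P ⟨by
      rw [hPT]
      exact ⟨⟨fun a b => by
        obtain ⟨d, hd, hde⟩ := a.2
        obtain ⟨d', hd', hde'⟩ := b.2
        refine Subtype.ext ?_
        rw [coe_mul, coe_mul, ← hde, ← hde', ← map_mul, ← map_mul]
        haveI := B.toLoc.D_comm
        exact congrArg π (Subtype.ext (show (d : G) * d' = d' * d from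
          congrArg Subtype.val (mul_comm' (⟨(d : G), hd⟩ : B.D) ⟨(d' : G), hd'⟩)))⟩⟩, by
      rw [hPT]
      rintro _ ⟨d, hd, rfl⟩
      rw [← map_pow, show d ^ 3 = 1 from Subtype.ext (B.toLoc.D_exp hd), map_one]⟩
    (by rw [hPT, hcard]) hcent hK hloc
  refine hsurj ⟨x, hx⟩ ?_
  rw [← hPT, htop]
  exact mem_top _

end Cfsg.Lib.SymEightLocal.Crossed
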