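import Cfsg.Agent.LocalThree.SymEightLocal.Data
import Cfsg.Agent.LocalThree.AltEightLocal.Setup
import Mathlib.GroupTheory.Sylow
import Mathlib.GroupTheory.SpecificGroups.Dihedral
import Mathlib.Algebra.Group.TypeTags.Finite

/-!
The embedding attached to a line and the element exchanging the two special lines.
-/

set_option autoImplicit false
set_option synthInstance.maxSize 4096
set_option maxRecDepth 100000
set_option maxHeartbeats 1000000

namespace Cfsg.Lib.SymEightLocal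

open Equiv Subgroup Cfsg.Lib.AltEightLocal

universe u

/-- The torus as a subgroup. -/
def torusGrp : Subgroup Pr where
  carrier := {x | x ∈ torusP}
  one_mem' := by decide +kernel
  mul_mem' {a b} ha hb := by
    have h : ∀ a ∈ torusP, ∀ b ∈ torusP, a * b ∈ torusP := by decide +kernel
    exact h a ha b hb
  inv_mem' {a} ha := by
    have h : ∀ a ∈ torusP, a⁻¹ ∈ torusP := by decide +kernel
    exact h a ha

theorem mem_torusGrp {x : Pr} : x ∈ torusGrp ↔ x ∈ torusP := Iff.rfl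

theorem zP_mem : zP ∈ torusGrp := mem_torusGrp.2 (by decide +kernel)

theorem wP_mem : wP ∈ torusGrp := mem_torusGrp.2 (by decide +kernel)

theorem card_torusGrp : Nat.card torusGrp = 9 := by
  rw [show Nat.card torusGrp = Nat.card {x // x ∈ torusP} from rfl, Nat.card_eq_fintype_card, Fintype.card_coe,
    card_torus]

theorem torus_decomp {x : Pr} (hx : x ∈ torusGrp) : ∃ i j : ℕ, x = zP ^ i * wP ^ j := by
  obtain ⟨p, -, rfl⟩ := Finset.mem_image.1 (mem_torusGrp.1 hx)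
  exact ⟨_, _, rfl⟩

variable {G : Type u} [Group G]

theorem conj_hom (f : Pr →* G) {a b c : Pr} (h : a * b * a⁻¹ = c) : f a * f b * (f a)⁻¹ = f c := by
  rw [← h, map_mul, map_mul, map_inv]

theorem commute_hom (f : Pr →* G) {a b : Pr} (h : a * b = b * a) : Commute (f a) (f b) := by
  show f a * f b = f b * f a
  rw [← map_mul, h, map_mul]

/-- The local data. -/
structure Loc (G : Type u) [Group G] where
  f : Pr →* G
  m : G
  D : Subgroup G
  hD : torusGrp.map f = D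
  f_inj : Function.Injective f
  f_norm : ∀ x : G, x * f zP * x⁻¹ = f zP ∨ x * f zP * x⁻¹ = (f zP)⁻¹ → x ∈ f.range
  mz : m * f zP * m⁻¹ = f wP
  mw : m * f wP * m⁻¹ = f zP
  mt : m * f tP * m⁻¹ = f tP
  b : Perm (Fin 5)
  hb : b = bA ∨ b = bB
  mr : m * f (1, b) * m⁻¹ = f eP
  me : m * f eP * m⁻¹ = f (1, b)
  card_z : Nat.card (centralizer ({f zP} : Set G)) = 360
  card_zw : Nat.card (centralizer ({f (zP * wP)} : Set G)) = 36
  zw_norm : ∀ x ∈ centralizer ({f (zP * wP)} : Set G), ∀ d ∈ D, x * d * x⁻¹ ∈ D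
  zw_sq : ∀ x ∈ centralizer ({f (zP * wP)} : Set G), x ^ 2 ∈ D
  card_ND : Nat.card (normalizer (D : Set G)) = 144
  aut : normalizer (D : Set G) →* DihedralGroup 4
  aut_surj : Function.Surjective aut
  aut_ker : ∀ x : normalizer (D : Set G), aut x = 1 ↔ (x : G) ∈ centralizer (D : Set G)
  not27 : ¬ 27 ∣ Nat.card G

theorem card_cent_conj (x a : G) :
    Nat.card (centralizer ({x * a * x⁻¹} : Set G)) = Nat.card (centralizer ({a} : Set G)) :=
  Cfsg.Lib.AltEightLocal.card_cent_conj x a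

variable [Finite G]

/-- The data exist. -/
theorem exists_loc (P : Sylow 3 G) (D : Subgroup G) (hDP : D = P) (y z : G) (hgen : closure {y, z} = D)
    (hcomm : IsMulCommutative D) (hcard : Nat.card D = 9) (hexp : ∀ a ∈ D, a ^ 3 = 1)
    (eN : normalizer (D : Set G) ⧸ D.subgroupOf (normalizer (D : Set G)) ≃* DihedralGroup 4 × Multiplicative (ZMod 2))
    [hcn : ((centralizer (D : Set G)).subgroupOf (normalizer (D : Set G))).Normal]
    (eNC : normalizer (D : Set G) ⧸ (centralizer (D : Set G)).subgroupOf (normalizer (D : Set G)) ≃* DihedralGroup 4)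
    (hyn : (D.subgroupOf (centralizer ({y} : Set G))).Normal)
    (hycard : Nat.card (centralizer ({y} : Set G)) = 36)
    (hysq : ∀ g ∈ centralizer ({y} : Set G), g ^ 2 ∈ D)
    (eC : centralizer ({z} : Set G) ≃* Multiplicative (ZMod 3) × Perm (Fin 5))
    (eL : normalizer (zpowers z : Set G) ≃* Pr) : Nonempty (Loc G) := by
  haveI : Fact (Nat.Prime 3) := ⟨Nat.prime_three⟩
  have hy : y ∈ D := hgen ▸ subset_closure (by simp)
  have hz : z ∈ D := hgen ▸ subset_closure (by simp)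
  have h27 : ¬ 27 ∣ Nat.card G := by
    intro h
    have h1 : (3 : ℕ) ^ 3 ∣ Nat.card (P : Subgroup G) := P.pow_dvd_card_of_pow_dvd_card h
    rw [← hDP, hcard] at h1
    norm_num at h1
  have hCz : Nat.card (centralizer ({z} : Set G)) = 360 := by
    rw [Nat.card_congr eC.toEquiv, Nat.card_prod, Nat.card_perm, Nat.card_fin,
      Nat.card_congr Multiplicative.toAdd, Nat.card_zmod]
    rfl
  have hz1 : z ≠ 1 := by
    intro h
    rw [h] at hCz
    have : centralizer ({(1 : G)} : Set G) = ⊤ := eq_top_iff.2 fun a _ => mem_centralizer_singleton_iff.2 (by simp)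
    rw [this, card_top] at hCz
    have h2 : 9 ∣ 360 := by norm_num
    have h3 : closure {y, z} = zpowers y := by
      refine le_antisymm ((closure_le _).2 ?_) (zpowers_le.2 (subset_closure (by simp)))
      rintro a (rfl | rfl)
      · exact mem_zpowers _
      · rw [h]; exact one_mem _
    have h4 := hcard
    rw [← hgen, h3, Nat.card_zpowers] at h4
    have := Nat.le_of_dvd (by norm_num) (orderOf_dvd_of_pow_eq_one (hexp y hy))
    omega
  have hz3 : orderOf z = 3 := orderOf_eq_prime (hexp z hz) hz1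
  set N := normalizer (zpowers z : Set G) with hN
  set f0 : Pr →* G := N.subtype.comp eL.symm.toMonoidHom with hf0
  have hf0i : Function.Injective f0 := N.subtype_injective.comp eL.symm.injective
  have hf0r : f0.range = N := by
    rw [hf0, MonoidHom.range_comp, MonoidHom.range_eq_top.2 eL.symm.surjective, ← MonoidHom.range_eq_map,
      range_subtype]
  obtain ⟨k, hk⟩ : z ∈ f0.range := hf0r ▸ le_normalizer (mem_zpowers z)
  have hkinv : ∀ a : Pr, a * k * a⁻¹ = k ∨ a * k * a⁻¹ = k⁻¹ := by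
    intro a
    have ha : f0 a ∈ N := hf0r ▸ ⟨a, rfl⟩
    have h := (mem_normalizer_iff.1 ha z).1 (mem_zpowers z)
    classical
    rw [mem_zpowers_iff_mem_range_orderOf, hz3] at h
    simp only [Finset.mem_image, Finset.mem_range] at h
    obtain ⟨j, hj, hjz⟩ := h
    rw [← hk, ← map_inv, ← map_mul, ← map_mul, ← map_pow] at hjz
    have hka := hf0i hjz
    have hk1 : k ≠ 1 := fun h1 => hz1 (by rw [← hk, h1, map_one])
    interval_cases j
    · exact absurd (conj_eq_one_iff.1 (hka.symm.trans (pow_zero k))) hk1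
    · exact Or.inl (by rw [← hka, pow_one])
    · refine Or.inr (by rw [← hka, eq_inv_iff_mul_eq_one, ← pow_succ]; exact hf0i (by rw [map_pow, hk, map_one]; exact hexp z hz))
  have hkne : k ≠ 1 := fun h => hz1 (by rw [← hk, h, map_one])
  have hk3 : k * k * k = 1 := hf0i (by
    rw [map_mul, map_mul, hk, map_one, show z * z * z = z ^ 3 by rw [pow_succ, pow_two]]; exact hexp z hz)
  obtain ⟨f1, hf1i, hf1r, hf1z⟩ : ∃ f1 : Pr →* G, Function.Injective f1 ∧ f1.range = N ∧ f1 zP = z := by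
    rcases normal_three k hk3 hkne (hkinv wP) (hkinv _) with h | h
    · exact ⟨f0, hf0i, hf0r, by rw [← hk, h]⟩
    · refine ⟨f0.comp (MulAut.conj eP).toMonoidHom, hf0i.comp (MulAut.conj eP).injective, ?_, ?_⟩
      · rw [MonoidHom.range_comp, MonoidHom.range_eq_top.2 (MulAut.conj eP).surjective, ← MonoidHom.range_eq_map, hf0r]
      · rw [← hk, h]; rfl
  -- the second three-element
  obtain ⟨f, hfi, hfr, hfz, hfw⟩ :
      ∃ f : Pr →* G, Function.Injective f ∧ f.range = N ∧ f zP = z ∧ f wP ∈ D := by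
    obtain ⟨b, hb, hbz⟩ : ∃ b ∈ D, ∀ j : ℕ, b ≠ z ^ j := by
      by_contra hcon
      push Not at hcon
      have hle : D ≤ zpowers z := fun b hb => by
        obtain ⟨j, hj⟩ := hcon b hb
        exact hj ▸ pow_mem (mem_zpowers z) j
      have h1 := Nat.le_of_dvd Nat.card_pos (card_dvd_of_le hle)
      rw [hcard, Nat.card_zpowers, hz3] at h1
      omega
    have hbzc : Commute b z := congrArg Subtype.val (hcomm.is_comm.comm (⟨b, hb⟩ : D) ⟨z, hz⟩)
    obtain ⟨x, hx⟩ : b ∈ f1.range := hf1r ▸ centralizer_le_normalizer _ (mem_centralizer_iff.2 fun a ha => by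
      obtain ⟨j, rfl⟩ := mem_zpowers_iff.1 ha
      exact (hbzc.zpow_right j).eq.symm)
    have hx3 : x * x * x = 1 := hf1i (by
      rw [map_mul, map_mul, hx, map_one, show b * b * b = b ^ 3 by rw [pow_succ, pow_two]]; exact hexp b hb)
    have hxz : x * zP = zP * x := hf1i (by rw [map_mul, map_mul, hx, hf1z]; exact hbzc)
    obtain ⟨i, hi⟩ : ∃ i : ℕ, x.1 = c3 ^ i := by
      rcases cube_comm x hx3 hxz with h | h | h
      exacts [⟨0, h⟩, ⟨1, by rw [h, pow_one]⟩, ⟨2, by rw [h, pow_two]⟩]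
    have hb1 : x.2 ≠ 1 := by
      intro h
      refine hbz i ?_
      rw [← hx, ← hf1z, ← map_pow]
      exact congrArg f1 (Prod.ext (by rw [hi]; rfl) (by rw [h]; exact (one_pow i).symm))
    obtain ⟨s, hs⟩ := three_cycle_conj x.2 (congrArg Prod.snd hx3) hb1
    refine ⟨f1.comp (MulAut.conj ((1 : Perm (Fin 3)), s⁻¹)).toMonoidHom, hf1i.comp (MulEquiv.injective _), ?_, ?_, ?_⟩
    · rw [MonoidHom.range_comp, MonoidHom.range_eq_top.2 (MulEquiv.surjective _), ← MonoidHom.range_eq_map, hf1r]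
    · rw [← hf1z]
      exact congrArg f1 (Prod.ext (by simp [zP]) (by simp [zP]))
    · have e : MulAut.conj ((1 : Perm (Fin 3)), s⁻¹) wP = (zP ^ i)⁻¹ * x := Prod.ext
        (by show 1 * (1 : Perm (Fin 3)) * 1⁻¹ = (c3 ^ i)⁻¹ * x.1; rw [hi]; simp)
        (by show s⁻¹ * c5 * s⁻¹⁻¹ = ((1 : Perm (Fin 5)) ^ i)⁻¹ * x.2; rw [← hs]; group)
      show f1 (MulAut.conj ((1 : Perm (Fin 3)), s⁻¹) wP) ∈ D
      rw [e, map_mul, map_inv, map_pow, hx, hf1z]
      exact mul_mem (inv_mem (pow_mem hz i)) hb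
  have hDeq : torusGrp.map f = D := by
    refine eq_of_le_of_card_ge ?_ (by rw [hcard, card_map_of_injective hfi, card_torusGrp])
    rintro _ ⟨t, ht, rfl⟩
    obtain ⟨i, j, rfl⟩ := torus_decomp ht
    rw [map_mul, map_pow, map_pow, hfz]
    exact mul_mem (pow_mem hz _) (pow_mem hfw _)
  have hfnorm : ∀ x : G, x * f zP * x⁻¹ = f zP ∨ x * f zP * x⁻¹ = (f zP)⁻¹ → x ∈ f.range := by
    intro x hx
    rw [hfz] at hx
    rw [hfr, hN]
    have hle : ∀ x : G, x * z * x⁻¹ = z ∨ x * z * x⁻¹ = z⁻¹ → ∀ a ∈ zpowers z, x * a * x⁻¹ ∈ zpowers z := by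
      intro x hx a ha
      obtain ⟨j, rfl⟩ := mem_zpowers_iff.1 ha
      rw [← conj_zpow]
      rcases hx with h | h <;> rw [h]
      exacts [zpow_mem (mem_zpowers z) j, zpow_mem (inv_mem (mem_zpowers z)) j]
    rw [mem_normalizer_iff]
    refine fun a => ⟨hle x hx a, fun h => ?_⟩
    have hx' : x⁻¹ * z * x⁻¹⁻¹ = z ∨ x⁻¹ * z * x⁻¹⁻¹ = z⁻¹ := by
      rcases hx with e | e
      · exact Or.inl (by nth_rw 1 [← e]; group)
      · exact Or.inr (by rw [show x⁻¹ * z * x⁻¹⁻¹ = x⁻¹ * (x * z⁻¹ * x⁻¹) * x by rw [← conj_inv, e, inv_inv, inv_inv]]; group)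
    have h2 := hle _ hx' _ h
    rwa [show x⁻¹ * (x * a * x⁻¹) * x⁻¹⁻¹ = a by group] at h2
  have hmemD : ∀ t ∈ torusGrp, f t ∈ D := fun t ht => hDeq ▸ mem_map_of_mem f ht
  -- the normaliser of the torus
  have hcardN : Nat.card (normalizer (D : Set G)) = 144 := by
    rw [card_eq_card_quotient_mul_card_subgroup (D.subgroupOf (normalizer (D : Set G))), Nat.card_congr eN.toEquiv,
      Nat.card_prod, DihedralGroup.nat_card, Nat.card_congr Multiplicative.toAdd, Nat.card_zmod,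
      Nat.card_congr (subgroupOfEquivOfLe le_normalizer).toEquiv, hcard]
  set ND := normalizer (D : Set G) with hND
  set A := Finset.univ.filter (fun x : Pr => x * zP * x⁻¹ ∈ torusP ∧ x * wP * x⁻¹ ∈ torusP) with hA
  have hmemA : ∀ x, x ∈ A → f x ∈ ND := by
    intro x hx
    have hx' := (Finset.mem_filter.1 hx).2
    refine mem_normalizer_fintype fun d hd => ?_
    obtain ⟨d, hd', rfl⟩ := (hDeq.symm ▸ hd : d ∈ torusGrp.map f)
    obtain ⟨i, j, rfl⟩ := torus_decomp hd'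
    rw [← map_inv, ← map_mul, ← map_mul, ← conj_mul, ← conj_pow, ← conj_pow]
    exact hmemD _ (mul_mem (pow_mem (mem_torusGrp.2 hx'.1) _) (pow_mem (mem_torusGrp.2 hx'.2) _))
  have hSA : ∀ x, f x ∈ ND → x ∈ A := by
    intro x hx
    have key : ∀ t ∈ torusGrp, x * t * x⁻¹ ∈ torusP := fun t ht => by
      have h1 := (mem_normalizer_iff.1 hx (f t)).1 (hmemD t ht)
      rw [← map_inv, ← map_mul, ← map_mul] at h1
      obtain ⟨t', ht', e⟩ := (hDeq.symm ▸ h1 : f (x * t * x⁻¹) ∈ torusGrp.map f)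
      exact hfi e ▸ ht'
    exact Finset.mem_filter.2 ⟨Finset.mem_univ _, key _ zP_mem, key _ wP_mem⟩
  set S := f.range.subgroupOf ND with hS
  have hS72 : Nat.card S = 72 := by
    have e : (S.map ND.subtype : Set G) = f '' (A : Set Pr) := by
      ext a
      rw [hS, subgroupOf_map_subtype]
      refine ⟨fun ⟨⟨x, hx⟩, h2⟩ => ⟨x, hSA x (hx.symm ▸ h2), hx⟩, ?_⟩
      rintro ⟨x, hx, rfl⟩
      exact ⟨⟨x, rfl⟩, hmemA x hx⟩
    rw [← card_map_of_injective ND.subtype_injective, ← SetLike.coe_sort_coe, e, Nat.card_coe_set_eq,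
      Set.ncard_image_of_injective _ hfi, Set.ncard_coe_finset, card_normalizing]
  have hSi : S.index = 2 := by
    have := S.card_mul_index
    rw [hS72, hcardN] at this
    omega
  obtain ⟨n, hn, hnL⟩ : ∃ n ∈ ND, n ∉ f.range := by
    by_contra hcon
    push Not at hcon
    have : S = ⊤ := eq_top_iff.2 fun a _ => hcon a a.2
    rw [this, index_top] at hSi
    omega
  have hSzw : ∀ s : G, s ∈ ND → s ∈ f.range →
      (s * f zP * s⁻¹ = f zP ∨ s * f zP * s⁻¹ = (f zP)⁻¹) ∧ (s * f wP * s⁻¹ = f wP ∨ s * f wP * s⁻¹ = (f wP)⁻¹) := by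
    rintro _ hs ⟨x, rfl⟩
    obtain ⟨-, h1, h2⟩ := Finset.mem_filter.1 (hSA x hs)
    constructor
    · rcases normalizing x with e | e
      exacts [Or.inl (conj_hom f e), Or.inr ((conj_hom f e).trans (map_inv f _))]
    · rcases normalizing_w x h1 h2 with e | e
      exacts [Or.inl (conj_hom f e), Or.inr ((conj_hom f e).trans (map_inv f _))]
  obtain ⟨hez, hew, haz, haw, hee⟩ := signs
  have hoff : ∀ d ∈ D, d ≠ 1 → d ≠ f zP → d ≠ (f zP)⁻¹ → d ≠ f wP → d ≠ (f wP)⁻¹ →
      ∃ c, (c = 1 ∨ c = f eP) ∧ (d = c * f (zP * wP) * c⁻¹ ∨ d = (c * f (zP * wP) * c⁻¹)⁻¹) := by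
    intro d hd h1 h2 h3 h4 h5
    obtain ⟨t, ht, rfl⟩ := (hDeq.symm ▸ hd : d ∈ torusGrp.map f)
    rcases off_lines t ht (fun e => h1 (by rw [e, map_one])) (fun e => h2 (by rw [e]))
      (fun e => h3 (by rw [e, map_inv])) (fun e => h4 (by rw [e])) (fun e => h5 (by rw [e, map_inv])) with
      e | e | e | e <;> rw [e]
    · exact ⟨1, Or.inl rfl, Or.inl (by group)⟩
    · exact ⟨1, Or.inl rfl, Or.inr (by rw [map_inv]; group)⟩
    · exact ⟨_, Or.inr rfl, Or.inl (by rw [map_mul, map_mul f eP, map_inv])⟩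
    · exact ⟨_, Or.inr rfl, Or.inr (by rw [map_inv, map_mul, map_mul f eP, map_inv])⟩
  have hnz : n * f zP * n⁻¹ = f wP ∨ n * f zP * n⁻¹ = (f wP)⁻¹ := by
    by_contra hcon
    push Not at hcon
    have hne : f eP ∈ ND := hmemA _ (by rw [hA]; decide +kernel)
    have h1 : (⟨n, hn⟩ : ND)⁻¹ * (⟨f eP, hne⟩ * ⟨n, hn⟩) ∈ S := by
      rw [mul_mem_iff_of_index_two hSi]
      refine iff_of_false (fun h => hnL (inv_mem_iff.1 (show (n⁻¹ : G) ∈ f.range from h))) ?_
      rw [mul_mem_iff_of_index_two hSi]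
      exact fun h => hnL (h.1 ⟨eP, rfl⟩)
    obtain ⟨s, hsr, hseq⟩ : ∃ s : G, (s * f zP * s⁻¹ = f zP ∨ s * f zP * s⁻¹ = (f zP)⁻¹) ∧ f eP * n = n * s :=
      ⟨n⁻¹ * (f eP * n), (hSzw _ (mul_mem (inv_mem hn) (mul_mem hne hn)) h1).1, by group⟩
    have hmem : n * f zP * n⁻¹ ∈ D := (mem_normalizer_iff.1 hn _).1 (hmemD _ zP_mem)
    obtain ⟨t, ht, hte⟩ := (hDeq.symm ▸ hmem : n * f zP * n⁻¹ ∈ torusGrp.map f)
    have hfix : eP * t * eP⁻¹ = t ∨ eP * t * eP⁻¹ = t⁻¹ := by
      have e : f (eP * t * eP⁻¹) = n * (s * f zP * s⁻¹) * n⁻¹ := by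
        rw [← conj_hom f (rfl : eP * t * eP⁻¹ = _), hte,
          show f eP * (n * f zP * n⁻¹) * (f eP)⁻¹ = f eP * n * f zP * (f eP * n)⁻¹ by group, hseq]
        group
      rcases hsr with h | h <;> rw [h] at e
      · exact Or.inl (hfi (by rw [e, hte]))
      · exact Or.inr (hfi (by rw [e, map_inv, hte]; group))
    rcases fixed_lines t ht hfix with e | e | e | e | e <;> rw [e] at hte
    · rw [map_one, eq_comm, conj_eq_one_iff] at hte
      exact hz1 (hfz.symm.trans hte)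
    · exact hnL (hfnorm n (Or.inl hte.symm))
    · exact hnL (hfnorm n (Or.inr (by rw [← map_inv]; exact hte.symm)))
    · exact hcon.1 hte.symm
    · exact hcon.2 (by rw [← map_inv]; exact hte.symm)
  have hnw : n * f wP * n⁻¹ = f zP ∨ n * f wP * n⁻¹ = (f zP)⁻¹ := by
    have h2 : (⟨n, hn⟩ : ND) * ⟨n, hn⟩ ∈ S := by
      rw [mul_mem_iff_of_index_two hSi]
    have h3 := (hSzw _ (mul_mem hn hn) h2).1
    rw [show n * n * f zP * (n * n)⁻¹ = n * (n * f zP * n⁻¹) * n⁻¹ by group] at h3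
    rcases hnz with h | h <;> rw [h] at h3
    · exact h3
    · rw [← conj_inv] at h3
      rcases h3 with h3 | h3
      · exact Or.inr (by rw [← h3, inv_inv])
      · exact Or.inl (inv_injective h3)
  obtain ⟨m, hmz, hmw⟩ : ∃ m : G, m * f zP * m⁻¹ = f wP ∧ m * f wP * m⁻¹ = f zP := by
    have he1 : f eP * f zP * (f eP)⁻¹ = (f zP)⁻¹ := (conj_hom f hez).trans (map_inv f _)
    have he2 : f eP * f wP * (f eP)⁻¹ = f wP := conj_hom f hew
    have ha1 : f (1, bA) * f zP * (f (1, bA))⁻¹ = f zP := conj_hom f haz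
    have ha2 : f (1, bA) * f wP * (f (1, bA))⁻¹ = (f wP)⁻¹ := (conj_hom f haw).trans (map_inv f _)
    have comp : ∀ (a b c d e : G), b * c * b⁻¹ = d → a * d * a⁻¹ = e → a * b * c * (a * b)⁻¹ = e :=
      fun a b c d e h1 h2 => by rw [← h2, ← h1]; group
    have Ri : ∀ {a x x' : G}, a * x * a⁻¹ = x' → a * x⁻¹ * a⁻¹ = x'⁻¹ := fun h => by rw [← h, conj_inv]
    rcases hnz with h | h <;> rcases hnw with h' | h'
    · exact ⟨n, h, h'⟩
    · exact ⟨f eP * n, comp _ _ _ _ _ h he2, comp _ _ _ _ _ h' ((Ri he1).trans (inv_inv _))⟩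
    · exact ⟨f (1, bA) * n, comp _ _ _ _ _ h ((Ri ha2).trans (inv_inv _)), comp _ _ _ _ _ h' ha1⟩
    · exact ⟨f eP * (f (1, bA) * n), comp _ _ _ _ _ (comp _ _ _ _ _ h ((Ri ha2).trans (inv_inv _))) he2,
        comp _ _ _ _ _ (comp _ _ _ _ _ h' (Ri ha1)) ((Ri he1).trans (inv_inv _))⟩
  -- the centraliser of the torus
  have hcenD : ∀ x : G, Commute x (f zP) → Commute x (f wP) → ∃ a ∈ cdP, f a = x := by
    intro x h1 h2
    obtain ⟨a, rfl⟩ := hfnorm x (Or.inl (mul_inv_eq_iff_eq_mul.2 h1.eq))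
    exact ⟨a, cent_torus a (hfi (by rw [map_mul, map_mul]; exact h1)) (hfi (by rw [map_mul, map_mul]; exact h2)), rfl⟩
  have hcomm_conj : ∀ {x a a' b b' : G}, Commute a b → x * a * x⁻¹ = a' → x * b * x⁻¹ = b' → Commute a' b' := by
    intro x a a' b b' h h1 h2
    show a' * b' = b' * a'
    rw [← h1, ← h2, conj_mul, conj_mul, h.eq]
  have hmt : m * f tP * m⁻¹ = f tP := by
    obtain ⟨a, ha, hae⟩ := hcenD _ (hcomm_conj (x := m) (commute_hom f (show tP * wP = wP * tP by decide +kernel)) rfl hmw)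
      (hcomm_conj (x := m) (commute_hom f (show tP * zP = zP * tP by decide +kernel)) rfl hmz)
    rcases (cd_spec a ha).2.2.2.1 (hfi (by
      rw [map_mul, hae, conj_mul, ← map_mul, show tP * tP = 1 by decide +kernel, map_one]; group)) with e | e
    · exfalso
      rw [e, map_one, eq_comm, conj_eq_one_iff] at hae
      exact absurd (hfi (hae.trans f.map_one.symm)) (by decide +kernel)
    · rw [← hae, e]
  -- the conjugated generator
  obtain ⟨x, hx⟩ : m⁻¹ * f eP * m ∈ f.range := hfnorm _ (Or.inl (by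
    have : Commute (f eP) (f wP) := commute_hom f (by decide +kernel)
    rw [← hmz] at this
    calc m⁻¹ * f eP * m * f zP * (m⁻¹ * f eP * m)⁻¹
        = m⁻¹ * (f eP * (m * f zP * m⁻¹) * (f eP)⁻¹) * m := by group
      _ = f zP := by rw [this.eq]; group))
  obtain ⟨k1, -, hk1⟩ := third_gen x
    (hfi (by rw [map_mul, hx, map_one, show m⁻¹ * f eP * m * (m⁻¹ * f eP * m) = m⁻¹ * (f eP * f eP) * m by group,
      ← map_mul, hee, map_one]; group))
    (hfi (by
      rw [map_mul, map_mul, hx]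
      have : Commute (f eP) (f wP) := commute_hom f (by decide +kernel)
      rw [← hmz] at this
      calc m⁻¹ * f eP * m * f zP = m⁻¹ * (f eP * (m * f zP * m⁻¹)) * m := by group
        _ = _ := by rw [this.eq]; group))
    (hfi (by
      rw [map_mul, map_mul, map_inv, map_inv, hx]
      calc m⁻¹ * f eP * m * f wP * (m⁻¹ * f eP * m)⁻¹
          = m⁻¹ * (f eP * (m * f wP * m⁻¹) * (f eP)⁻¹) * m := by group
        _ = m⁻¹ * (f zP)⁻¹ * m := by rw [hmw, conj_hom f hez, map_inv]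
        _ = _ := by rw [← hmw]; group))
  obtain ⟨b, hb, hbk⟩ : ∃ b, (b = bA ∨ b = bB) ∧
      ((1 : Perm (Fin 3)), c5 ^ k1) * x * (1, c5 ^ k1)⁻¹ = (1, b) := by
    rcases hk1 with e | e
    exacts [⟨bA, Or.inl rfl, e⟩, ⟨bB, Or.inr rfl, e⟩]
  set m1 := m * (f (1, c5 ^ k1))⁻¹ with hm1
  have hkz : Commute (f (1, c5 ^ k1)) (f zP) ∧ Commute (f (1, c5 ^ k1)) (f wP) ∧ Commute (f (1, c5 ^ k1)) (f tP) := by
    rw [show ((1 : Perm (Fin 3)), c5 ^ k1) = wP ^ k1 from Prod.ext (one_pow k1).symm rfl, map_pow]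
    exact ⟨(commute_hom f (by decide +kernel)).pow_left _, (commute_hom f (by decide +kernel)).pow_left _,
      (commute_hom f (by decide +kernel)).pow_left _⟩
  have hfix : ∀ a : G, Commute (f (1, c5 ^ k1)) a → m1 * a * m1⁻¹ = m * a * m⁻¹ := fun a ha => by
    rw [hm1, show m * (f (1, c5 ^ k1))⁻¹ * a * (m * (f (1, c5 ^ k1))⁻¹)⁻¹
      = m * ((f (1, c5 ^ k1))⁻¹ * a * f (1, c5 ^ k1)) * m⁻¹ by group, ha.inv_left.eq, inv_mul_cancel_right]
  have h1z : m1 * f zP * m1⁻¹ = f wP := (hfix _ hkz.1).trans hmz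
  have h1w : m1 * f wP * m1⁻¹ = f zP := (hfix _ hkz.2.1).trans hmw
  have h1r : m1 * f (1, b) * m1⁻¹ = f eP := by
    rw [hm1, ← hbk, map_mul, map_mul, map_inv, hx]
    group
  obtain ⟨a, ha, hae⟩ := hcenD (m1 * m1)
    (mul_inv_eq_iff_eq_mul.1 (by rw [show m1 * m1 * f zP * (m1 * m1)⁻¹ = m1 * (m1 * f zP * m1⁻¹) * m1⁻¹ by group, h1z, h1w]))
    (mul_inv_eq_iff_eq_mul.1 (by rw [show m1 * m1 * f wP * (m1 * m1)⁻¹ = m1 * (m1 * f wP * m1⁻¹) * m1⁻¹ by group, h1w, h1z]))
  obtain ⟨-, -, -, -, j, -, hjA, hjB⟩ := cd_spec a ha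
  have hj : a * (1, b) * a⁻¹ = (1, c5 ^ j * b * (c5 ^ j)⁻¹) := by
    rcases hb with rfl | rfl
    exacts [hjA, hjB]
  have h1e : m1 * f eP * m1⁻¹ = f wP ^ j * f (1, b) * (f wP ^ j)⁻¹ := by
    have := conj_hom f hj
    rw [hae] at this
    rw [← h1r, show m1 * (m1 * f (1, b) * m1⁻¹) * m1⁻¹ = m1 * m1 * f (1, b) * (m1 * m1)⁻¹ by group, this,
      ← map_pow, ← map_inv, ← map_mul, ← map_mul]
    exact congrArg f (Prod.ext (by simp [wP]) rfl)
  set m2 := m1 * f zP ^ (2 * j) with hm2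
  have hzb : Commute (f zP) (f (1, b)) := commute_hom f (by
    rcases hb with rfl | rfl <;> decide +kernel)
  have hfix2 : ∀ c : G, Commute (f zP) c → m2 * c * m2⁻¹ = m1 * c * m1⁻¹ := fun c hc => by
    rw [hm2, show m1 * f zP ^ (2 * j) * c * (m1 * f zP ^ (2 * j))⁻¹
      = m1 * (f zP ^ (2 * j) * c * (f zP ^ (2 * j))⁻¹) * m1⁻¹ by group, (hc.pow_left _).eq, mul_inv_cancel_right]
  have h2e : m2 * f eP * m2⁻¹ = f (1, b) := by
    have hp : ∀ i : ℕ, m1 * f zP ^ i * m1⁻¹ = f wP ^ i := fun i => by rw [← conj_pow, h1z]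
    calc m2 * f eP * m2⁻¹ = m1 * f zP ^ (2 * j) * m1⁻¹ * (m1 * f eP * m1⁻¹) * (m1 * f zP ^ (2 * j) * m1⁻¹)⁻¹ := by
          rw [hm2]; group
      _ = f wP ^ (3 * j) * f (1, b) * (f wP ^ (3 * j))⁻¹ := by
          rw [hp, h1e, show 3 * j = 2 * j + j by ring, pow_add]; group
      _ = _ := by rw [pow_mul, ← map_pow, show wP ^ 3 = 1 by decide +kernel, map_one, one_pow]; group
  -- the involution-free centraliser
  have hoffy : ∃ c, (c = 1 ∨ c = f eP) ∧ (y = c * f (zP * wP) * c⁻¹ ∨ y = (c * f (zP * wP) * c⁻¹)⁻¹) := by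
    have hinv : ∀ a : G, centralizer ({a⁻¹} : Set G) = centralizer ({a} : Set G) := fun a => by
      ext c
      rw [mem_centralizer_singleton_iff, mem_centralizer_singleton_iff]
      exact Commute.inv_right_iff (a := c) (b := a)
    have hw360 : Nat.card (centralizer ({f wP} : Set G)) = 360 := by rw [← hmz, card_cent_conj, hfz, hCz]
    refine hoff y hy (fun e => ?_) (fun e => ?_) (fun e => ?_) (fun e => ?_) (fun e => ?_) <;> rw [e] at hycard
    · have : centralizer ({(1 : G)} : Set G) = ⊤ := eq_top_iff.2 fun a _ => mem_centralizer_singleton_iff.2 (by simp)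
      rw [this, card_top] at hycard
      have := (card_le_card_group (centralizer ({z} : Set G)))
      omega
    · rw [hfz] at hycard; omega
    · rw [hinv, hfz] at hycard; omega
    · omega
    · rw [hinv] at hycard; omega
  obtain ⟨c, hc, hcy⟩ := hoffy
  have hcC : centralizer ({y} : Set G) = centralizer ({c * f (zP * wP) * c⁻¹} : Set G) := by
    rcases hcy with e | e
    · rw [e]
    · ext a
      rw [e, mem_centralizer_singleton_iff, mem_centralizer_singleton_iff]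
      exact Commute.inv_right_iff (a := a) (b := _)
  have hcN : c ∈ ND := by
    rcases hc with rfl | rfl
    exacts [one_mem _, hmemA _ (by rw [hA]; decide +kernel)]
  have hconjC : ∀ x ∈ centralizer ({f (zP * wP)} : Set G), c * x * c⁻¹ ∈ centralizer ({y} : Set G) := fun x hx => by
    rw [hcC, mem_centralizer_singleton_iff, conj_mul, conj_mul, mem_centralizer_singleton_iff.1 hx]
  have hDy : D ≤ centralizer ({y} : Set G) := fun d hd => mem_centralizer_singleton_iff.2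
    (congrArg Subtype.val (hcomm.is_comm.comm (⟨d, hd⟩ : D) ⟨y, hy⟩))
  refine ⟨⟨f, m2, D, hDeq, hfi, hfnorm, ?_, ?_, ?_, b, hb, ?_, h2e, by rw [hfz, hCz], ?_, ?_, ?_, hcardN,
    eNC.toMonoidHom.comp (QuotientGroup.mk' _), eNC.surjective.comp (QuotientGroup.mk'_surjective _), ?_, h27⟩⟩
  · exact (hfix2 _ (Commute.refl _)).trans h1z
  · exact (hfix2 _ (commute_hom f (by decide +kernel))).trans h1w
  · exact ((hfix2 _ (commute_hom f (by decide +kernel))).trans (hfix _ hkz.2.2)).trans hmt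
  · exact (hfix2 _ hzb).trans h1r
  · rw [← card_cent_conj c, ← hcC, hycard]
  · intro x hx d hd
    have h1 := hyn.conj_mem ⟨c * d * c⁻¹, hDy ((mem_normalizer_iff.1 hcN d).1 hd)⟩
      ((mem_normalizer_iff.1 hcN d).1 hd) ⟨_, hconjC x hx⟩
    have h2 : c * x * c⁻¹ * (c * d * c⁻¹) * (c * x * c⁻¹)⁻¹ ∈ D := h1
    rw [show c * x * c⁻¹ * (c * d * c⁻¹) * (c * x * c⁻¹)⁻¹ = c * (x * d * x⁻¹) * c⁻¹ by group] at h2
    exact (mem_normalizer_iff.1 hcN _).2 h2
  · intro x hx
    have h := hysq _ (hconjC x hx)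
    rw [conj_pow] at h
    exact (mem_normalizer_iff.1 hcN _).2 h
  · intro a
    show eNC (QuotientGroup.mk' _ a) = 1 ↔ _
    rw [MulEquiv.map_eq_one_iff, QuotientGroup.mk'_apply, QuotientGroup.eq_one_iff, mem_subgroupOf]

end Cfsg.Lib.SymEightLocal
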