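import Cfsg.Agent.LocalThree.SymEightLocal.Pair
import Cfsg.Agent.Coprime.Generation

/-!
A self-centralising elementary group of order sixteen.
-/

set_option autoImplicit false
set_option synthInstance.maxSize 4096
set_option maxRecDepth 100000
set_option maxHeartbeats 1000000

namespace Cfsg.Lib.SymEightLocal

open Equiv Subgroup Cfsg.Lib.AltEightLocal

universe u

/-- First involution on four points. -/
abbrev p1 : Perm (Fin 5) := Equiv.swap 0 1 * Equiv.swap 2 3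
/-- Second involution on four points. -/
abbrev p2 : Perm (Fin 5) := Equiv.swap 0 2 * Equiv.swap 1 3
/-- The four-group. -/
def vset : Finset (Perm (Fin 5)) := {1, p1, p2, p1 * p2}

theorem vset_grp : (∀ a ∈ vset, ∀ b ∈ vset, a * b ∈ vset ∧ a * b = b * a) ∧ (∀ a ∈ vset, a⁻¹ = a) ∧
    (∀ a ∈ vset, Perm.sign a = 1) ∧ (∀ a ∈ vset, a * a = 1) ∧ (∀ a ∈ vset, c5 * a * c5⁻¹ ∈ vset) ∧
    (∀ a ∈ vset, bA * a * bA⁻¹ ∈ vset) ∧ vset.card = 4 := by decide +kernel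

/-- The four-group as a subgroup. -/
def V : Subgroup A5 where
  carrier := {a | (a : Perm (Fin 5)) ∈ vset}
  one_mem' := by show (1 : Perm (Fin 5)) ∈ vset; decide +kernel
  mul_mem' {a b} ha hb := (vset_grp.1 _ ha _ hb).1
  inv_mem' {a} ha := by
    show (a : Perm (Fin 5))⁻¹ ∈ vset
    rw [vset_grp.2.1 _ ha]; exact ha

theorem mem_V {a : A5} : a ∈ V ↔ (a : Perm (Fin 5)) ∈ vset := Iff.rfl

theorem card_V : Nat.card V = 4 := by
  rw [← vset_grp.2.2.2.2.2.2, ← Fintype.card_coe, ← Nat.card_eq_fintype_card]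
  exact Nat.card_congr
    { toFun := fun a => ⟨(a : A5), a.2⟩
      invFun := fun a => ⟨⟨a.1, Perm.mem_alternatingGroup.2 (vset_grp.2.2.1 _ a.2)⟩, a.2⟩
      left_inv := fun a => rfl
      right_inv := fun a => rfl }

theorem cent_v : ∀ a : Pr, a * zP = zP * a → (∀ v ∈ vset, a * ((1 : Perm (Fin 3)), v) = (1, v) * a) →
    ∃ i ∈ Finset.range 3, ∃ v ∈ vset, a = zP ^ i * (1, v) := by decide +kernel

theorem stab_v : ∀ a : Pr, a * zP = zP * a → (∀ v ∈ vset, a.2 * v * a.2⁻¹ ∈ vset) →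
    ∃ i ∈ Finset.range 3, ∃ j ∈ Finset.range 3, ∃ v ∈ vset,
      a = zP ^ i * wP ^ j * (1, v) ∨ a = zP ^ i * wP ^ j * (1, v) * (1, bA) := by decide +kernel

theorem v_facts : (∀ i ∈ Finset.range 3, wP ^ i * ((1 : Perm (Fin 3)), p1) = (1, p1) * wP ^ i → i = 0) ∧
    (tP * ((1 : Perm (Fin 3)), p1) * tP⁻¹).2 ∉ vset ∧ (tP * ((1 : Perm (Fin 3)), p1) * tP⁻¹).1 = 1 ∧
    Perm.sign (tP * ((1 : Perm (Fin 3)), p1) * tP⁻¹).2 = 1 ∧ p1 ∈ vset ∧
    (∀ v ∈ vset, ((1 : Perm (Fin 3)), v) * wP = wP * (1, v) → v = 1) := by decide +kernel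

theorem disjoint_of_coprime_card {G : Type u} [Group G] [Finite G] {H K : Subgroup G}
    (h : (Nat.card H).Coprime (Nat.card K)) : Disjoint H K := by
  refine Subgroup.disjoint_def.2 fun {x} hx hy => orderOf_eq_one_iff.1 ?_
  refine Nat.eq_one_of_dvd_coprimes h ?_ ?_
  · rw [← orderOf_mk x hx]; exact orderOf_dvd_natCard _
  · rw [← orderOf_mk x hy]; exact orderOf_dvd_natCard _

/-- The data with crossed involutions. -/
structure Crossed (G : Type u) [Group G] extends Loc G where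
  hB : b = bB

namespace Crossed

variable {G : Type u} [Group G] [Finite G] (B : Crossed G)

/-- Exchanging the lines. -/
def swap : Crossed G := ⟨B.toLoc.swap, B.hB⟩

/-- The product of the two groups. -/
def φ : A5 × A5 →* G := B.toLoc.pair B.hB

theorem φ_apply (a b : A5) : B.φ (a, b) = B.toLoc.e1 a * B.toLoc.e2 b := rfl

theorem φ_inj : Function.Injective B.φ := B.toLoc.pair_inj B.hB

theorem φ_left (a : A5) : B.φ (a, 1) = B.toLoc.e1 a := by rw [φ_apply, map_one, mul_one]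

theorem φ_right (b : A5) : B.φ (1, b) = B.toLoc.e2 b := by rw [φ_apply, map_one, one_mul]

theorem swap_φ (a b : A5) : B.swap.φ (a, b) = B.φ (b, a) := by
  rw [φ_apply, φ_apply, show B.swap.toLoc.e1 a = B.toLoc.e2 a from rfl,
    show B.swap.toLoc.e2 b = B.toLoc.e1 b from DFunLike.congr_fun B.toLoc.swap_e2 b,
    (B.toLoc.comm_e B.hB b a).eq]

/-- The group of order sixteen. -/
def A : Subgroup G := (V.prod V).map B.φ

theorem mem_A {x : G} : x ∈ B.A ↔ ∃ a ∈ V, ∃ b ∈ V, B.φ (a, b) = x := by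
  constructor
  · rintro ⟨⟨a, b⟩, ⟨ha, hb⟩, e⟩
    exact ⟨a, ha, b, hb, e⟩
  · rintro ⟨a, ha, b, hb, e⟩
    exact ⟨(a, b), ⟨ha, hb⟩, e⟩

theorem swap_A : B.swap.A = B.A := by
  ext x
  rw [mem_A, mem_A]
  exact ⟨fun ⟨a, ha, b, hb, e⟩ => ⟨b, hb, a, ha, by rw [← swap_φ, e]⟩,
    fun ⟨a, ha, b, hb, e⟩ => ⟨b, hb, a, ha, by rw [swap_φ, e]⟩⟩

theorem card_A : Nat.card B.A = 16 := by
  rw [A, card_map_of_injective B.φ_inj, Nat.card_congr (prodEquiv V V).toEquiv, Nat.card_prod, card_V]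

theorem A_sq {x : G} (hx : x ∈ B.A) : x * x = 1 := by
  obtain ⟨a, ha, b, hb, rfl⟩ := B.mem_A.1 hx
  rw [← map_mul, show ((a, b) : A5 × A5) * (a, b) = 1 from Prod.ext (Subtype.ext (vset_grp.2.2.2.1 _ ha))
    (Subtype.ext (vset_grp.2.2.2.1 _ hb)), map_one]

theorem A_comm {x y : G} (hx : x ∈ B.A) (hy : y ∈ B.A) : Commute x y := by
  have h := B.A_sq (mul_mem hx hy)
  show x * y = y * x
  calc x * y = x * (x * y * (x * y)) * y := by rw [h, mul_one]
    _ = (x * x) * (y * x) * (y * y) := by group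
    _ = y * x := by rw [B.A_sq hx, B.A_sq hy, one_mul, mul_one]

theorem e1_mem {v : A5} (hv : v ∈ V) : B.toLoc.e1 v ∈ B.A := B.mem_A.2 ⟨v, hv, 1, one_mem V, B.φ_left v⟩

theorem e2_mem {v : A5} (hv : v ∈ V) : B.toLoc.e2 v ∈ B.A := B.mem_A.2 ⟨1, one_mem V, v, hv, B.φ_right v⟩

theorem mem_e1 {x : G} (hx : x ∈ B.A) {a : A5} (ha : B.toLoc.e1 a = x) : a ∈ V := by
  obtain ⟨v, hv, v', hv', rfl⟩ := B.mem_A.1 hx
  rw [← B.φ_left] at ha
  have e : a = v := (Prod.ext_iff.1 (B.φ_inj ha)).1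
  rw [e]; exact hv

theorem mem_e2 {x : G} (hx : x ∈ B.A) {b : A5} (hb : B.toLoc.e2 b = x) : b ∈ V := by
  obtain ⟨v, hv, v', hv', rfl⟩ := B.mem_A.1 hx
  rw [← B.φ_right] at hb
  have e : b = v' := (Prod.ext_iff.1 (B.φ_inj hb)).2
  rw [e]; exact hv'

theorem c5_mem : c5 ∈ A5 := by rw [Perm.mem_alternatingGroup]; decide +kernel

theorem z_eq : B.toLoc.z = B.φ (1, ⟨c5, c5_mem⟩) := by rw [φ_right]; exact B.toLoc.gz.symm

theorem w_eq : B.toLoc.w = B.φ (⟨c5, c5_mem⟩, 1) := by rw [φ_left]; rfl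

theorem V_conj {v : A5} (hv : v ∈ V) : (⟨c5, c5_mem⟩ : A5) * v * (⟨c5, c5_mem⟩ : A5)⁻¹ ∈ V :=
  vset_grp.2.2.2.2.1 _ hv

theorem D_norm : B.D ≤ normalizer (B.A : Set G) := by
  have hz : B.toLoc.z ∈ normalizer (B.A : Set G) := mem_normalizer_fintype fun x hx => by
    obtain ⟨a, ha, b, hb, rfl⟩ := B.mem_A.1 hx
    rw [B.z_eq, ← map_inv, ← map_mul, ← map_mul]
    exact B.mem_A.2 ⟨a, ha, _, V_conj hb, congrArg B.φ (Prod.ext (by simp) rfl)⟩
  have hw : B.toLoc.w ∈ normalizer (B.A : Set G) := mem_normalizer_fintype fun x hx => by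
    obtain ⟨a, ha, b, hb, rfl⟩ := B.mem_A.1 hx
    rw [B.w_eq, ← map_inv, ← map_mul, ← map_mul]
    exact B.mem_A.2 ⟨_, V_conj ha, b, hb, congrArg B.φ (Prod.ext rfl (by simp))⟩
  intro d hd
  obtain ⟨t, ht, rfl⟩ := B.toLoc.of_mem_D hd
  obtain ⟨i, j, rfl⟩ := torus_decomp (mem_torusGrp.2 ht)
  rw [map_mul, map_pow, map_pow]
  exact mul_mem (pow_mem hz i) (pow_mem hw j)

theorem cent_z_A {x : G} (hz : Commute x B.toLoc.z) (hA : ∀ a ∈ B.A, Commute x a) : x ∈ B.A := by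
  obtain ⟨a, rfl, ha⟩ := B.toLoc.cent_z hz
  obtain ⟨i, hi, v, hv, rfl⟩ := cent_v a ha fun v hv => B.toLoc.comm_f_iff.1
    (hA _ (B.e1_mem (v := ⟨v, Perm.mem_alternatingGroup.2 (vset_grp.2.2.1 v hv)⟩) hv))
  set v' : A5 := ⟨v, Perm.mem_alternatingGroup.2 (vset_grp.2.2.1 v hv)⟩
  have hp : p1 ∈ A5 := Perm.mem_alternatingGroup.2 (vset_grp.2.2.1 _ v_facts.2.2.2.2.1)
  have h1 : Commute (B.f (zP ^ i * (1, v))) (B.toLoc.e2 ⟨p1, hp⟩) := hA _ (B.e2_mem v_facts.2.2.2.2.1)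
  have h2 : Commute (B.toLoc.e1 v') (B.toLoc.e2 ⟨p1, hp⟩) := B.toLoc.comm_e B.hB _ _
  have h3 : Commute (B.f (zP ^ i)) (B.toLoc.e2 ⟨p1, hp⟩) := by
    rw [show B.f (zP ^ i) = B.f (zP ^ i * (1, v)) * (B.toLoc.e1 v')⁻¹ by
      rw [map_mul]; exact (mul_inv_cancel_right _ _).symm]
    exact h1.mul_left h2.inv_left
  rw [map_pow, show B.f zP = B.toLoc.g wP from B.toLoc.gz.symm, ← map_pow] at h3
  obtain rfl := v_facts.1 i hi (B.toLoc.comm_g_iff.1 h3)
  rw [pow_zero, one_mul]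
  exact B.e1_mem (v := v') hv

theorem cent_off {d x : G} (hd : d ∈ B.D) (h0 : d ≠ 1) (h1 : d ≠ B.toLoc.z) (h2 : d ≠ B.toLoc.z⁻¹)
    (h3 : d ≠ B.toLoc.w) (h4 : d ≠ B.toLoc.w⁻¹) (hx : Commute x d) : x ∈ normalizer (B.D : Set G) := by
  obtain ⟨a, ha, rfl⟩ := B.toLoc.of_mem_D hd
  have hzw : ∀ y, Commute y (B.f (zP * wP)) → y ∈ normalizer (B.D : Set G) := fun y hy =>
    B.toLoc.mem_N (B.zw_norm y (mem_centralizer_singleton_iff.2 hy.eq))
  have he : B.f eP ∈ normalizer (B.D : Set G) := B.toLoc.cent_D_aux (by decide +kernel) (by decide +kernel)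
  have hconj : Commute x (B.f (eP * (zP * wP) * eP⁻¹)) → x ∈ normalizer (B.D : Set G) := fun h => by
    have k1 := hzw ((B.f eP)⁻¹ * x * B.f eP) (by
      rw [map_mul, map_mul B.f eP, map_inv] at h
      show _ * _ = _ * _
      calc (B.f eP)⁻¹ * x * B.f eP * B.f (zP * wP)
          = (B.f eP)⁻¹ * (x * (B.f eP * B.f (zP * wP) * (B.f eP)⁻¹)) * B.f eP := by group
        _ = _ := by rw [h.eq]; group)
    have := mul_mem (mul_mem he k1) (inv_mem he)
    rwa [show B.f eP * ((B.f eP)⁻¹ * x * B.f eP) * (B.f eP)⁻¹ = x by group] at this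
  rcases off_lines a ha (fun e => h0 (by rw [e, map_one])) (fun e => h1 (by rw [e]))
    (fun e => h2 (by rw [e, map_inv])) (fun e => h3 (by rw [e])) (fun e => h4 (by rw [e, map_inv])) with
    e | e | e | e <;> rw [e] at hx
  · exact hzw x hx
  · rw [map_inv] at hx; exact hzw x (Commute.inv_right_iff.1 hx)
  · exact hconj hx
  · rw [map_inv] at hx; exact hconj (Commute.inv_right_iff.1 hx)

/-- The group of order sixteen is its own centraliser. -/
theorem cent_A : centralizer (B.A : Set G) = B.A := by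
  haveI : Fact (Nat.Prime 3) := ⟨Nat.prime_three⟩
  refine le_antisymm ?_ fun x hx => mem_centralizer_iff.2 fun a ha => (B.A_comm ha hx).eq
  set K := centralizer (B.A : Set G) with hK
  have h3 : ¬ 3 ∣ Nat.card K := by
    intro h
    obtain ⟨q, hq⟩ := exists_prime_orderOf_dvd_card' (G := K) 3 h
    have hq' : orderOf (q : G) = 3 := by rw [orderOf_coe, hq]
    have h16 : 16 ∣ Nat.card (centralizer ({(q : G)} : Set G)) := by
      rw [← B.card_A]
      exact card_dvd_of_le fun a ha => mem_centralizer_singleton_iff.2 (mem_centralizer_iff.1 q.2 a ha)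
    rcases B.toLoc.card_cent_three (by rw [← hq']; exact pow_orderOf_eq_one _)
      (fun e => by rw [e, orderOf_one] at hq'; omega) with e | e <;> rw [e] at h16 <;> norm_num at h16
  have hnorm : B.D ≤ normalizer (K : Set G) := fun d hd => mem_normalizer_fintype fun x hx => by
    refine mem_centralizer_iff.2 fun a ha => ?_
    have h := mem_centralizer_iff.1 hx _ ((mem_normalizer_iff''.1 (B.D_norm hd) a).1 ha)
    calc a * (d * x * d⁻¹) = d * (d⁻¹ * a * d * x) * d⁻¹ := by group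
      _ = _ := by rw [h]; group
  have hcop : (Nat.card B.D).Coprime (Nat.card K) := by
    rw [B.toLoc.card_D, show (9 : ℕ) = 3 ^ 2 from rfl]
    exact ((Nat.Prime.coprime_iff_not_dvd Nat.prime_three).2 h3).pow_left 2
  haveI := B.toLoc.D_comm
  have hnc : ¬ IsCyclic B.D := by
    rintro ⟨⟨a, ha⟩⟩
    have h1 : orderOf a ∣ 3 := orderOf_dvd_of_pow_eq_one (Subtype.ext (B.toLoc.D_exp a.2))
    have h2 := (orderOf_eq_card_of_forall_mem_zpowers ha).trans B.toLoc.card_D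
    rw [h2] at h1
    norm_num at h1
  rw [← Cfsg.Lib.Coprime.centralizerJoin_eq hnc hnorm hcop]
  refine iSup₂_le fun d hd => ?_
  obtain ⟨hdD, hd1⟩ := (show d ∈ B.D ∧ d ≠ 1 from hd)
  intro x hx
  obtain ⟨hxK, hxd⟩ := mem_inf.1 hx
  have hxd' : Commute x d := mem_centralizer_singleton_iff.1 hxd
  have hA : ∀ a ∈ B.A, Commute x a := fun a ha => (mem_centralizer_iff.1 hxK a ha).symm
  have hw : Commute x B.toLoc.w → x ∈ B.A := fun h => by
    rw [← B.swap_A]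
    exact B.swap.cent_z_A (show Commute x (B.toLoc.g zP) by rw [B.toLoc.gw]; exact h) (by rw [B.swap_A]; exact hA)
  by_cases h1 : d = B.toLoc.z
  · exact B.cent_z_A (h1 ▸ hxd') hA
  by_cases h2 : d = B.toLoc.z⁻¹
  · exact B.cent_z_A (Commute.inv_right_iff.1 (h2 ▸ hxd')) hA
  by_cases h3' : d = B.toLoc.w
  · exact hw (h3' ▸ hxd')
  by_cases h4 : d = B.toLoc.w⁻¹
  · exact hw (Commute.inv_right_iff.1 (h4 ▸ hxd'))
  refine B.cent_z_A ?_ hA
  have hxN := B.cent_off hdD hd1 h1 h2 h3' h4 hxd'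
  have hc : x * B.toLoc.z * x⁻¹ * B.toLoc.z⁻¹ = 1 := by
    have m1 : x * B.toLoc.z * x⁻¹ * B.toLoc.z⁻¹ ∈ B.D :=
      mul_mem ((mem_normalizer_iff.1 hxN _).1 B.toLoc.z_mem) (inv_mem B.toLoc.z_mem)
    have m2 : x * B.toLoc.z * x⁻¹ * B.toLoc.z⁻¹ ∈ K := by
      rw [show x * B.toLoc.z * x⁻¹ * B.toLoc.z⁻¹ = x * (B.toLoc.z * x⁻¹ * B.toLoc.z⁻¹) by group]
      exact mul_mem hxK ((mem_normalizer_iff.1 (hnorm B.toLoc.z_mem) _).1 (inv_mem hxK))
    exact (Subgroup.disjoint_def.1 (Cfsg.Lib.SymEightLocal.disjoint_of_coprime_card hcop)) m1 m2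
  exact mul_inv_eq_iff_eq_mul.1 (mul_inv_eq_one.1 hc)

end Crossed

end Cfsg.Lib.SymEightLocal
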