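import Cfsg.Agent.LocalThree.SymEightLocal.Diagonal
import Cfsg.Agent.Transfer.ThompsonTransfer

/-!
A normal subgroup of index four.
-/

set_option autoImplicit false
set_option synthInstance.maxSize 4096
set_option maxRecDepth 100000
set_option maxHeartbeats 1000000

namespace Cfsg.Lib.SymEightLocal.Crossed

open Equiv Subgroup Cfsg.Lib.AltEightLocal

universe u

variable {G : Type u} [Group G] [Finite G] (B : Crossed G)

theorem inv₂_swap : B.IsSwap B.inv₂ := ⟨B.inv₂_sq, B.inv₂_ND, Or.inl B.inv₂_z⟩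

theorem sq_range (K : Subgroup G) (h : ∀ a : A5, B.toLoc.e1 (a * a) ∈ K ∧ B.toLoc.e2 (a * a) ∈ K) :
    B.φ.range ≤ K := by
  have hs : ∀ c : Perm (Fin 5), c * c * c = 1 → ∀ hc : c ∈ A5, (⟨c, hc⟩ : A5) = ⟨c, hc⟩ * ⟨c, hc⟩ * (⟨c, hc⟩ * ⟨c, hc⟩) :=
    fun c h hc => Subtype.ext (by show c = c * c * (c * c); rw [← mul_assoc, h, one_mul])
  have hc : c5 * c5 * c5 = 1 := by decide +kernel
  have hd : d5 * d5 * d5 = 1 := by decide +kernel
  have h1 : K.comap B.toLoc.e1 = ⊤ := gen5 _ (fun m => by rw [hs _ hc m]; exact (h _).1)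
    (fun m => by rw [hs _ hd m]; exact (h _).1)
  have h2 : K.comap B.toLoc.e2 = ⊤ := gen5 _ (fun m => by rw [hs _ hc m]; exact (h _).2)
    (fun m => by rw [hs _ hd m]; exact (h _).2)
  rintro _ ⟨⟨a, b⟩, rfl⟩
  rw [φ_apply]
  exact mul_mem (h1.ge (mem_top a)) (h2.ge (mem_top b))

theorem A_le_range : B.A ≤ B.φ.range := map_le_range _ _

theorem D_le_range : B.D ≤ B.φ.range := fun _ hd => by
  obtain ⟨c, c', -, rfl⟩ := B.D_φ hd
  exact ⟨_, rfl⟩

include B in
/-- The first transfer. -/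
theorem exists_first : ∃ M : Subgroup G, M.Normal ∧ M.index = 2 ∧ B.tau ∉ M := by
  obtain ⟨h64, h128⟩ := B.two_part
  let Q : Subgroup G :=
    { carrier := {x | x ∈ B.A ∨ x * B.inv₂ ∈ B.A}
      one_mem' := Or.inl (one_mem _)
      mul_mem' := fun {a b} ha hb => by
        have hn : ∀ y ∈ B.A, B.inv₂ * y * B.inv₂⁻¹ ∈ B.A := fun y hy => (mem_normalizer_iff.1 B.inv₂_NA y).1 hy
        rcases ha with ha | ha <;> rcases hb with hb | hb
        · exact Or.inl (mul_mem ha hb)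
        · exact Or.inr (by rw [mul_assoc]; exact mul_mem ha hb)
        · refine Or.inr ?_
          rw [show a * b * B.inv₂ = a * B.inv₂ * (B.inv₂⁻¹ * b * B.inv₂⁻¹⁻¹) by group, B.inv₂_inv]
          have := hn b hb
          exact mul_mem ha this
        · refine Or.inl ?_
          rw [show a * b = a * B.inv₂ * (B.inv₂⁻¹ * (b * B.inv₂) * B.inv₂⁻¹) by group, B.inv₂_inv]
          have := hn _ hb
          rw [B.inv₂_inv] at this
          exact mul_mem ha this
      inv_mem' := fun {a} ha => by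
        rcases ha with ha | ha
        · exact Or.inl (inv_mem ha)
        · refine Or.inr ?_
          have := (mem_normalizer_iff.1 B.inv₂_NA _).1 (inv_mem ha)
          rwa [show B.inv₂ * (a * B.inv₂)⁻¹ * B.inv₂⁻¹ = (B.inv₂ * B.inv₂⁻¹) * a⁻¹ * B.inv₂⁻¹ by group,
            mul_inv_cancel, one_mul, B.inv₂_inv] at this }
  have hiA : B.inv₂ ∉ B.A := fun h => B.swap_not_U B.inv₂_swap (by
    exact absurd (B.A_inf_ND h B.inv₂_ND) (B.isSwap_ne B.inv₂_swap).2)
  have hQc : Nat.card Q = 32 := by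
    have hAQ : B.A ≤ Q := fun x hx => Or.inl hx
    have hiQ : B.inv₂ ∈ Q := Or.inr (by rw [B.inv₂_sq]; exact one_mem _)
    have hi : (B.A.subgroupOf Q).index = 2 := by
      rw [index_eq_two_iff]
      refine ⟨⟨B.inv₂, hiQ⟩, fun b => ?_⟩
      rw [mem_subgroupOf, mem_subgroupOf, coe_mul]
      rcases b.2 with h | h
      · exact Or.inr ⟨h, fun h' => hiA ((mul_mem_cancel_left h).1 h')⟩
      · exact Or.inl ⟨h, fun h' => hiA ((mul_mem_cancel_left h').1 h)⟩
    have := (B.A.subgroupOf Q).card_mul_index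
    rw [hi, Nat.card_congr (subgroupOfEquivOfLe hAQ).toEquiv, B.card_A] at this
    omega
  have hidx := Q.card_mul_index
  rw [hQc] at hidx
  obtain ⟨k, hk⟩ := h64
  obtain ⟨m, hm⟩ : 2 ∣ Q.index := ⟨k, by omega⟩
  have hodd : Odd m := by
    rw [Nat.odd_iff]
    by_contra h
    exact h128 ⟨m / 2, by omega⟩
  refine Cfsg.Lib.Transfer.exists_index_two_not_mem Q hodd hm (u := B.tau) (orderOf_eq_prime (by rw [pow_two, B.tau_sq])
    (fun e => ?_)) fun g hg => ?_
  · obtain ⟨c, hc⟩ := B.isT_tau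
    exact B.toLoc.t_ne (conj_eq_one_iff.1 (hc.trans e))
  have hT := B.toLoc.isT_conj B.isT_tau g⁻¹
  rw [inv_inv] at hT
  rcases hg with h | h
  · exact B.not_isT_A h hT
  · set x := g⁻¹ * B.tau * g with hx
    have hx2 : x * x = 1 := by
      rw [hx, show g⁻¹ * B.tau * g * (g⁻¹ * B.tau * g) = g⁻¹ * (B.tau * B.tau) * g by group, B.tau_sq]; group
    obtain ⟨a, ha, b, hb, he⟩ := B.mem_A.1 h
    have hxe : x = B.φ (a, b) * B.inv₂ := by rw [he, mul_assoc, B.inv₂_sq, mul_one]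
    obtain ⟨b', hb', hia⟩ := B.inv₂_left a ha
    obtain ⟨a', ha', hib⟩ := B.inv₂_right b hb
    have hfix : B.inv₂ * B.φ (a, b) * B.inv₂⁻¹ = B.φ (a, b) := by
      rw [hxe] at hx2
      rw [B.inv₂_inv]
      have h1 : B.φ (a, b) * (B.inv₂ * B.φ (a, b) * B.inv₂) = 1 := by rw [← hx2]; group
      rw [← inv_eq_of_mul_eq_one_right h1]
      exact inv_eq_of_mul_eq_one_right (B.A_sq (B.mem_A.2 ⟨a, ha, b, hb, rfl⟩))
    rw [show ((a, b) : A5 × A5) = (a, 1) * (1, b) by simp, map_mul, ← conj_mul, hia, hib, ← map_mul, ← map_mul] at hfix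
    have hb'b : b' = b := by simpa using congrArg Prod.snd (B.φ_inj hfix)
    have hc : x = B.φ (a, 1) * B.inv₂ * (B.φ (a, 1))⁻¹ := by
      have hai : (B.φ (a, 1))⁻¹ = B.φ (a, 1) :=
        inv_eq_of_mul_eq_one_right (B.A_sq (B.mem_A.2 ⟨a, ha, 1, one_mem V, rfl⟩))
      rw [hxe, hai, show B.φ (a, 1) * B.inv₂ * B.φ (a, 1) = B.φ (a, 1) * (B.inv₂ * B.φ (a, 1) * B.inv₂⁻¹) * B.inv₂ by
        group, hia, hb'b, ← map_mul]
      simp
    refine B.swap_not_T B.inv₂_swap ?_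
    have := B.toLoc.isT_conj hT (B.φ (a, 1))⁻¹
    rwa [hc, inv_inv, show (B.φ (a, 1))⁻¹ * (B.φ (a, 1) * B.inv₂ * (B.φ (a, 1))⁻¹) * B.φ (a, 1) = B.inv₂ by group] at this

include B in
/-- A normal subgroup of index four containing both groups. -/
theorem exists_quarter : ∃ K : Subgroup G, K.Normal ∧ K.index = 4 ∧ B.φ.range ≤ K ∧ (∀ g : G, g * g ∈ K) ∧
    B.tau ∉ K ∧ (∀ x ∈ K, ∀ hM : x ∈ B.M, x ∈ B.D) := by
  obtain ⟨M1, hM1n, hM1i, hτ⟩ := B.exists_first
  obtain ⟨h64, h128⟩ := B.two_part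
  have hr1 : B.φ.range ≤ M1 := B.sq_range M1 fun a => ⟨by rw [map_mul]; exact mul_self_mem_of_index_two hM1i _,
    by rw [map_mul]; exact mul_self_mem_of_index_two hM1i _⟩
  obtain ⟨n, hn, hnM⟩ : ∃ n, (B.IsSwap n ∧ n ∈ B.M) ∧ n ∈ M1 := by
    by_cases hi : B.inv₂ ∈ M1
    · exact ⟨_, ⟨B.inv₂_swap, B.inv₂_M⟩, hi⟩
    have hit : B.inv₂ * B.tau ∈ M1 := (mul_mem_iff_of_index_two hM1i).2 (iff_of_false hi hτ)
    set y := B.inv₂ * B.tau
    have hyM : y ∈ B.M := mul_mem B.inv₂_M B.tau_M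
    refine ⟨y * (y * y), ⟨⟨?_, (mul_mem hyM (mul_mem hyM hyM)).2, Or.inr ?_⟩, mul_mem hyM (mul_mem hyM hyM)⟩,
      mul_mem hit (mul_mem hit hit)⟩
    · rw [show y * (y * y) * (y * (y * y)) = (y * y) ^ 3 by simp only [pow_succ, pow_zero, one_mul, mul_assoc]]
      exact B.toLoc.D_exp (B.M_sq hyM)
    · rw [show y * (y * y) * B.toLoc.z * (y * (y * y))⁻¹ = y * (y * y * B.toLoc.z * (y * y)⁻¹) * y⁻¹ by group,
        B.D_conj (B.M_sq hyM) B.toLoc.z_mem, show B.inv₂ * B.tau * B.toLoc.z * (B.inv₂ * B.tau)⁻¹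
          = B.inv₂ * (B.tau * B.toLoc.z * B.tau⁻¹) * B.inv₂⁻¹ by group, B.tau_z, ← conj_inv, B.inv₂_z]
  obtain ⟨hns, hnMM⟩ := hn
  -- the second transfer
  have hcard : 2 * Nat.card M1 = Nat.card G := by rw [← M1.card_mul_index, hM1i, mul_comm]
  have hAM : B.A ≤ M1 := B.A_le_range.trans hr1
  obtain ⟨M2, hM2n, hM2i, hnM2⟩ := Cfsg.Lib.Transfer.exists_index_two_not_mem (B.A.subgroupOf M1)
    (m := Nat.card M1 / 32) (by
      rw [Nat.odd_iff]
      by_contra h
      obtain ⟨k, hk⟩ := h64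
      exact h128 ⟨Nat.card M1 / 64, by omega⟩)
    (by
      have := (B.A.subgroupOf M1).card_mul_index
      rw [Nat.card_congr (subgroupOfEquivOfLe hAM).toEquiv, B.card_A] at this
      obtain ⟨k, hk⟩ := h64
      omega)
    (u := (⟨n, hnM⟩ : M1)) (orderOf_eq_prime (by rw [pow_two]; exact Subtype.ext hns.1)
      fun e => (B.isSwap_ne hns).2 (congrArg Subtype.val e)) fun g hg => by
    have hg' : (g : G)⁻¹ * n * (g : G) ∈ B.A := hg
    set x := (g : G)⁻¹ * n * (g : G) with hx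
    have hn' : n = (g : G) * x * (g : G)⁻¹ := by rw [hx]; group
    obtain ⟨a, ha, b, hb, he⟩ := B.mem_A.1 hg'
    by_cases hax : B.Axial x
    · refine B.swap_not_U hns (hn' ▸ B.toLoc.isU_conj (B.isU_axial hax fun e => (B.isSwap_ne hns).2 ?_) _)
      rw [hn', e]; group
    have ha1 : a ≠ 1 := fun e => hax ⟨b, hb, Or.inr (by rw [← he, e])⟩
    have hb1 : b ≠ 1 := fun e => hax ⟨a, ha, Or.inl (by rw [← he, e])⟩
    obtain ⟨c, -, hc⟩ := B.diag_conj ha hb ha1 hb1
    exact B.p0_not_swap hns ((g : G) * c) (by rw [hn', ← he, ← hc]; group)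
  set K := M2.map M1.subtype with hK
  have hKle : K ≤ M1 := map_subtype_le _
  have hnK : n ∉ K := fun h => by
    obtain ⟨y, hy, e⟩ := h
    exact hnM2 ((show y = ⟨n, hnM⟩ from Subtype.ext e) ▸ hy)
  have hKmem : ∀ {x : G} (hx : x ∈ M1), x ∈ K ↔ (⟨x, hx⟩ : M1) ∈ M2 := fun {x} hx =>
    ⟨fun ⟨y, hy, e⟩ => (show y = ⟨x, hx⟩ from Subtype.ext e) ▸ hy, fun h => ⟨_, h, rfl⟩⟩
  have hK2 : 2 * Nat.card K = Nat.card M1 := by
    rw [hK, card_map_of_injective M1.subtype_injective, ← M2.card_mul_index, hM2i, mul_comm]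
  have hKi : K.index = 4 := by
    have := K.card_mul_index
    have hpos : 0 < Nat.card K := Nat.card_pos
    nlinarith
  have hsq1 : ∀ y ∈ M1, y * y ∈ K := fun y hy => by
    rw [hKmem (mul_mem hy hy)]; exact mul_self_mem_of_index_two hM2i (⟨y, hy⟩ : M1)
  have hrK : B.φ.range ≤ K := B.sq_range K fun a =>
    ⟨by rw [map_mul]; exact hsq1 _ (hr1 ⟨(a, 1), B.φ_left a⟩), by rw [map_mul]; exact hsq1 _ (hr1 ⟨(1, a), B.φ_right a⟩)⟩
  have hKn : K.Normal := ⟨fun k hk g => by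
    set g' := MulAut.conj g
    set K' := K.map g'.toMonoidHom with hK'
    have hK'le : K' ≤ M1 := by
      rintro _ ⟨y, hy, rfl⟩
      exact hM1n.conj_mem y (hKle hy) g
    have hA' : B.A ≤ K' := by
      refine (B.A_le_range).trans (B.sq_range K' fun a => ?_)
      have key : ∀ y ∈ M1, y * y ∈ K' := fun y hy =>
        ⟨g'.symm y * g'.symm y, hsq1 _ (by simpa [g'] using hM1n.conj_mem y hy g⁻¹), by simp⟩
      exact ⟨by rw [map_mul]; exact key _ (hr1 ⟨(a, 1), B.φ_left a⟩),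
        by rw [map_mul]; exact key _ (hr1 ⟨(1, a), B.φ_right a⟩)⟩
    have heq : K' = K := by
      by_contra hne
      have hc : Nat.card K' = Nat.card K := card_map_of_injective g'.injective
      obtain ⟨a, haK', haK⟩ : ∃ a ∈ K', a ∉ K := by
        by_contra hcon
        push Not at hcon
        exact hne (eq_of_le_of_card_ge hcon hc.ge)
      have hi : ((K ⊓ K').subgroupOf K').index = 2 := by
        rw [index_eq_two_iff]
        refine ⟨⟨a, haK'⟩, fun b => ?_⟩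
        have hb : ∀ y ∈ K', (y ∈ K ⊓ K' ↔ y ∈ K) := fun y hy => ⟨fun h => h.1, fun h => ⟨h, hy⟩⟩
        rw [mem_subgroupOf, mem_subgroupOf, coe_mul, hb _ (mul_mem b.2 haK'), hb _ b.2,
          hKmem (mul_mem (hK'le b.2) (hK'le haK')), hKmem (hK'le b.2)]
        rw [hKmem (hK'le haK')] at haK
        have h := mul_mem_iff_of_index_two hM2i (a := (⟨b, hK'le b.2⟩ : M1)) (b := ⟨a, hK'le haK'⟩)
        by_cases hb' : (⟨b, hK'le b.2⟩ : M1) ∈ M2
        · exact Or.inr ⟨hb', fun e => haK ((h.1 e).1 hb')⟩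
        · exact Or.inl ⟨h.2 (iff_of_false hb' haK), hb'⟩
      have h1 := ((K ⊓ K').subgroupOf K').card_mul_index
      rw [hi, Nat.card_congr (subgroupOfEquivOfLe inf_le_right).toEquiv] at h1
      have h16 : 16 ∣ Nat.card ↥(K ⊓ K') := B.card_A ▸ card_dvd_of_le (le_inf (B.A_le_range.trans hrK) hA')
      obtain ⟨k, hk⟩ := h16
      exact h128 ⟨k, by omega⟩
    exact heq ▸ mem_map_of_mem g'.toMonoidHom hk⟩
  have hτK : B.tau ∉ K := fun h => hτ (hKle h)
  have hcases : ∀ g : G, g ∈ K ∨ g * B.tau ∈ K ∨ g * n ∈ K ∨ g * (n * B.tau) ∈ K := by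
    have hstep : ∀ g ∈ M1, g ∈ K ∨ g * n ∈ K := fun g hg => by
      by_cases h : g ∈ K
      · exact Or.inl h
      · rw [hKmem hg] at h
        exact Or.inr ((hKmem (mul_mem hg hnM)).2
          ((mul_mem_iff_of_index_two hM2i (a := (⟨g, hg⟩ : M1)) (b := ⟨n, hnM⟩)).2 (iff_of_false h hnM2)))
    intro g
    by_cases hg : g ∈ M1
    · rcases hstep g hg with h | h
      exacts [Or.inl h, Or.inr (Or.inr (Or.inl h))]
    · have hg' : g * B.tau ∈ M1 := (mul_mem_iff_of_index_two hM1i).2 (iff_of_false hg hτ)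
      rcases hstep _ hg' with h | h
      · exact Or.inr (Or.inl h)
      · refine Or.inr (Or.inr (Or.inr ?_))
        have e : g * (n * B.tau) = g * B.tau * n * ((n⁻¹ * B.tau⁻¹) * (n * B.tau)) := by group
        rw [e]
        refine mul_mem h ?_
        have h1 : B.tau * n * B.tau⁻¹ * n⁻¹ ∈ K := hrK (B.D_le_range (B.M_z
          (mul_mem (mul_mem (mul_mem B.tau_M hnMM) (inv_mem B.tau_M)) (inv_mem hnMM)) ?_))
        · rw [B.tau_inv, inv_eq_of_mul_eq_one_right hns.1] at h1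
          rw [B.tau_inv, inv_eq_of_mul_eq_one_right hns.1]
          have := hKn.conj_mem _ h1 n
          rw [inv_eq_of_mul_eq_one_right hns.1] at this
          convert this using 1
          rw [show n * (B.tau * n * B.tau * n) * n = n * B.tau * n * B.tau * (n * n) by group, hns.1, mul_one]
          simp only [mul_assoc]
        · have hti : B.tau⁻¹ * B.toLoc.z * B.tau⁻¹⁻¹ = B.toLoc.z⁻¹ := by rw [B.tau_inv]; exact B.tau_z
          refine mul_inv_eq_iff_eq_mul.1 ?_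
          rw [show B.tau * n * B.tau⁻¹ * n⁻¹ * B.toLoc.z * (B.tau * n * B.tau⁻¹ * n⁻¹)⁻¹
            = B.tau * (n * (B.tau⁻¹ * (n⁻¹ * B.toLoc.z * n) * B.tau) * n⁻¹) * B.tau⁻¹ by group,
            B.tau_inv, inv_eq_of_mul_eq_one_right hns.1]
          have hsw : ∀ {a b : G}, n * a * n⁻¹ = b → n * b * n⁻¹ = a := fun h => swap_back hns.1 h
          rw [inv_eq_of_mul_eq_one_right hns.1] at hsw
          have hnz := hns.2.2
          rw [inv_eq_of_mul_eq_one_right hns.1] at hnz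
          have htw := B.tau_w
          rw [B.tau_inv] at htw
          have htz := B.tau_z
          rw [B.tau_inv] at htz
          have cinv : ∀ x y : G, x * x = 1 → x * y⁻¹ * x = (x * y * x)⁻¹ := fun x y hx => by
            rw [mul_inv_rev, mul_inv_rev, inv_eq_of_mul_eq_one_right hx, mul_assoc]
          rcases hnz with e | e <;> rw [e]
          · rw [htw, cinv _ _ hns.1, hsw e, cinv _ _ B.tau_sq, htz, inv_inv]
          · rw [cinv _ _ B.tau_sq, htw, inv_inv,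
              show n * B.toLoc.w * n = (n * B.toLoc.w⁻¹ * n)⁻¹ by rw [cinv _ _ hns.1, inv_inv], hsw e,
              cinv _ _ B.tau_sq, htz, inv_inv]
  have hsq : ∀ g : G, g * g ∈ K := by
    have key : ∀ (s g : G), s * s ∈ K → g * s ∈ K → g * g ∈ K := fun s g hs hg => by
      have e : g * g = g * s * (s⁻¹ * (g * s) * s⁻¹⁻¹) * (s * s)⁻¹ := by group
      rw [e]
      exact mul_mem (mul_mem hg (hKn.conj_mem _ hg _)) (inv_mem hs)
    intro g
    rcases hcases g with h | h | h | h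
    · exact mul_mem h h
    · exact key B.tau g (by rw [B.tau_sq]; exact one_mem _) h
    · exact key n g (by rw [hns.1]; exact one_mem _) h
    · exact key _ g (hrK (B.D_le_range (B.M_sq (mul_mem hnMM B.tau_M)))) h
  refine ⟨K, hKn, hKi, hrK, hsq, hτK, fun x hx hM => ?_⟩
  -- the common normaliser meets the subgroup in the torus
  obtain ⟨d, hd, h⟩ := B.M_cases hM
  have hdK : d ∈ K := hrK (B.D_le_range hd)
  have hcancel : ∀ {y : G}, y * d ∈ K → y ∈ K := fun h => (mul_mem_cancel_right hdK).1 h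
  have hiK : B.inv₂ ∈ K → False := fun h => by
    obtain ⟨d', hd', h'⟩ := B.M_cases hnMM
    rcases h' with e | e | e | e
    · exact hnK (hrK (B.D_le_range (e ▸ hd')))
    · exact hτ ((mul_mem_cancel_right (hKle (hrK (B.D_le_range hd')))).1 (e ▸ hnM))
    · exact hnK (e ▸ mul_mem h (hrK (B.D_le_range hd')))
    · exact hτ ((mul_mem_cancel_left (hKle h)).1
        ((mul_mem_cancel_right (hKle (hrK (B.D_le_range hd')))).1 (e ▸ hnM)))
  rcases h with e | e | e | e
  · rw [e]; exact hd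
  · exact absurd (hcancel (e ▸ hx)) hτK
  · exact (hiK (hcancel (e ▸ hx))).elim
  · exfalso
    have hit : B.inv₂ * B.tau ∈ K := hcancel (e ▸ hx)
    obtain ⟨d', hd', h'⟩ := B.M_cases hnMM
    rcases h' with e' | e' | e' | e'
    · exact hnK (hrK (B.D_le_range (e' ▸ hd')))
    · exact hτ ((mul_mem_cancel_right (hKle (hrK (B.D_le_range hd')))).1 (e' ▸ hnM))
    · exact hτ ((mul_mem_cancel_left ((mul_mem_cancel_right (hKle (hrK (B.D_le_range hd')))).1 (e' ▸ hnM))).1 (hKle hit))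
    · exact hnK (e' ▸ mul_mem hit (hrK (B.D_le_range hd')))

end Cfsg.Lib.SymEightLocal.Crossed
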